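import Groth.Agent.L07.Count.Spread
import Groth.Agent.L05.ModelFG
import Groth.Agent.L06.Constr

/-!
The level sets of the geometric numbers of components of the fibres are constructible (EGA IV 9.7.9).
-/

universe u

open CategoryTheory CategoryTheory.Limits AlgebraicGeometry Topology

namespace Groth.L07.Count

set_option autoImplicit false
set_option linter.style.haveILetI false
set_option maxSynthPendingDepth 3
set_option backward.isDefEq.respectTransparency.types false
set_option backward.isDefEq.respectTransparency false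

/-- The pair of geometric numbers of components of a fibre. -/
noncomputable def nPair {X Y : Scheme.{u}} (f : X ⟶ Y) (y : Y) : ℕ∞ × ℕ∞ :=
  (MoreMor.nGeomConnComp f y, MoreMor.nGeomIrredComp f y)

theorem nPair_of_isPullback {X Y X' Y' : Scheme.{u}} {f : X ⟶ Y} {f' : X' ⟶ Y'} {g' : X' ⟶ X} {g : Y' ⟶ Y}
    (hc : IsPullback g' f' f g) (y' : Y') : nPair f' y' = nPair f (g y') :=
  Prod.ext (nGeomConnComp_of_isPullback f hc y') (nGeomIrredComp_of_isPullback f hc y')

/-- Over a noetherian base the level sets are constructible. -/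
theorem isConstructible_nPair_of_isNoetherian {X Y : Scheme.{u}} (f : X ⟶ Y) [IsNoetherian Y] [LocallyOfFiniteType f]
    [QuasiCompact f] (S : Set (ℕ∞ × ℕ∞)) : IsConstructible (nPair f ⁻¹' S) := by
  refine Groth.L06.Constr.isConstructible_of_forall_irreducible fun T hT hTi => ?_
  obtain ⟨η, hη⟩ : ∃ η, IsGenericPoint η T := QuasiSober.sober hTi hT
  obtain ⟨W, hW, hηW, hWc⟩ := exists_locallyClosed_count f η
  refine ⟨W, hW, ⟨η, hηW, hη.mem⟩, ?_⟩
  have hc : ∀ z ∈ W ∩ T, nPair f z = nPair f η := fun z hz =>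
    Prod.ext (hWc z hz.1 (hη.def.symm ▸ hz.2)).1 (hWc z hz.1 (hη.def.symm ▸ hz.2)).2
  by_cases h : nPair f η ∈ S
  · exact Or.inl fun z hz => show nPair f z ∈ S from (hc z hz).symm ▸ h
  · exact Or.inr fun z hz hm => h (hc z hz ▸ hm)

/-- Over an affine base the level sets are constructible. -/
theorem isConstructible_nPair_of_affine {A : Type u} [CommRing A] {X : Scheme.{u}} (f : X ⟶ Spec (CommRingCat.of A))
    [LocallyOfFinitePresentation f] [QuasiCompact f] [QuasiSeparated f] (S : Set (ℕ∞ × ℕ∞)) :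
    IsConstructible (nPair f ⁻¹' S) := by
  obtain ⟨A₀, hA₀, X₀, f₀, p₀, -, h1, h2, sq⟩ := Groth.L05.ModelFG.exists_model (A := A)
    (P := (⊤ : MorphismProperty Scheme.{u})) (by intro I _ _ D c _ hc i _ X a _ _; exact ⟨i, 𝟙 i, trivial⟩) f trivial
  haveI := h1
  haveI := h2
  haveI : Algebra.FiniteType ℤ A₀ := A₀.fg_iff_finiteType.mp hA₀
  haveI : IsNoetherianRing A₀ := Algebra.FiniteType.isNoetherianRing ℤ A₀
  haveI : IsNoetherian (Spec (CommRingCat.of ↥A₀)) := ⟨⟩
  rw [show nPair f ⁻¹' S = (Spec.map (CommRingCat.ofHom (algebraMap (↥A₀) A))).base ⁻¹' (nPair f₀ ⁻¹' S) from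
    Set.ext fun y => by
      show nPair f y ∈ S ↔ nPair f₀ _ ∈ S
      rw [nPair_of_isPullback sq]]
  exact (Spec.map (CommRingCat.ofHom (algebraMap (↥A₀) A))).isConstructible_preimage
    (isConstructible_nPair_of_isNoetherian f₀ S)

/-- The level sets of the numbers of geometric components are locally constructible. -/
theorem isLocallyConstructible_nPair {X Y : Scheme.{u}} (f : X ⟶ Y) [LocallyOfFinitePresentation f] [QuasiCompact f]
    [QuasiSeparated f] (S : Set (ℕ∞ × ℕ∞)) : IsLocallyConstructible (nPair f ⁻¹' S) := by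
  intro y
  obtain ⟨_, ⟨V, hV, rfl⟩, hyV, -⟩ := Y.isBasis_affineOpens.exists_subset_of_mem_open (Set.mem_univ y) isOpen_univ
  refine ⟨V, V.isOpen.mem_nhds hyV, V.isOpen, ?_⟩
  have hS := isConstructible_nPair_of_affine (pullback.snd f hV.fromSpec) S
  let e : (Spec Γ(Y, V) : Scheme.{u}) ≃ₜ ↥(V : Set Y) :=
    hV.fromSpec.isOpenEmbedding.toIsEmbedding.toHomeomorph.trans (Homeomorph.setCongr hV.range_fromSpec)
  have := hS.preimage_of_isOpenEmbedding e.symm.isOpenEmbedding
  convert this using 1
  ext z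
  have hz : hV.fromSpec (e.symm z) = z.1 := congrArg Subtype.val (e.apply_symm_apply z)
  show nPair f z.1 ∈ S ↔ nPair (pullback.snd f hV.fromSpec) (e.symm z) ∈ S
  rw [nPair_of_isPullback (IsPullback.of_hasPullback f hV.fromSpec), hz]

end Groth.L07.Count
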