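import Groth.Agent.L07.Count.Valuative
import Groth.Agent.L07.Count.Constr
import Groth.Agent.L07.UnivOpenAt
import Groth.Agent.L19.Closure
import Mathlib.AlgebraicGeometry.ZariskisMainTheorem
import Mathlib.AlgebraicGeometry.Morphisms.FormallyUnramified

/-!
Lower semicontinuity of the number of geometric points and properness where it is constant (EGA IV 15.5.1, 15.5.9).
-/

universe u

open CategoryTheory CategoryTheory.Limits AlgebraicGeometry Groth.L07.Spread Topology

namespace Groth.L07.Count

set_option autoImplicit false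
set_option linter.style.haveILetI false
set_option maxSynthPendingDepth 3
set_option backward.isDefEq.respectTransparency.types false
set_option backward.isDefEq.respectTransparency false

/-- A locally constructible set containing all generizations of a point is a neighbourhood of it. -/
theorem mem_nhds_of_isLocallyConstructible {Y : Scheme.{u}} {E : Set Y} (hE : IsLocallyConstructible E) {y : Y}
    (h : ∀ z, z ⤳ y → z ∈ E) : E ∈ 𝓝 y := by
  obtain ⟨V, hV, hyV, -⟩ := exists_isAffineOpen_mem_and_subset (X := Y) (x := y) (U := ⊤) trivial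
  obtain ⟨p, hp⟩ : y ∈ Set.range hV.fromSpec := by rw [hV.range_fromSpec]; exact hyV
  have hE' : IsConstructible (X := PrimeSpectrum Γ(Y, V)) (hV.fromSpec.base ⁻¹' E) :=
    (hE.preimage_of_isOpenEmbedding hV.fromSpec.isOpenEmbedding).isConstructible_of_subset_of_isCompact
      (Set.subset_univ _) isCompact_univ
  have h2 := Groth.L07.UnivOpenAt.mem_nhds_of_isConstructible hE' (p := p) fun q hq =>
    h _ (hp ▸ hq.map hV.fromSpec.continuous)
  rw [← hp]
  exact Filter.mem_of_superset (hV.fromSpec.isOpenEmbedding.isOpenMap.image_mem_nhds h2) (Set.image_preimage_subset _ _)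

variable {X Y : Scheme.{u}} (f : X ⟶ Y)

/-- Lower semicontinuity at a point over which the morphism is universally open. -/
theorem nGeomConnComp_le_nhds [LocallyOfFinitePresentation f] [IsSeparated f] [LocallyQuasiFinite f] [QuasiCompact f]
    (y : Y) (hopen : ∀ x, f x = y → EGA43.IsUnivOpenAt f x) :
    ∃ V ∈ 𝓝 y, ∀ z ∈ V, MoreMor.nGeomConnComp f y ≤ MoreMor.nGeomConnComp f z :=
  ⟨nPair f ⁻¹' {p | MoreMor.nGeomConnComp f y ≤ p.1},
    mem_nhds_of_isLocallyConstructible (isLocallyConstructible_nPair f _) fun _ hz =>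
      nGeomConnComp_le_of_specializes f hz hopen, fun _ hz => hz⟩

/-- Where all geometric points extend along valuation rings centred over a point the morphism is proper near it. -/
theorem isProper_nhd_of_const [IsSeparated f] [LocallyQuasiFinite f] [LocallyOfFiniteType f] [QuasiCompact f]
    (y : Y) (hopen : ∀ x, f x = y → EGA43.IsUnivOpenAt f x)
    (hc : ∀ z, z ⤳ y → MoreMor.nGeomConnComp f z = MoreMor.nGeomConnComp f y) :
    ∃ U : Y.Opens, y ∈ U ∧ IsProper (f ∣_ U) := by
  let N := f.normalization
  let j : X ⟶ N := f.toNormalization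
  let q : N ⟶ Y := f.fromNormalization
  have hjq : j ≫ q = f := f.toNormalization_fromNormalization
  haveI : IsOpenImmersion j := inferInstanceAs (IsOpenImmersion f.toNormalization)
  haveI : QuasiCompact (j ≫ q) := hjq.symm ▸ ‹_›
  haveI : QuasiCompact j := QuasiCompact.of_comp j q
  let Bd : Set N := closure (Set.range j) ∩ (Set.range j)ᶜ
  have hBd : IsClosed Bd := isClosed_closure.inter j.isOpenEmbedding.isOpen_range.isClosed_compl
  let U : Y.Opens := ⟨(q '' Bd)ᶜ, (q.isClosedMap _ hBd).isOpen_compl⟩
  have hy : y ∈ U := by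
    rintro ⟨b, ⟨hbc, hbn⟩, hby⟩
    obtain ⟨x, hx⟩ := Groth.L19.exists_specializes_of_mem_closure_range j hbc
    let Ω := AlgebraicClosure (X.residueField x)
    let s : Spec (CommRingCat.of Ω) ⟶ X :=
      Spec.map (CommRingCat.ofHom (algebraMap (X.residueField x) Ω)) ≫ X.fromSpecResidueField x
    have hs : ∀ c, s c = x := fun c => by
      rw [Scheme.Hom.comp_apply]
      exact Scheme.fromSpecResidueField_apply _ _
    obtain ⟨A, t, htc, htg⟩ := exists_valuation (s ≫ j) (y' := j x) (fun c => by rw [Scheme.Hom.comp_apply, hs]) hx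
    have hfz : f x ⤳ y := by
      rw [← hjq, Scheme.Hom.comp_apply, ← hby]
      exact hx.map q.continuous
    have hyt : (t ≫ q) (IsLocalRing.closedPoint A) = y := by rw [Scheme.Hom.comp_apply, htc, hby]
    have hgen : ∀ c, (specAlg A Ω ≫ t ≫ q) c = f x := fun c => by
      rw [← Category.assoc, htg, Category.assoc, hjq, Scheme.Hom.comp_apply, hs]
    obtain ⟨-, hsurj⟩ := nGeomConnComp_le_and f A (t ≫ q) (f x) hgen (by rw [hyt]; exact hopen)
    obtain ⟨σ, hσ⟩ := hsurj (by rw [hyt, hc _ hfz]) ⟨s, ((show specAlg A Ω ≫ t ≫ q = (s ≫ j) ≫ q by rw [← Category.assoc, htg]).trans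
        ((Category.assoc s j q).trans (congrArg (s ≫ ·) hjq))).symm⟩
    haveI := isDominant_specAlg A
    have hσt : σ.1 ≫ j = t := ext_of_isDominant_of_isSeparated q (by rw [Category.assoc, hjq, σ.2]) (specAlg A Ω)
      ((Category.assoc _ _ _).symm.trans ((congrArg (· ≫ j) (show specAlg A Ω ≫ σ.1 = s from congrArg Subtype.val hσ)).trans htg.symm))
    exact hbn ⟨σ.1 (IsLocalRing.closedPoint A), by rw [← Scheme.Hom.comp_apply, hσt, htc]⟩
  refine ⟨U, hy, ?_⟩
  haveI : IsClosedImmersion (j ∣_ (q ⁻¹ᵁ U)) := by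
    refine IsClosedImmersion.of_isPreimmersion _ ?_
    have : Set.range (j ∣_ (q ⁻¹ᵁ U)) = (Subtype.val ⁻¹' closure (Set.range j) : Set ↥(q ⁻¹ᵁ U)) := by
      ext w
      constructor
      · rintro ⟨v, rfl⟩
        refine subset_closure ⟨(j ⁻¹ᵁ (q ⁻¹ᵁ U)).ι v, ?_⟩
        rw [← Scheme.Hom.comp_apply, ← morphismRestrict_ι]
        rfl
      · intro hw
        obtain ⟨v, hv⟩ : w.1 ∈ Set.range j := by_contra fun hn => (w.2 : q w.1 ∈ U) ⟨w.1, ⟨hw, hn⟩, rfl⟩
        refine ⟨⟨v, show j v ∈ q ⁻¹ᵁ U from hv.symm ▸ w.2⟩, Subtype.ext ?_⟩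
        rw [morphismRestrict_base_coe]
        exact hv
    rw [this]
    exact isClosed_closure.preimage continuous_subtype_val
  haveI : UniversallyClosed (f ∣_ U) := by
    rw [← MorphismProperty.arrow_mk_iso_iff @UniversallyClosed
      (morphismRestrictEq _ (rfl : U = U) ≪≫ eqToIso (by rw [hjq]) : Arrow.mk ((j ≫ q) ∣_ U) ≅ Arrow.mk (f ∣_ U)),
      morphismRestrict_comp]
    infer_instance
  exact { }

/-- Two lifts along a valuation ring of an unramified morphism which agree at the closed point are equal. -/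
theorem resCl_injective {Ω : Type u} [Field Ω] (A : ValuationSubring Ω) (t : Spec (CommRingCat.of A) ⟶ Y)
    [FormallyUnramified f] [LocallyOfFiniteType f] : Function.Injective (resCl f A t) := fun σ τ h => by
  let m : Spec (CommRingCat.of A) ⟶ pullback f f := pullback.lift σ.1 τ.1 (σ.2.trans τ.2.symm)
  let k := IsLocalRing.ResidueField A
  let c : Spec (CommRingCat.of k) := IsLocalRing.closedPoint k
  have h1 : clPt A ≫ m = (clPt A ≫ σ.1) ≫ pullback.diagonal f := by
    apply pullback.hom_ext
    · simp [m]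
    · simp only [m, Category.assoc, pullback.lift_snd, pullback.diagonal_snd, Category.comp_id]
      exact (congrArg Subtype.val h).symm
  have hm : m (IsLocalRing.closedPoint A) ∈ Set.range (pullback.diagonal f) := by
    refine ⟨(clPt A ≫ σ.1) c, ?_⟩
    rw [← Scheme.Hom.comp_apply, ← h1, Scheme.Hom.comp_apply, clPt_apply]
  have hrange : Set.range m ⊆ Set.range (pullback.diagonal f) := by
    rintro _ ⟨p, rfl⟩
    exact ((IsLocalRing.specializes_closedPoint p).map m.continuous).mem_open
      (pullback.diagonal f).isOpenEmbedding.isOpen_range hm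
  have h2 := IsOpenImmersion.lift_fac (pullback.diagonal f) m hrange
  have hs := congrArg (· ≫ pullback.fst f f) h2
  have ht := congrArg (· ≫ pullback.snd f f) h2
  simp only [m, Category.assoc, pullback.diagonal_fst, pullback.diagonal_snd, Category.comp_id, pullback.lift_fst,
    pullback.lift_snd] at hs ht
  exact Subtype.ext (hs.symm.trans ht)

end Groth.L07.Count
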