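import Groth.Agent.L07.Count.Field
import Groth.Agent.L07.Spread.Conn
import Mathlib.FieldTheory.IsAlgClosed.AlgebraicClosure
import Mathlib.RingTheory.Localization.FractionRing

/-!
The geometric numbers of components of the fibres are constant near the generic point (EGA IV 9.7.8).
-/

universe u

open CategoryTheory CategoryTheory.Limits AlgebraicGeometry Groth.L07.Spread

namespace Groth.L07.Count

set_option autoImplicit false
set_option linter.style.haveILetI false
set_option maxSynthPendingDepth 3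
set_option backward.isDefEq.respectTransparency.types false
set_option backward.isDefEq.respectTransparency false

/-- Each irreducible component of a noetherian space has a point outside all the others. -/
theorem exists_mem_notMem_components {P : Type*} [TopologicalSpace P] [Finite (irreducibleComponents P)]
    (i : irreducibleComponents P) : ∃ z ∈ (i.1 : Set P), ∀ k : irreducibleComponents P, k ≠ i → z ∉ k.1 := by
  classical
  cases nonempty_fintype (irreducibleComponents P)
  by_contra! hne
  obtain ⟨t, ht, hsub⟩ := isIrreducible_iff_sUnion_isClosed.mp i.2.1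
    ((Finset.univ.filter fun k => k ≠ i).image (fun k : irreducibleComponents P => k.1))
    (fun z hz => by
      obtain ⟨k, -, rfl⟩ := Finset.mem_image.mp hz
      exact isClosed_of_mem_irreducibleComponents _ k.2)
    (fun z hz => by
      obtain ⟨k, hk, hzk⟩ := hne z hz
      exact Set.mem_sUnion.mpr ⟨k.1, Finset.mem_coe.mpr (Finset.mem_image.mpr ⟨k, by simp [hk], rfl⟩), hzk⟩)
  obtain ⟨k, hk, rfl⟩ := Finset.mem_image.mp ht
  exact (Finset.mem_filter.mp hk).2 (Subtype.ext ((i.2.2 k.2.1 hsub).antisymm hsub))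

variable {A : Type u} [CommRing A] {X : Scheme.{u}} (h : X ⟶ Spec (CommRingCat.of A))

/-- A closed subset without points over the generic point has none over a nonempty open. -/
theorem exists_forall_mem_asIdeal [IsDomain A] [LocallyOfFiniteType h] [QuasiCompact h] (F : Set X) (hF : IsClosed F)
    (hgen : ∀ x ∈ F, (h x).asIdeal ≠ ⊥) : ∃ a : A, a ≠ 0 ∧ ∀ x ∈ F, a ∈ (h x).asIdeal := by
  let I := Scheme.IdealSheafData.vanishingIdeal (X := X) ⟨F, hF⟩
  have hr : Set.range I.subschemeι = F := by
    rw [Scheme.IdealSheafData.range_subschemeι, Scheme.IdealSheafData.coe_support_vanishingIdeal]; rfl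
  obtain ⟨a, ha, hmem⟩ := exists_forall_mem_of_generic (I.subschemeι ≫ h) ∅ isClosed_empty fun z hz =>
    ((hgen (I.subschemeι z) (by rw [← hr]; exact ⟨z, rfl⟩)) (by rw [← Scheme.Hom.comp_apply]; exact hz)).elim
  refine ⟨a, ha, fun x hx => ?_⟩
  obtain ⟨z, rfl⟩ : x ∈ Set.range I.subschemeι := hr ▸ hx
  by_contra hm
  exact hmem z (by rw [Scheme.Hom.comp_apply]; exact hm)

/-- For a morphism of finite type to the spectrum of a domain the numbers of components of the geometric fibres
are constant over a nonempty open. -/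
theorem exists_forall_count [IsDomain A] [LocallyOfFiniteType h] [QuasiCompact h]
    (Ω : Type u) [Field Ω] [IsAlgClosed Ω] [Algebra A Ω] [Algebra.IsAlgebraic A Ω]
    (hΩ : Function.Injective (algebraMap A Ω)) :
    ∃ a : A, a ≠ 0 ∧ ∀ (K : Type u) [Field K] [IsAlgClosed K] [Algebra A K], algebraMap A K a ≠ 0 →
      nConn (pullback h (specAlg A K)) = nConn (pullback h (specAlg A Ω)) ∧
      nIrr (pullback h (specAlg A K)) = nIrr (pullback h (specAlg A Ω)) := by
  classical
  let P : Scheme.{u} := pullback h (specAlg A Ω)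
  haveI : IsLocallyNoetherian P := LocallyOfFiniteType.isLocallyNoetherian (pullback.snd h (specAlg A Ω))
  haveI : CompactSpace P := QuasiCompact.compactSpace_of_compactSpace (pullback.snd h (specAlg A Ω))
  haveI : IsNoetherian P := ⟨⟩
  haveI : Finite (irreducibleComponents P) := TopologicalSpace.NoetherianSpace.finite_irreducibleComponents.to_subtype
  let T : irreducibleComponents P → Set P := fun i => i.1
  have hTc : ∀ i, IsClosed (T i) := fun i => isClosed_of_mem_irreducibleComponents _ i.2
  have hTi : ∀ i, IsIrreducible (T i) := fun i => i.2.1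
  have hTcov : ∀ z, ∃ i, z ∈ T i := fun z =>
    ⟨⟨_, irreducibleComponent_mem_irreducibleComponents z⟩, mem_irreducibleComponent⟩
  choose zO hzO hzO' using fun i : irreducibleComponents P => exists_mem_notMem_components i
  obtain ⟨A', hA', hstage⟩ := exists_stage_closed h Ω T hTc
  haveI : Algebra.FiniteType A A' := (Subalgebra.fg_iff_finiteType A').mp hA'
  haveI : Algebra.IsAlgebraic A' Ω :=
    Algebra.IsAlgebraic.extendScalars (R := A) (fun a b hab => hΩ (congrArg Subtype.val hab :))
  let X' : Scheme.{u} := pullback h (specAlg A A')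
  let h' : X' ⟶ Spec (CommRingCat.of A') := pullback.snd h (specAlg A A')
  let q : P ⟶ X' := bcTo h A'.val
  let C : irreducibleComponents P → Set X' := fun i => closure (q '' T i)
  have hqpre : ∀ i, q ⁻¹' C i = T i := fun i =>
    (hstage i).antisymm fun z hz => subset_closure ⟨z, hz, rfl⟩
  have hker : RingHom.ker (algebraMap A' Ω) = ⊥ :=
    (RingHom.injective_iff_ker_eq_bot _).mp Subtype.val_injective
  let e' : pullback h' (specAlg A' Ω) ≅ P :=
    pullbackLeftPullbackSndIso h (specAlg A A') (specAlg A' Ω) ≪≫ pullback.congrHom rfl (by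
      rw [← Spec.map_comp, ← CommRingCat.ofHom_comp, ← IsScalarTower.algebraMap_eq])
  have he' : e'.hom ≫ q = pullback.fst h' (specAlg A' Ω) := by
    apply pullback.hom_ext
    · simp [e', q, h']
    · simp [e', q, h']
      rw [pullback.condition]
      rfl
  have hfst : ∀ z, pullback.fst h' (specAlg A' Ω) z = q (e'.hom z) := fun z => by
    rw [← Scheme.Hom.comp_apply, he']
  have hqgen : ∀ z : P, (h' (q z)).asIdeal = ⊥ := fun z => by
    obtain ⟨w, rfl⟩ := e'.hom.surjective z
    rw [← hfst, asIdeal_fst, hker]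
  have hgenq : ∀ x : X', (h' x).asIdeal = ⊥ → ∃ z, q z = x := fun x hx => by
    obtain ⟨z, rfl⟩ := exists_fst_eq h' Ω x (hx.trans hker.symm)
    exact ⟨e'.hom z, (hfst z).symm⟩
  -- the covering
  obtain ⟨a₀, ha₀, hcov⟩ := exists_forall_mem_of_generic h' (⋃ i, C i) (isClosed_iUnion_of_finite fun i => isClosed_closure)
    fun x hx => by
      obtain ⟨z, rfl⟩ := hgenq x hx
      obtain ⟨i, hi⟩ := hTcov z
      exact Set.mem_iUnion.mpr ⟨i, subset_closure ⟨_, hi, rfl⟩⟩
  -- each piece
  have hpiece : ∀ i, ∃ a : A', a ≠ 0 ∧ ∀ (K : Type u) [Field K] [Algebra A' K], algebraMap A' K a ≠ 0 →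
      IsIrreducible (pullback.fst h' (specAlg A' K) ⁻¹' C i) := by
    intro i
    let I := Scheme.IdealSheafData.vanishingIdeal (X := X') ⟨C i, isClosed_closure⟩
    have hr : Set.range I.subschemeι = C i := by
      rw [Scheme.IdealSheafData.range_subschemeι, Scheme.IdealSheafData.coe_support_vanishingIdeal]; rfl
    have key : ∀ (K : Type u) [Field K] [Algebra A' K],
        IrreducibleSpace (pullback (I.subschemeι ≫ h') (specAlg A' K) : Scheme.{u}) ↔
          IsIrreducible (pullback.fst h' (specAlg A' K) ⁻¹' C i) := fun K _ _ => by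
      let j := pullback.snd I.subschemeι (pullback.fst h' (specAlg A' K))
      have hjr : Set.range j = pullback.fst h' (specAlg A' K) ⁻¹' C i := by
        rw [Scheme.Pullback.range_snd, hr]
      rw [← (pullbackRightPullbackFstIso h' (specAlg A' K) I.subschemeι).hom.homeomorph.irreducibleSpace_iff, ← hjr,
        j.isEmbedding.toHomeomorph.irreducibleSpace_iff]
      exact ⟨fun _ => IsIrreducible.of_subtype, fun h => Subtype.irreducibleSpace h⟩
    haveI : IrreducibleSpace (pullback (I.subschemeι ≫ h') (specAlg A' Ω) : Scheme.{u}) := (key Ω).mpr (by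
      have : pullback.fst h' (specAlg A' Ω) ⁻¹' C i = e'.inv '' T i := by
        ext z
        rw [Set.mem_preimage, hfst, ← Set.mem_preimage, hqpre]
        exact ⟨fun hz => ⟨_, hz, by rw [← Scheme.Hom.comp_apply, e'.hom_inv_id]; rfl⟩, by
          rintro ⟨w, hw, rfl⟩
          rw [← Scheme.Hom.comp_apply, e'.inv_hom_id]
          exact hw⟩
      rw [this]
      exact (hTi i).image _ e'.inv.continuous.continuousOn)
    obtain ⟨a, ha, hK⟩ := exists_forall_irreducibleSpace (I.subschemeι ≫ h') Ω Subtype.val_injective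
    exact ⟨a, ha, fun K _ _ haK => (key K).mp (hK K haK)⟩
  choose aC haC0 haC using hpiece
  -- the meets
  choose aM haM0 haM using fun p : {p : irreducibleComponents P × irreducibleComponents P // (T p.1 ∩ T p.2).Nonempty} =>
    exists_forall_exists_mem_over h' (C p.1.1 ∩ C p.1.2) (isClosed_closure.inter isClosed_closure) (q p.2.some)
      ⟨subset_closure ⟨_, p.2.some_mem.1, rfl⟩, subset_closure ⟨_, p.2.some_mem.2, rfl⟩⟩ (hqgen _)
  -- the misses
  choose aD haD0 haD using fun p : {p : irreducibleComponents P × irreducibleComponents P // ¬ (T p.1 ∩ T p.2).Nonempty} =>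
    exists_forall_mem_asIdeal h' (C p.1.1 ∩ C p.1.2) (isClosed_closure.inter isClosed_closure) fun x hx hxb => by
      obtain ⟨z, rfl⟩ := hgenq x hxb
      refine p.2 ⟨z, ?_, ?_⟩
      · exact hqpre p.1.1 ▸ hx.1
      · exact hqpre p.1.2 ▸ hx.2
  -- the points of one piece alone
  have hown : ∀ i, ∃ a : A', a ≠ 0 ∧ ∀ p : Spec (CommRingCat.of A'), a ∉ p.asIdeal →
      ∃ w, h' w = p ∧ w ∈ C i ∧ ∀ k ≠ i, w ∉ C k := fun i => by
    let U : X'.Opens := ⟨(⋃ k ∈ {k | k ≠ i}, C k)ᶜ,
      (Set.Finite.isClosed_biUnion (Set.toFinite _) fun k _ => isClosed_closure).isOpen_compl⟩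
    have hU : q (zO i) ∈ U := by
      show q (zO i) ∉ ⋃ k ∈ {k | k ≠ i}, C k
      simp only [Set.mem_iUnion, Set.mem_ofPred_eq, not_exists]
      intro k hk hm
      exact hzO' i k hk (show zO i ∈ T k from hqpre k ▸ hm)
    obtain ⟨a, ha, hw⟩ := exists_forall_exists_mem_over (U.ι ≫ h') (U.ι ⁻¹' C i)
      (isClosed_closure.preimage U.ι.continuous) (⟨q (zO i), hU⟩ : U)
      (subset_closure ⟨zO i, hzO i, rfl⟩) (hqgen _)
    refine ⟨a, ha, fun p hp => ?_⟩
    obtain ⟨w, hwC, hwp⟩ := hw p hp
    refine ⟨U.ι w, by rw [← Scheme.Hom.comp_apply]; exact hwp, hwC, fun k hk hm => ?_⟩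
    exact (w : U).2 (Set.mem_biUnion (x := k) hk hm)
  choose aO haO0 haO using hown
  cases nonempty_fintype (irreducibleComponents P)
  let astar : A' := a₀ * (∏ i, aC i) * (∏ p, aM p) * (∏ p, aD p) * ∏ i, aO i
  have hastar : astar ≠ 0 := mul_ne_zero (mul_ne_zero (mul_ne_zero (mul_ne_zero ha₀
    (Finset.prod_ne_zero_iff.mpr fun i _ => haC0 i))
    (Finset.prod_ne_zero_iff.mpr fun p _ => haM0 p))
    (Finset.prod_ne_zero_iff.mpr fun p _ => haD0 p))
    (Finset.prod_ne_zero_iff.mpr fun i _ => haO0 i)
  let E := Localization.Away astar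
  haveI : IsDomain E := IsLocalization.isDomain_of_le_nonZeroDivisors (M := Submonoid.powers astar) (S := E)
    (powers_le_nonZeroDivisors_of_noZeroDivisors hastar)
  haveI : Algebra.FiniteType A' E := IsLocalization.finiteType_of_monoid_fg (Submonoid.powers astar) E
  haveI : Algebra.FiniteType A E := Algebra.FiniteType.trans (R := A) (S := A') inferInstance inferInstance
  obtain ⟨a, ha, hpt⟩ := exists_forall_nonempty_algHom (A := A) (E := E) (by
    rw [IsScalarTower.algebraMap_eq A A' E]
    exact (IsLocalization.injective E (powers_le_nonZeroDivisors_of_noZeroDivisors hastar)).comp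
      (fun a b hab => hΩ (congrArg Subtype.val hab :)))
  refine ⟨a, ha, fun L _ _ _ hL => ?_⟩
  obtain ⟨θ⟩ := hpt L hL
  let θ' : A' →ₐ[A] L := θ.comp (IsScalarTower.toAlgHom A A' E)
  have hθ : θ' astar ≠ 0 := ((IsLocalization.Away.algebraMap_isUnit (S := E) astar).map θ).ne_zero
  simp only [astar, map_mul, map_prod, ne_eq, mul_eq_zero, not_or, Finset.prod_eq_zero_iff, not_exists, not_and,
    Finset.mem_univ, forall_const] at hθ
  letI : Algebra A' L := θ'.toRingHom.toAlgebra
  let eL : pullback h' (specAlg A' L) ≅ pullback h (specAlg A L) :=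
    pullbackLeftPullbackSndIso h (specAlg A A') (specAlg A' L) ≪≫ pullback.congrHom rfl (by
      rw [← Spec.map_comp, ← CommRingCat.ofHom_comp]
      exact congrArg (fun ψ => Spec.map (CommRingCat.ofHom ψ)) θ'.comp_algebraMap)
  let p₀ : Spec (CommRingCat.of A') := (⟨RingHom.ker (algebraMap A' L), RingHom.ker_isPrime _⟩ : PrimeSpectrum A')
  have hpts : ∀ w : X', h' w = p₀ → ∃ z, pullback.fst h' (specAlg A' L) z = w := fun w hw =>
    exists_fst_eq h' L w (by rw [hw])
  let TL : irreducibleComponents P → Set (pullback h' (specAlg A' L) : Scheme.{u}) := fun i =>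
    pullback.fst h' (specAlg A' L) ⁻¹' C i
  have hirr : ∀ i, IsIrreducible (TL i) := fun i => haC i L (hθ.1.1.1.2 i)
  have hcl : ∀ i, IsClosed (TL i) := fun i => isClosed_closure.preimage (Scheme.Hom.continuous _)
  have hcovL : ∀ z, ∃ i, z ∈ TL i := fun z =>
    (Set.mem_iUnion.mp (hcov (pullback.fst h' (specAlg A' L) z) fun hm => hθ.1.1.1.1
      (RingHom.mem_ker.mp (asIdeal_fst h' L z ▸ hm)))).imp fun i hi => hi
  have hownL : ∀ i, ∃ z ∈ TL i, ∀ k ≠ i, z ∉ TL k := fun i => by
    obtain ⟨w, hwp, hwC, hwk⟩ := haO i p₀ (fun hm => hθ.2 i (RingHom.mem_ker.mp hm))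
    obtain ⟨z, hz⟩ := hpts w hwp
    exact ⟨z, by show pullback.fst h' _ z ∈ C i; rw [hz]; exact hwC,
      fun k hk => by show pullback.fst h' _ z ∉ C k; rw [hz]; exact hwk k hk⟩
  have hmeet : Meets TL = Meets T := by
    funext i j
    refine propext ⟨fun hij => ?_, fun hij => ?_⟩
    · by_contra hne
      obtain ⟨z, hzi, hzj⟩ := hij
      exact hθ.1.2 ⟨(i, j), hne⟩ (RingHom.mem_ker.mp (asIdeal_fst h' L z ▸ haD ⟨(i, j), hne⟩ _ ⟨hzi, hzj⟩))
    · obtain ⟨w, hw, hwp⟩ := haM ⟨(i, j), hij⟩ p₀ (fun hm => hθ.1.1.2 ⟨(i, j), hij⟩ (RingHom.mem_ker.mp hm))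
      obtain ⟨z, hz⟩ := hpts w hwp
      exact ⟨z, by show pullback.fst h' _ z ∈ C i; rw [hz]; exact hw.1,
        by show pullback.fst h' _ z ∈ C j; rw [hz]; exact hw.2⟩
  constructor
  · rw [← nConn_congr eL]
    show ENat.card (ConnectedComponents (pullback h' (specAlg A' L) : Scheme.{u})) = ENat.card (ConnectedComponents P)
    rw [card_connectedComponents TL hcl (fun i => (hirr i).isConnected.isPreconnected) (fun i => (hirr i).nonempty) hcovL,
      card_connectedComponents T hTc (fun i => (hTi i).isConnected.isPreconnected) (fun i => (hTi i).nonempty) hTcov,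
      hmeet]
  · rw [← nIrr_congr eL]
    show (irreducibleComponents (pullback h' (specAlg A' L) : Scheme.{u})).encard = (irreducibleComponents P).encard
    rw [encard_irreducibleComponents TL hcl hirr hcovL hownL,
      encard_irreducibleComponents T hTc hTi hTcov fun i => ⟨zO i, hzO i, hzO' i⟩]

variable {Y : Scheme.{u}} (f : X ⟶ Y)

/-- The numbers of components of the geometric fibres are constant near the generic point of an irreducible base. -/
theorem exists_opens_count {X : Scheme.{u}} (f : X ⟶ Y) [IrreducibleSpace Y] [LocallyOfFiniteType f] [QuasiCompact f] :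
    ∃ V : Y.Opens, genericPoint Y ∈ V ∧ ∀ y ∈ V,
      MoreMor.nGeomConnComp f y = MoreMor.nGeomConnComp f (genericPoint Y) ∧
      MoreMor.nGeomIrredComp f y = MoreMor.nGeomIrredComp f (genericPoint Y) := by
  obtain ⟨A, hA, i, hi, hV⟩ := exists_integral_base Y
  let Ω := AlgebraicClosure (FractionRing A)
  have hΩ : Function.Injective (algebraMap A Ω) := by
    rw [IsScalarTower.algebraMap_eq A (FractionRing A) Ω]
    exact (algebraMap (FractionRing A) Ω).injective.comp (IsFractionRing.injective A (FractionRing A))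
  haveI : Algebra.IsAlgebraic A Ω :=
    (IsFractionRing.comap_isAlgebraic_iff (A := A) (K := FractionRing A) (C := Ω)).mpr inferInstance
  obtain ⟨a, ha, hK⟩ := exists_forall_count (pullback.snd f i) Ω hΩ
  obtain ⟨V, hξ, hVK⟩ := hV a ha
  refine ⟨V, hξ, fun y hy => ?_⟩
  let K := AlgebraicClosure (Y.residueField y)
  let g : Spec (CommRingCat.of K) ⟶ Y :=
    Spec.map (CommRingCat.ofHom (algebraMap (Y.residueField y) K)) ≫ Y.fromSpecResidueField y
  have hg : ∀ c, g c = y := fun c => by
    rw [Scheme.Hom.comp_apply]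
    exact Scheme.fromSpecResidueField_apply _ _
  obtain ⟨φ, hφ, hφa⟩ := hVK K g fun c => (hg c).symm ▸ hy
  letI : Algebra A K := φ.hom.toAlgebra
  let c : Spec (CommRingCat.of K) := (⟨⊥, Ideal.isPrime_bot⟩ : PrimeSpectrum K)
  let d : Spec (CommRingCat.of Ω) := (⟨⊥, Ideal.isPrime_bot⟩ : PrimeSpectrum Ω)
  have hp : i (specAlg A K c) = y := (congrArg (fun m : Spec (CommRingCat.of K) ⟶ Y => m c) hφ).trans (hg c)
  have hp' : i (specAlg A Ω d) = genericPoint Y :=
    hi _ ((specAlg_apply Ω d).trans ((RingHom.injective_iff_ker_eq_bot _).mp hΩ))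
  have hc := IsPullback.of_hasPullback f i
  have key : ∀ (L : Type u) [Field L] [IsAlgClosed L] [Algebra A L] (e : Spec (CommRingCat.of L)) (t : Y),
      i (specAlg A L e) = t → MoreMor.nGeomConnComp f t = nConn (pullback (pullback.snd f i) (specAlg A L)) ∧
        MoreMor.nGeomIrredComp f t = nIrr (pullback (pullback.snd f i) (specAlg A L)) := fun L _ _ _ e t ht => by
    have hcst : ∀ e', specAlg A L e' = specAlg A L e := fun e' => congrArg _ (Subsingleton.elim (α := PrimeSpectrum L) e' e)
    subst ht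
    rw [← nGeomConnComp_of_isPullback f hc, ← nGeomIrredComp_of_isPullback f hc]
    exact ⟨nGeomConnComp_eq _ L _ _ hcst, nGeomIrredComp_eq _ L _ _ hcst⟩
  obtain ⟨h1, h2⟩ := hK K hφa
  exact ⟨((key K c y hp).1.trans h1).trans (key Ω d _ hp').1.symm,
    ((key K c y hp).2.trans h2).trans (key Ω d _ hp').2.symm⟩

/-- The numbers of components of the geometric fibres are constant on an open piece of the closure of a point. -/
theorem exists_locallyClosed_count {X : Scheme.{u}} (f : X ⟶ Y) [LocallyOfFiniteType f] [QuasiCompact f] (y : Y) :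
    ∃ W : Set Y, IsOpen W ∧ y ∈ W ∧ ∀ y' ∈ W, y' ∈ closure {y} →
      MoreMor.nGeomConnComp f y' = MoreMor.nGeomConnComp f y ∧
      MoreMor.nGeomIrredComp f y' = MoreMor.nGeomIrredComp f y := by
  let I := Scheme.IdealSheafData.vanishingIdeal (X := Y) ⟨closure {y}, isClosed_closure⟩
  let ι := I.subschemeι
  have hr : Set.range ι = closure {y} := by
    rw [Scheme.IdealSheafData.range_subschemeι, Scheme.IdealSheafData.coe_support_vanishingIdeal]; rfl
  obtain ⟨z, hz⟩ : y ∈ Set.range ι := hr.symm ▸ subset_closure rfl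
  haveI : IrreducibleSpace I.subscheme := by
    rw [ι.isEmbedding.toHomeomorph.irreducibleSpace_iff]
    exact Subtype.irreducibleSpace (hr ▸ isIrreducible_singleton.closure)
  have hgen : genericPoint I.subscheme = z := by
    refine (genericPoint_spec _).eq ?_
    rw [isGenericPoint_def, ι.isEmbedding.isInducing.closure_eq_preimage_closure_image, Set.image_singleton, hz, ← hr]
    exact Set.preimage_range _
  obtain ⟨V, hξ, hV⟩ := exists_opens_count (pullback.snd f ι)
  obtain ⟨W, hW, hWV⟩ := ι.isEmbedding.isInducing.isOpen_iff.mp V.isOpen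
  refine ⟨W, hW, ?_, fun y' hy' hcl => ?_⟩
  · rw [← hz]
    exact hWV.ge (hgen ▸ hξ : z ∈ V)
  · obtain ⟨z', rfl⟩ : y' ∈ Set.range ι := hr.symm ▸ hcl
    have hc := IsPullback.of_hasPullback f ι
    obtain ⟨h1, h2⟩ := hV z' (hWV.le hy')
    rw [hgen] at h1 h2
    rw [nGeomConnComp_of_isPullback f hc, nGeomConnComp_of_isPullback f hc, hz] at h1
    rw [nGeomIrredComp_of_isPullback f hc, nGeomIrredComp_of_isPullback f hc, hz] at h2
    exact ⟨h1, h2⟩

end Groth.L07.Count
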