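import Groth.Agent.L07.Count.Top
import Groth.Agent.L22.GeomConn.Finite
import Groth.Prelude.Def_MoreMor
import Mathlib.AlgebraicGeometry.Geometrically.Irreducible
import Mathlib.AlgebraicGeometry.ResidueField
import Mathlib.FieldTheory.IsSepClosed

/-!
The geometric numbers of components of a fibre can be computed over any separably closed field.
-/

universe u

open CategoryTheory CategoryTheory.Limits AlgebraicGeometry Groth.L22.GeomConn

namespace Groth.L07.Count

set_option autoImplicit false
set_option linter.style.haveILetI false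
set_option maxSynthPendingDepth 3
set_option backward.isDefEq.respectTransparency.types false
set_option backward.isDefEq.respectTransparency false

/-- The number of connected components of a scheme. -/
noncomputable def nConn (Z : Scheme.{u}) : ℕ∞ := ENat.card (ConnectedComponents Z)

/-- The number of irreducible components of a scheme. -/
noncomputable def nIrr (Z : Scheme.{u}) : ℕ∞ := (irreducibleComponents Z).encard

theorem nConn_congr {Z Z' : Scheme.{u}} (e : Z ≅ Z') : nConn Z = nConn Z' :=
  card_connectedComponents_congr e.hom.homeomorph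

theorem nIrr_congr {Z Z' : Scheme.{u}} (e : Z ≅ Z') : nIrr Z = nIrr Z' := by
  have hm : ∀ {A B : Scheme.{u}} (i : A ≅ B), ∀ T ∈ irreducibleComponents (A : Type u),
      i.hom '' T ∈ irreducibleComponents (B : Type u) := fun {A B} i T hT => by
    refine ⟨hT.1.image _ i.hom.continuous.continuousOn, fun S hS hle => ?_⟩
    have h2 : T ⊆ i.inv '' S := fun t ht => ⟨i.hom t, hle ⟨t, ht, rfl⟩, by
      rw [← Scheme.Hom.comp_apply, i.hom_inv_id]; rfl⟩
    have h3 := hT.2 (hS.image _ i.inv.continuous.continuousOn) h2
    intro s hs
    exact ⟨i.inv s, h3 ⟨s, hs, rfl⟩, by rw [← Scheme.Hom.comp_apply, i.inv_hom_id]; rfl⟩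
  show (irreducibleComponents (Z : Type u)).encard = (irreducibleComponents (Z' : Type u)).encard
  have e2 : irreducibleComponents (Z' : Type u) = (fun T => e.hom '' T) '' irreducibleComponents (Z : Type u) := by
    refine Set.ext fun S => ⟨fun hS => ⟨e.inv '' S, hm e.symm S hS, ?_⟩, ?_⟩
    · show e.hom '' (e.inv '' S) = S
      rw [← Set.image_comp]
      refine (Set.image_congr fun s _ => ?_).trans (Set.image_id' S)
      show e.hom (e.inv s) = s
      rw [← Scheme.Hom.comp_apply, e.inv_hom_id]; rfl
    · rintro ⟨T, hT, rfl⟩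
      exact hm e T hT
  rw [e2, (Set.image_injective.mpr e.hom.isEmbedding.injective).injOn.encard_image]

variable {k : Type u} [Field k] {X : Scheme.{u}} (h : X ⟶ Spec (CommRingCat.of k))

theorem nConn_bc (L K : Type u) [Field L] [Field K] [Algebra k L] [Algebra k K] [Algebra L K]
    [IsScalarTower k L K] [IsSepClosed L] : nConn (FBase.bc h K) = nConn (FBase.bc h L) := by
  haveI := geometricallyConnected_bcMap h L K
  exact ENat.card_congr (Equiv.ofBijective _ (bijective_connectedComponentsMap (bcMap h L K)))

theorem nIrr_bc (L K : Type u) [Field L] [Field K] [Algebra k L] [Algebra k K] [Algebra L K]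
    [IsScalarTower k L K] [IsSepClosed L] : nIrr (FBase.bc h K) = nIrr (FBase.bc h L) := by
  haveI := geometricallyIrreducible_bcMap h L K
  exact Set.encard_congr (Scheme.Hom.irreducibleComponentsEquiv (bcMap h L K) (bcMap h L K).isOpenMap)

theorem nConn_bc_le (L K : Type u) [Field L] [Field K] [Algebra k L] [Algebra k K] [Algebra L K]
    [IsScalarTower k L K] : nConn (FBase.bc h L) ≤ nConn (FBase.bc h K) := by
  have hs : Function.Surjective (bcMap h L K).continuous.connectedComponentsMap := fun c => ?_
  · exact ENat.card_le_card_of_injective (Function.injective_surjInv hs)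
  obtain ⟨x, rfl⟩ := ConnectedComponents.surjective_coe c
  obtain ⟨y, rfl⟩ := (bcMap h L K).surjective x
  exact ⟨ConnectedComponents.mk y, rfl⟩

variable {Y : Scheme.{u}} (f : X ⟶ Y)

/-- A field-valued point factors through the residue field. -/
theorem exists_residueField_factor (K : Type u) [Field K] (g : Spec (CommRingCat.of K) ⟶ Y) (y : Y)
    (hg : ∀ c, g c = y) : ∃ ψ : Y.residueField y ⟶ CommRingCat.of K, Spec.map ψ ≫ Y.fromSpecResidueField y = g := by
  obtain ⟨⟨z, φ⟩, rfl⟩ := (Scheme.SpecToEquivOfField _ _).symm.surjective g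
  obtain rfl : z = y := by
    rw [← hg (⟨⊥, Ideal.isPrime_bot⟩ : PrimeSpectrum K)]
    show z = (Spec.map φ ≫ Y.fromSpecResidueField z) _
    rw [Scheme.Hom.comp_apply, Scheme.fromSpecResidueField_apply]
  exact ⟨φ, rfl⟩

/-- The pullback to a field-valued point is a base change of the fibre. -/
theorem nonempty_iso_bc {y : Y} (K : Type u) [Field K] [Algebra (Y.residueField y) K]
    (g : Spec (CommRingCat.of K) ⟶ Y)
    (hg : Spec.map (CommRingCat.ofHom (algebraMap (Y.residueField y) K)) ≫ Y.fromSpecResidueField y = g) :
    Nonempty (pullback f g ≅ FBase.bc (k := ↑(Y.residueField y)) (f.fiberToSpecResidueField y) K) :=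
  ⟨(pullback.congrHom rfl hg.symm) ≪≫ (pullbackLeftPullbackSndIso f (Y.fromSpecResidueField y) _).symm⟩

theorem exists_embedding (k K : Type u) [Field k] [Field K] [Algebra k K] [IsSepClosed K] :
    ∃ (_ : Algebra (SeparableClosure k) K), IsScalarTower k (SeparableClosure k) K := by
  let j : SeparableClosure k →ₐ[k] K := IsSepClosed.lift
  exact ⟨j.toRingHom.toAlgebra, @IsScalarTower.of_algebraMap_eq k (SeparableClosure k) K
    _ _ _ _ j.toRingHom.toAlgebra _ fun x => (j.commutes x).symm⟩

/-- The geometric number of connected components can be computed over any separably closed field. -/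
theorem nGeomConnComp_eq (K : Type u) [Field K] [IsSepClosed K] (g : Spec (CommRingCat.of K) ⟶ Y) (y : Y)
    (hg : ∀ c, g c = y) : MoreMor.nGeomConnComp f y = nConn (pullback f g) := by
  obtain ⟨ψ, rfl⟩ := exists_residueField_factor K g y hg
  letI : Algebra (Y.residueField y) K := ψ.hom.toAlgebra
  obtain ⟨_, _⟩ := exists_embedding (Y.residueField y) K
  obtain ⟨e⟩ := nonempty_iso_bc f (y := y) K (Spec.map ψ ≫ Y.fromSpecResidueField y) rfl
  rw [nConn_congr e, nConn_bc _ (SeparableClosure (Y.residueField y)) K]
  rfl

/-- The geometric number of irreducible components can be computed over any separably closed field. -/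
theorem nGeomIrredComp_eq (K : Type u) [Field K] [IsSepClosed K] (g : Spec (CommRingCat.of K) ⟶ Y) (y : Y)
    (hg : ∀ c, g c = y) : MoreMor.nGeomIrredComp f y = nIrr (pullback f g) := by
  obtain ⟨ψ, rfl⟩ := exists_residueField_factor K g y hg
  letI : Algebra (Y.residueField y) K := ψ.hom.toAlgebra
  obtain ⟨_, _⟩ := exists_embedding (Y.residueField y) K
  obtain ⟨e⟩ := nonempty_iso_bc f (y := y) K (Spec.map ψ ≫ Y.fromSpecResidueField y) rfl
  rw [nIrr_congr e, nIrr_bc _ (SeparableClosure (Y.residueField y)) K]
  rfl

/-- Over any field the number of connected components is at most the geometric one. -/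
theorem nConn_le_nGeomConnComp (K : Type u) [Field K] (g : Spec (CommRingCat.of K) ⟶ Y) (y : Y)
    (hg : ∀ c, g c = y) : nConn (pullback f g) ≤ MoreMor.nGeomConnComp f y := by
  obtain ⟨ψ, rfl⟩ := exists_residueField_factor K g y hg
  letI : Algebra (Y.residueField y) K := ψ.hom.toAlgebra
  obtain ⟨_, _⟩ := exists_embedding (Y.residueField y) (AlgebraicClosure K)
  obtain ⟨e⟩ := nonempty_iso_bc f (y := y) K (Spec.map ψ ≫ Y.fromSpecResidueField y) rfl
  rw [nConn_congr e]
  refine (nConn_bc_le _ K (AlgebraicClosure K)).trans ?_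
  rw [nConn_bc _ (SeparableClosure (Y.residueField y)) (AlgebraicClosure K)]
  rfl

variable {X' Y' : Scheme.{u}} {f' : X' ⟶ Y'} {g' : X' ⟶ X} {g : Y' ⟶ Y}

/-- The geometric number of connected components is invariant under base change. -/
theorem nGeomConnComp_of_isPullback (hc : IsPullback g' f' f g) (y' : Y') :
    MoreMor.nGeomConnComp f' y' = MoreMor.nGeomConnComp f (g y') := by
  let K := SeparableClosure (Y'.residueField y')
  let s : Spec (CommRingCat.of K) ⟶ Y' :=
    Spec.map (CommRingCat.ofHom (algebraMap (Y'.residueField y') K)) ≫ Y'.fromSpecResidueField y'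
  have hs : ∀ c, s c = y' := fun c => by
    rw [Scheme.Hom.comp_apply]
    exact Scheme.fromSpecResidueField_apply _ _
  rw [nGeomConnComp_eq f' K s y' hs, nGeomConnComp_eq f K (s ≫ g) (g y') (fun c => by rw [Scheme.Hom.comp_apply, hs])]
  exact nConn_congr ((IsPullback.of_hasPullback f' s).paste_horiz hc).isoPullback

/-- The geometric number of irreducible components is invariant under base change. -/
theorem nGeomIrredComp_of_isPullback (hc : IsPullback g' f' f g) (y' : Y') :
    MoreMor.nGeomIrredComp f' y' = MoreMor.nGeomIrredComp f (g y') := by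
  let K := SeparableClosure (Y'.residueField y')
  let s : Spec (CommRingCat.of K) ⟶ Y' :=
    Spec.map (CommRingCat.ofHom (algebraMap (Y'.residueField y') K)) ≫ Y'.fromSpecResidueField y'
  have hs : ∀ c, s c = y' := fun c => by
    rw [Scheme.Hom.comp_apply]
    exact Scheme.fromSpecResidueField_apply _ _
  rw [nGeomIrredComp_eq f' K s y' hs, nGeomIrredComp_eq f K (s ≫ g) (g y') (fun c => by rw [Scheme.Hom.comp_apply, hs])]
  exact nIrr_congr ((IsPullback.of_hasPullback f' s).paste_horiz hc).isoPullback

end Groth.L07.Count
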