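import Groth.Agent.L07.Count.Field
import Mathlib.AlgebraicGeometry.Geometrically.Connected

/-! Geometric connectedness of a fibre and the geometric number of connected components. -/

set_option autoImplicit false
set_option backward.isDefEq.respectTransparency.types false
set_option maxSynthPendingDepth 3
set_option linter.style.haveILetI false

universe u

open CategoryTheory CategoryTheory.Limits AlgebraicGeometry

set_option backward.isDefEq.respectTransparency false

namespace Groth.L07.Count

theorem nConn_eq_one_iff {Z : Scheme.{u}} : nConn Z = 1 ↔ ConnectedSpace Z := by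
  rw [nConn, le_antisymm_iff, ENat.card_le_one_iff_subsingleton, ENat.one_le_card_iff_nonempty]
  constructor
  · rintro ⟨hs, hne⟩
    haveI := hs
    obtain ⟨c⟩ := hne
    obtain ⟨z, rfl⟩ := ConnectedComponents.surjective_coe c
    haveI : Nonempty Z := ⟨z⟩
    haveI : PreconnectedSpace Z := ⟨by
      rw [show (Set.univ : Set Z) = connectedComponent z from (Set.eq_univ_of_forall fun w =>
        ConnectedComponents.coe_eq_coe'.mp (Subsingleton.elim _ _)).symm]
      exact isPreconnected_connectedComponent⟩
    exact ⟨inferInstance⟩
  · intro h
    exact ⟨⟨fun a b => by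
      obtain ⟨a, rfl⟩ := ConnectedComponents.surjective_coe a
      obtain ⟨b, rfl⟩ := ConnectedComponents.surjective_coe b
      exact ConnectedComponents.coe_eq_coe'.mpr (by
        rw [PreconnectedSpace.connectedComponent_eq_univ]; exact Set.mem_univ _)⟩,
      ⟨ConnectedComponents.mk (Classical.arbitrary Z)⟩⟩

/-- A fibre is geometrically connected if and only if its geometric number of connected components is one. -/
theorem geometricallyConnected_fiber_iff {X Y : Scheme.{u}} (f : X ⟶ Y) (y : Y) :
    GeometricallyConnected (f.fiberToSpecResidueField y) ↔ MoreMor.nGeomConnComp f y = 1 := by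
  constructor
  · intro h
    exact nConn_eq_one_iff.mpr
      (h.geometrically_connectedSpace _ _ _ (IsPullback.of_hasPullback _ _))
  · intro h
    refine ⟨geometrically_iff_of_isClosedUnderIsomorphisms.mpr fun K _ g => ?_⟩
    let P := pullback (f.fiberToSpecResidueField y) g
    haveI hne : Nonempty P := by
      haveI : ConnectedSpace (MoreMor.geomFiber f y) := nConn_eq_one_iff.mp h
      let z : MoreMor.geomFiber f y := Classical.arbitrary _
      obtain ⟨p, -, -⟩ := Scheme.Pullback.exists_preimage_pullback (f := f.fiberToSpecResidueField y) (g := g)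
        (pullback.fst (f.fiberToSpecResidueField y) _ z) (IsLocalRing.closedPoint K) (Subsingleton.elim _ _)
      exact ⟨p⟩
    let e : P ≅ pullback f (g ≫ Y.fromSpecResidueField y) := pullbackLeftPullbackSndIso f _ g
    haveI : Nonempty (ConnectedComponents P) := ⟨ConnectedComponents.mk hne.some⟩
    have h1 : nConn P ≤ 1 := by
      rw [nConn_congr e, ← h]
      refine nConn_le_nGeomConnComp f K _ y fun c => ?_
      rw [Scheme.Hom.comp_apply, Scheme.fromSpecResidueField_apply]
    exact nConn_eq_one_iff.mp (le_antisymm h1 ((ENat.one_le_card_iff_nonempty _).mpr inferInstance))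

/-- A nonempty fibre has at least one geometric connected component. -/
theorem one_le_nGeomConnComp {X Y : Scheme.{u}} (f : X ⟶ Y) (y : Y) [Nonempty ↥(f.fiber y)] :
    1 ≤ MoreMor.nGeomConnComp f y := by
  obtain ⟨x⟩ := ‹Nonempty ↥(f.fiber y)›
  obtain ⟨z, -, -⟩ := Scheme.Pullback.exists_preimage_pullback (f := f.fiberToSpecResidueField y)
    (g := Spec.map (CommRingCat.ofHom (algebraMap (Y.residueField y) (SeparableClosure (Y.residueField y)))))
    x (IsLocalRing.closedPoint _) (Subsingleton.elim _ _)
  exact (ENat.one_le_card_iff_nonempty _).mpr ⟨ConnectedComponents.mk z⟩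

end Groth.L07.Count
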