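import Groth.Agent.L07.Count.DVRProperConn
import Groth.Agent.L07.DVRProperApps
import Groth.Agent.L07.DVRConnected

/-!
Closures of geometrically connected subsets of the generic fibre over a discrete valuation ring
(EGA IV 15.7.10).
-/

universe u

open CategoryTheory CategoryTheory.Limits AlgebraicGeometry Groth.L07.Spread Topology IsLocalRing

namespace Groth.L07.Count

set_option autoImplicit false
set_option linter.style.haveILetI false
set_option maxSynthPendingDepth 3
set_option backward.isDefEq.respectTransparency.types false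
set_option backward.isDefEq.respectTransparency false

variable {R : Type u} [CommRing R] [IsDomain R] [IsDiscreteValuationRing R]

theorem isClosed_closedPoint : IsClosed ({closedPoint R} : Set ↥(Spec (CommRingCat.of R))) :=
  (PrimeSpectrum.isClosed_singleton_iff_isMaximal (closedPoint R)).mpr (maximalIdeal.isMaximal R)

theorem setOf_asIdeal_eq_bot : {p : ↥(Spec (CommRingCat.of R)) | p.asIdeal = ⊥} = {closedPoint R}ᶜ := by
  ext p
  refine ⟨fun hp e => ?_, fun hp => asIdeal_eq_bot_of_ne p hp⟩
  rw [Set.mem_singleton_iff] at e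
  subst e
  exact IsDiscreteValuationRing.not_a_field R hp

/-- A reduced algebra all of whose primes lie over generic primes is flat. -/
theorem flat_of_generizations_ring {B : Type u} [CommRing B] [_root_.IsReduced B] (φ : R →+* B)
    (hgen : ∀ P : PrimeSpectrum B, ∃ Q : PrimeSpectrum B, Q.asIdeal ≤ P.asIdeal ∧ Q.asIdeal.comap φ = ⊥) :
    φ.Flat := by
  letI := φ.toAlgebra
  haveI : Module.IsTorsionFree R B := by
    rw [Module.isTorsionFree_iff_smul_eq_zero]
    intro a b hab
    rw [or_iff_not_imp_left]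
    intro ha
    refine IsNilpotent.eq_zero (nilpotent_iff_mem_prime.mpr fun P hP => ?_)
    obtain ⟨Q, hQ, hQ0⟩ := hgen ⟨P, hP⟩
    refine hQ ((Q.isPrime.mem_or_mem (show φ a * b ∈ Q.asIdeal by
      rw [show φ a * b = 0 from hab]; exact zero_mem _)).resolve_left fun hmem => ha ?_)
    exact (Submodule.mem_bot R).mp (hQ0 ▸ (show a ∈ Q.asIdeal.comap φ from hmem))
  exact RingHom.flat_algebraMap_iff.mpr inferInstance

/-- A reduced scheme over a discrete valuation ring, every point of which generalizes to the generic fibre,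
is flat. -/
theorem flat_of_generizations {T : Scheme.{u}} [IsReduced T] (h : T ⟶ Spec (CommRingCat.of R))
    (hgen : ∀ x, ∃ ζ, ζ ⤳ x ∧ (h ζ).asIdeal = ⊥) : Flat h := by
  refine IsZariskiLocalAtSource.of_openCover (P := @Flat) T.affineCover fun i => ?_
  suffices key : ∀ (B : CommRingCat.{u}) (c : Spec B ⟶ T) [IsOpenImmersion c], Flat (c ≫ h) by
    exact key _ (T.affineCover.f i)
  intro B c _
  obtain ⟨φ, hφ⟩ : ∃ φ, Spec.map φ = c ≫ h := ⟨_, Spec.map_preimage _⟩
  rw [← hφ, Flat.SpecMap_iff]
  haveI : IsReduced (Spec B) := isReduced_of_isOpenImmersion c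
  haveI : _root_.IsReduced B := (affine_isReduced_iff B).mp this
  refine flat_of_generizations_ring φ.hom fun P => ?_
  obtain ⟨ζ, h1, h2⟩ := hgen (c P)
  obtain ⟨Q, rfl⟩ : ζ ∈ Set.range c := h1.mem_open c.opensRange.2 ⟨_, rfl⟩
  refine ⟨Q, (PrimeSpectrum.le_iff_specializes Q P).mpr (c.isEmbedding.toIsInducing.specializes_iff.mp h1), ?_⟩
  have h3 : Spec.map φ Q = h (c Q) := by rw [hφ, Scheme.Hom.comp_apply]
  have h4 : (Spec.map φ Q).asIdeal = ⊥ := by rw [h3]; exact h2
  exact h4

/-- A point with values in a field lifts along an immersion if it lands in the range. -/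
theorem exists_lift_of_field {K : Type u} [Field K] {P X : Scheme.{u}} (a : Spec (CommRingCat.of K) ⟶ X)
    (i : P ⟶ X) [IsPreimmersion i] (h : a (closedPoint K) ∈ Set.range i) : ∃ b, b ≫ i = a := by
  obtain ⟨p, hp⟩ := h
  obtain ⟨r, hr⟩ : ∃ r : X.residueField (i p) ⟶ CommRingCat.of K, Spec.map r ≫ X.fromSpecResidueField (i p) = a :=
    hp ▸ ⟨_, Scheme.descResidueField_stalkClosedPointTo_fromSpecResidueField _ _ _⟩
  haveI : IsIso (i.residueFieldMap p) := (ConcreteCategory.isIso_iff_bijective _).mpr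
    ⟨RingHom.injective _, by
      intro v
      obtain ⟨v, rfl⟩ := P.residue_surjective p v
      obtain ⟨d, rfl⟩ := i.stalkMap_surjective p v
      exact ⟨X.residue (i p) d, congr($(Scheme.residue_residueFieldMap i p) d)⟩⟩
  refine ⟨Spec.map (inv (i.residueFieldMap p) ≫ r) ≫ P.fromSpecResidueField p, ?_⟩
  rw [Category.assoc, ← Scheme.Hom.SpecMap_residueFieldMap_fromSpecResidueField, ← Spec.map_comp_assoc,
    IsIso.hom_inv_id_assoc, hr]

/-- The closure of a geometrically connected closed subset of the generic fibre. -/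
theorem exists_closure_model {X : Scheme.{u}} (h : X ⟶ Spec (CommRingCat.of R)) [LocallyOfFiniteType h]
    (G : Set X) (hGη : ∀ x ∈ G, (h x).asIdeal = ⊥) (hGc : ∀ x ∈ closure G, (h x).asIdeal = ⊥ → x ∈ G)
    (hG : ∀ (K : Type u) [Field K] (g : Spec (CommRingCat.of K) ⟶ Spec (CommRingCat.of R)),
      (∀ c, (g c).asIdeal = ⊥) → _root_.IsPreconnected (pullback.fst h g ⁻¹' G)) :
    ∃ (T : Scheme.{u}) (j : T ⟶ X), IsClosedImmersion j ∧ IsReduced T ∧ Set.range j = closure G ∧ Flat (j ≫ h) ∧
      ∀ η : Spec (CommRingCat.of R), η.asIdeal = ⊥ → MoreMor.nGeomConnComp (j ≫ h) η ≤ 1 := by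
  let I := Scheme.IdealSheafData.vanishingIdeal (⟨closure G, isClosed_closure⟩ : TopologicalSpace.Closeds X)
  let j := I.subschemeι
  haveI : IsReduced I.subscheme := Groth.L18.isReduced_vanishingIdeal_subscheme _
  have hr : Set.range j = closure G := by rw [Scheme.IdealSheafData.range_subschemeι]; simp [I]
  haveI : IsLocallyNoetherian I.subscheme := LocallyOfFiniteType.isLocallyNoetherian (j ≫ h)
  refine ⟨_, j, inferInstance, inferInstance, hr, flat_of_generizations _ fun x => ?_, fun η hη => ?_⟩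
  · let U : Set ↥I.subscheme := (j ≫ h) ⁻¹' {p | p.asIdeal = ⊥}
    have hU : IsOpen U := by
      refine IsOpen.preimage (j ≫ h).continuous ?_
      rw [setOf_asIdeal_eq_bot]; exact isClosed_closedPoint.isOpen_compl
    have hx : x ∈ closure U := by
      rw [j.isEmbedding.toIsInducing.closure_eq_preimage_closure_image]
      have hGU : G ⊆ j '' U := fun z hz => by
        obtain ⟨w, hw⟩ : z ∈ Set.range j := by rw [hr]; exact subset_closure hz
        exact ⟨w, show ((j ≫ h) w).asIdeal = ⊥ by rw [Scheme.Hom.comp_apply, hw]; exact hGη z hz, hw⟩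
      exact closure_mono hGU (hr.le ⟨x, rfl⟩)
    obtain ⟨w, hwU, hwx⟩ := Groth.L07.DVRConnected.exists_generization_mem hU hx
    exact ⟨w, hwx, hwU⟩
  · let K := AlgebraicClosure ((Spec (CommRingCat.of R)).residueField η)
    let g : Spec (CommRingCat.of K) ⟶ Spec (CommRingCat.of R) :=
      Spec.map (CommRingCat.ofHom (algebraMap ((Spec (CommRingCat.of R)).residueField η) K)) ≫
        (Spec (CommRingCat.of R)).fromSpecResidueField η
    have hg : ∀ c, g c = η := fun c => by
      rw [Scheme.Hom.comp_apply]; exact Scheme.fromSpecResidueField_apply _ _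
    rw [nGeomConnComp_eq (j ≫ h) K g η hg, nConn, ENat.card_le_one_iff_subsingleton]
    let m : pullback (j ≫ h) g ⟶ pullback h g :=
      pullback.lift (pullback.fst _ _ ≫ j) (pullback.snd _ _) (by rw [Category.assoc]; exact pullback.condition)
    have hsq : IsPullback m (pullback.fst (j ≫ h) g) (pullback.fst h g) j :=
      IsPullback.of_right (by rw [pullback.lift_snd]; exact (IsPullback.of_hasPullback (j ≫ h) g).flip)
        (pullback.lift_fst _ _ _) (IsPullback.of_hasPullback h g).flip
    haveI : IsClosedImmersion m := MorphismProperty.of_isPullback hsq.flip (inferInstance : IsClosedImmersion j)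
    have hrm : Set.range m = pullback.fst h g ⁻¹' G := by
      ext q
      have hq : (h (pullback.fst h g q)).asIdeal = ⊥ := by
        rw [← Scheme.Hom.comp_apply, pullback.condition, Scheme.Hom.comp_apply, hg]; exact hη
      constructor
      · rintro ⟨w, rfl⟩
        refine hGc _ ?_ hq
        rw [← Scheme.Hom.comp_apply, pullback.lift_fst, Scheme.Hom.comp_apply]
        exact hr.le ⟨_, rfl⟩
      · intro hq'
        obtain ⟨w, hw⟩ : pullback.fst h g q ∈ Set.range j := by rw [hr]; exact subset_closure hq'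
        obtain ⟨z, hz, -⟩ := Scheme.exists_preimage_of_isPullback hsq q w hw.symm
        exact ⟨z, hz⟩
    haveI : PreconnectedSpace ↥(pullback (j ≫ h) g) := by
      refine ⟨m.isEmbedding.toIsInducing.isPreconnected_image.mp ?_⟩
      rw [Set.image_univ, hrm]
      exact hG K g fun c => by rw [hg]; exact hη
    exact ⟨fun a b => by
      obtain ⟨a, rfl⟩ := ConnectedComponents.surjective_coe a
      obtain ⟨b, rfl⟩ := ConnectedComponents.surjective_coe b
      exact ConnectedComponents.coe_eq_coe'.mpr (by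
        rw [PreconnectedSpace.connectedComponent_eq_univ]; exact Set.mem_univ _)⟩

/-- If a piece of the closed fibre is open there and proper, the rational points of the generic piece extend. -/
theorem exists_section_of_proper_piece {X : Scheme.{u}} (h : X ⟶ Spec (CommRingCat.of R)) [IsSeparated h]
    [LocallyOfFiniteType h] [QuasiCompact h] (G : Set X) (hGη : ∀ x ∈ G, (h x).asIdeal = ⊥)
    (hGc : ∀ x ∈ closure G, (h x).asIdeal = ⊥ → x ∈ G)
    (hG : ∀ (K : Type u) [Field K] (g : Spec (CommRingCat.of K) ⟶ Spec (CommRingCat.of R)),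
      (∀ c, (g c).asIdeal = ⊥) → _root_.IsPreconnected (pullback.fst h g ⁻¹' G))
    {C : Scheme.{u}} (c : C ⟶ X) [IsProper (c ≫ h)] (hc : ∀ v, h (c v) = closedPoint R)
    (hop : IsOpen (h ⁻¹' {closedPoint R} \ Set.range c)ᶜ) (hne : ∃ v, c v ∈ closure G)
    (a : Spec (CommRingCat.of (FractionRing R)) ⟶ X) (ha : a ≫ h = specAlg R (FractionRing R))
    (haG : a (closedPoint (FractionRing R)) ∈ G) :
    ∃ σ : Spec (CommRingCat.of R) ⟶ X, σ ≫ h = 𝟙 _ ∧ specAlg R (FractionRing R) ≫ σ = a := by
  obtain ⟨T, j, hj, hT, hr, hflat, hn⟩ := exists_closure_model h G hGη hGc hG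
  let O : X.Opens := ⟨_, hop⟩
  have hOη : ∀ x, (h x).asIdeal = ⊥ → x ∈ O := fun x hx hx' => by
    have e : (h x).asIdeal = maximalIdeal R := congrArg PrimeSpectrum.asIdeal hx'.1
    exact IsDiscreteValuationRing.not_a_field R (e.symm.trans hx)
  let T' := (j ⁻¹ᵁ O).toScheme
  let u : T' ⟶ X := (j ⁻¹ᵁ O).ι ≫ j
  haveI : IsLocallyNoetherian T := LocallyOfFiniteType.isLocallyNoetherian (j ≫ h)
  haveI : CompactSpace T := QuasiCompact.compactSpace_of_compactSpace (j ≫ h)
  haveI : IsNoetherian T := {}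
  haveI : CompactSpace T' := isCompact_iff_compactSpace.mp (TopologicalSpace.NoetherianSpace.isCompact _)
  haveI : QuasiCompact (u ≫ h) := inferInstance
  haveI : IsSeparated (u ≫ h) := inferInstance
  haveI : Flat (u ≫ h) := by rw [Category.assoc]; infer_instance
  haveI : Flat (j ≫ h) := hflat
  have hu : Set.range u = closure G ∩ O := by
    ext x
    constructor
    · rintro ⟨w, rfl⟩
      exact ⟨hr.le ⟨_, rfl⟩, w.2⟩
    · rintro ⟨h1, h2⟩
      obtain ⟨w, rfl⟩ := hr.ge h1
      exact ⟨⟨w, h2⟩, rfl⟩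
  haveI : IsProper c := IsProper.of_comp c h
  have hcl : IsClosed (Set.range c) := c.isClosedMap.isClosed_range
  haveI : IsProper ((u ≫ h).fiberToSpecResidueField (closedPoint R)) := by
    let s : ↥(Spec (CommRingCat.of R)) := closedPoint R
    let r := (Spec (CommRingCat.of R)).fromSpecResidueField s
    haveI : IsClosedImmersion r := IsClosedImmersion.of_isPreimmersion r (by
      rw [Scheme.range_fromSpecResidueField]; exact isClosed_closedPoint)
    let F := (u ≫ h).fiber s
    let d : F ⟶ X := (u ≫ h).fiberι s ≫ u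
    have hd : Set.range d = closure G ∩ Set.range c := by
      ext x
      constructor
      · rintro ⟨w, rfl⟩
        obtain ⟨h1, h2⟩ : u ((u ≫ h).fiberι s w) ∈ closure G ∩ O := hu.le ⟨_, rfl⟩
        refine ⟨h1, by_contra fun h3 => h2 ⟨?_, h3⟩⟩
        exact ((u ≫ h).range_fiberι s).le ⟨w, rfl⟩
      · rintro ⟨h1, v, rfl⟩
        obtain ⟨w, hw⟩ := hu.ge ⟨h1, fun h2 => h2.2 ⟨v, rfl⟩⟩
        obtain ⟨q, rfl⟩ := ((u ≫ h).range_fiberι s).ge (show (u ≫ h) w = s by rw [Scheme.Hom.comp_apply, hw, hc])
        exact ⟨q, hw⟩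
    haveI : IsImmersion u := inferInstanceAs (IsImmersion (_ ≫ _))
    haveI : IsClosedImmersion ((u ≫ h).fiberι s) := inferInstanceAs (IsClosedImmersion (pullback.fst (u ≫ h) r))
    haveI : IsImmersion d := inferInstanceAs (IsImmersion (_ ≫ _))
    haveI : IsClosedImmersion d := IsClosedImmersion.of_isPreimmersion d (hd ▸ isClosed_closure.inter hcl)
    haveI : UniversallyClosed (pullback.fst d c ≫ d ≫ h) := by
      rw [← Category.assoc, pullback.condition, Category.assoc]; infer_instance
    haveI : Surjective (pullback.fst d c) := ⟨fun w => by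
      obtain ⟨v, hv⟩ := (hd.le ⟨w, rfl⟩).2
      obtain ⟨z, hz, -⟩ := Scheme.Pullback.exists_preimage_pullback (f := d) (g := c) w v hv.symm
      exact ⟨z, hz⟩⟩
    haveI : UniversallyClosed (d ≫ h) := UniversallyClosed.of_comp_surjective (pullback.fst d c) _
    have e : (u ≫ h).fiberToSpecResidueField s ≫ r = d ≫ h :=
      (pullback.condition (f := u ≫ h) (g := r)).symm.trans (Category.assoc _ _ _).symm
    haveI : IsProper ((u ≫ h).fiberToSpecResidueField s ≫ r) := by rw [e]; exact {}
    exact IsProper.of_comp _ r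
  obtain ⟨v₀, hv₀⟩ := hne
  haveI : IsProper (u ≫ h) := by
    refine isProper_of_dvr _ ?_ fun η hη => ?_
    · obtain ⟨w, hw⟩ := hu.ge ⟨hv₀, fun h2 => h2.2 ⟨v₀, rfl⟩⟩
      exact ⟨w, by rw [Scheme.Hom.comp_apply, hw, hc]⟩
    · let K := SeparableClosure ((Spec (CommRingCat.of R)).residueField η)
      let g : Spec (CommRingCat.of K) ⟶ Spec (CommRingCat.of R) :=
        Spec.map (CommRingCat.ofHom (algebraMap ((Spec (CommRingCat.of R)).residueField η) K)) ≫
          (Spec (CommRingCat.of R)).fromSpecResidueField η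
      have hg : ∀ c, g c = η := fun c => by
        rw [Scheme.Hom.comp_apply]; exact Scheme.fromSpecResidueField_apply _ _
      refine le_of_eq_of_le ?_ (hn η hη)
      rw [nGeomConnComp_eq (u ≫ h) K g η hg, nGeomConnComp_eq (j ≫ h) K g η hg]
      let m : pullback (u ≫ h) g ⟶ pullback (j ≫ h) g :=
        pullback.lift (pullback.fst _ _ ≫ (j ⁻¹ᵁ O).ι) (pullback.snd _ _)
          (by rw [← pullback.condition]; simp only [u, Category.assoc])
      have hsq : IsPullback m (pullback.fst (u ≫ h) g) (pullback.fst (j ≫ h) g) (j ⁻¹ᵁ O).ι :=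
        IsPullback.of_right (by
            rw [pullback.lift_snd, ← Category.assoc (j ⁻¹ᵁ O).ι j h]
            exact (IsPullback.of_hasPullback (u ≫ h) g).flip)
          (pullback.lift_fst _ _ _) (IsPullback.of_hasPullback (j ≫ h) g).flip
      haveI : IsOpenImmersion m := MorphismProperty.of_isPullback hsq.flip (inferInstance : IsOpenImmersion (j ⁻¹ᵁ O).ι)
      haveI : Surjective m := ⟨fun q => by
        have hq : j (pullback.fst (j ≫ h) g q) ∈ O := hOη _ (by
          rw [← Scheme.Hom.comp_apply, ← Scheme.Hom.comp_apply, pullback.condition, Scheme.Hom.comp_apply, hg]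
          exact hη)
        obtain ⟨z, hz, -⟩ := Scheme.exists_preimage_of_isPullback hsq q ⟨_, hq⟩ rfl
        exact ⟨z, hz⟩⟩
      haveI : IsIso m := IsOpenImmersion.isIso m
      exact nConn_congr (asIso m)
  have hab : Set.range a ⊆ Set.range u := by
    rintro _ ⟨w, rfl⟩
    refine hu.ge ⟨?_, hOη _ ?_⟩
    · rw [show w = closedPoint (FractionRing R) from Subsingleton.elim (α := PrimeSpectrum _) _ _]
      exact subset_closure haG
    · rw [← Scheme.Hom.comp_apply, ha, specAlg_frac_apply]
  obtain ⟨a', ha'⟩ : ∃ a', a' ≫ u = a := by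
    obtain ⟨b, hb⟩ : ∃ b, b ≫ j = a := by
      obtain ⟨w, hw⟩ := hab ⟨closedPoint (FractionRing R), rfl⟩
      exact exists_lift_of_field a j ⟨_, hw⟩
    refine ⟨IsOpenImmersion.lift (j ⁻¹ᵁ O).ι b ?_, by rw [← Category.assoc, IsOpenImmersion.lift_fac, hb]⟩
    rw [Scheme.Opens.range_ι]
    rintro _ ⟨w, rfl⟩
    show j (b w) ∈ O
    rw [← Scheme.Hom.comp_apply, hb]
    exact (hu.le (hab ⟨w, rfl⟩)).2
  obtain ⟨l, hl, hlh⟩ := DVRProper.exists_lift' (u ≫ h) R (FractionRing R) a' (𝟙 _) (by
    rw [← Category.assoc, ha', ha, Category.comp_id])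
  refine ⟨l ≫ u, by rw [Category.assoc, hlh], ?_⟩
  rw [← Category.assoc, show specAlg R (FractionRing R) ≫ l = a' from hl, ha']

/-- The closed fibre of a proper closure is connected. -/
theorem isPreconnected_closed_fibre {X : Scheme.{u}} (h : X ⟶ Spec (CommRingCat.of R)) [IsSeparated h]
    [LocallyOfFiniteType h] [QuasiCompact h] (G : Set X) (hGη : ∀ x ∈ G, (h x).asIdeal = ⊥)
    (hGc : ∀ x ∈ closure G, (h x).asIdeal = ⊥ → x ∈ G)
    (hG : ∀ (K : Type u) [Field K] (g : Spec (CommRingCat.of K) ⟶ Spec (CommRingCat.of R)),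
      (∀ c, (g c).asIdeal = ⊥) → _root_.IsPreconnected (pullback.fst h g ⁻¹' G))
    {C : Scheme.{u}} (c : C ⟶ X) [IsProper (c ≫ h)] (hc : closure G ⊆ Set.range c) :
    _root_.IsPreconnected (closure G ∩ h ⁻¹' {closedPoint R}) := by
  obtain ⟨T, j, hj, hT, hr, hflat, hn⟩ := exists_closure_model h G hGη hGc hG
  haveI : UniversallyClosed (pullback.fst j c ≫ j ≫ h) := by
    haveI : IsProper c := IsProper.of_comp c h
    rw [← Category.assoc, pullback.condition, Category.assoc]; infer_instance
  haveI : Surjective (pullback.fst j c) := ⟨fun w => by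
    obtain ⟨v, hv⟩ := hc (hr.le ⟨w, rfl⟩)
    obtain ⟨z, hz, -⟩ := Scheme.Pullback.exists_preimage_pullback (f := j) (g := c) w v hv.symm
    exact ⟨z, hz⟩⟩
  haveI : UniversallyClosed (j ≫ h) := UniversallyClosed.of_comp_surjective (pullback.fst j c) _
  haveI : IsProper (j ≫ h) := {}
  haveI : Flat (j ≫ h) := hflat
  let s : ↥(Spec (CommRingCat.of R)) := closedPoint R
  let r := (Spec (CommRingCat.of R)).fromSpecResidueField s
  have h1 : nConn (pullback (j ≫ h) r) ≤ 1 := by
    refine (nConn_le_nGeomConnComp (j ≫ h) ((Spec (CommRingCat.of R)).residueField s) r s fun c =>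
      Scheme.fromSpecResidueField_apply _ _).trans ?_
    haveI : LocallyOfFinitePresentation (j ≫ h) := inferInstance
    exact (nGeomConnComp_le_of_specializes_proper (j ≫ h)
      (IsLocalRing.specializes_closedPoint (⟨⊥, Ideal.isPrime_bot⟩ : PrimeSpectrum R))
      fun x _ => isUnivOpenAt_of_flat _ x).trans (hn _ rfl)
  haveI := (ENat.card_le_one_iff_subsingleton _).mp h1
  haveI : PreconnectedSpace ↥(pullback (j ≫ h) r) := by
    rw [preconnectedSpace_iff_connectedComponent]
    exact fun x => Set.eq_univ_of_forall fun y => ConnectedComponents.coe_eq_coe'.mp (Subsingleton.elim _ _)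
  have e : closure G ∩ h ⁻¹' {closedPoint R} = (pullback.fst (j ≫ h) r ≫ j) '' Set.univ := by
    rw [Set.image_univ, Scheme.Hom.comp_base, TopCat.coe_comp, Set.range_comp, Scheme.Pullback.range_fst,
      Scheme.range_fromSpecResidueField, ← hr]
    ext x
    constructor
    · rintro ⟨⟨w, rfl⟩, hw⟩
      exact ⟨w, hw, rfl⟩
    · rintro ⟨w, hw, rfl⟩
      exact ⟨⟨w, rfl⟩, hw⟩
  rw [e]
  exact isPreconnected_univ.image _ (Scheme.Hom.continuous _).continuousOn

end Groth.L07.Count
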