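import Groth.Agent.L16.Exist.FormalSect
import Groth.Agent.L16.Exist.Rigid
import Groth.Agent.L16.HomSh.ModPowSect
import Groth.Agent.L16.HomSh.Basic
import Groth.Agent.L16.CohClosedPush

/-!
Clopen pieces of the special fibre of a proper scheme over a complete noetherian ring lift.
-/

set_option autoImplicit false
set_option linter.style.haveILetI false
set_option backward.isDefEq.respectTransparency false
set_option backward.isDefEq.respectTransparency.types false

universe u

open CategoryTheory CategoryTheory.Limits AlgebraicGeometry TopologicalSpace Opposite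

noncomputable section

namespace Groth.L07.ClopenLift

open Groth.L16
open Groth.L18.Frame (rs ro rs_rs rs_smul rs_self)
open Formal (smulMod modPow modPowπ modPowTrans modPowπ_trans)
open AffineBC (scal)

variable {A : Type u} [CommRing A] {X : Scheme.{u}} [X.Over (Spec (CommRingCat.of A))]

theorem mem_basicOpen_scal {U : X.Opens} {x : X} (a : A) :
    x ∈ X.basicOpen (scal A X U a) ↔
      x ∈ U ∧ a ∉ (show PrimeSpectrum A from (X ↘ Spec (CommRingCat.of A)) x).asIdeal := by
  rw [scal, RingHom.comp_apply, RingHom.comp_apply]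
  erw [Scheme.basicOpen_res, Scheme.Hom.appTop]
  refine and_congr Iff.rfl ?_
  erw [← Scheme.preimage_basicOpen]
  show (X ↘ Spec (CommRingCat.of A)) x ∈
    (Spec (CommRingCat.of A)).basicOpen ((Scheme.ΓSpecIso (CommRingCat.of A)).inv a) ↔ _
  rw [basicOpen_eq_of_affine']
  erw [Iso.inv_hom_id_apply]
  exact Iff.rfl

variable [IsNoetherianRing A] (I : Ideal A) [IsLocallyNoetherian X]

/-- The reductions have no sections off the special fibre. -/
theorem eq_zero_of_off {m : ℕ} {N : X.Modules} (hN : Coh.IsCoh N) {W : X.Opens}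
    (hW : ∀ w ∈ W, ¬ I ≤ (show PrimeSpectrum A from (X ↘ Spec (CommRingCat.of A)) w).asIdeal)
    (y : Γ(modPow I m N, W)) : y = 0 := by
  refine HomSh.ext_cover (modPow I m N) (fun V : {V : X.Opens // IsAffineOpen V ∧ V ≤ W} => V.1) (fun V => V.2.2)
    (fun w hw => ?_) fun V => ?_
  · obtain ⟨_, ⟨V, hV, rfl⟩, hwV, hVW⟩ := X.isBasis_affineOpens.exists_subset_of_mem_open hw W.isOpen
    exact Opens.mem_iSup.mpr ⟨⟨V, hV, hVW⟩, hwV⟩
  obtain ⟨V, hV, hVW⟩ := V
  obtain ⟨hsurj, hker⟩ := (HomSh.modPow_spec I hN m).2 V hV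
  obtain ⟨z, hz⟩ := hsurj (rs (modPow I m N) hVW y)
  have htop : I.map (scal A X V) = ⊤ := by
    by_contra hne
    obtain ⟨P, hP, hle⟩ := Ideal.exists_le_maximal _ hne
    let p : PrimeSpectrum Γ(X, V) := ⟨P, hP.isPrime⟩
    have hw : hV.fromSpec p ∈ V := by
      have : hV.fromSpec p ∈ Set.range hV.fromSpec := ⟨p, rfl⟩
      rwa [hV.range_fromSpec] at this
    refine hW _ (hVW hw) fun a ha => ?_
    by_contra hn
    have hmem : hV.fromSpec p ∈ X.basicOpen (scal A X V a) := (mem_basicOpen_scal a).mpr ⟨hw, hn⟩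
    have h2 : p ∈ hV.fromSpec ⁻¹ᵁ X.basicOpen (scal A X V a) := hmem
    rw [hV.fromSpec_preimage_basicOpen] at h2
    exact h2 (hle (Ideal.mem_map_of_mem _ ha))
  have h1 : (modPowπ I m N).app V z = 0 := (hker z).mpr (by rw [htop, Ideal.top_pow, Submodule.top_smul]; trivial)
  rw [← hz, h1]
  exact (map_zero ((modPow I m N).presheaf.map (homOfLE hVW).op).hom).symm

/-- A clopen piece of the special fibre of a proper scheme over a complete ring is cut out by a clopen subset. -/
theorem exists_clopen_lift [IsAdicComplete I A] [IsProper (X ↘ Spec (CommRingCat.of A))] (U : Set X)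
    (hU : U ⊆ (X ↘ Spec (CommRingCat.of A)).base ⁻¹' PrimeSpectrum.zeroLocus (I : Set A)) (hU1 : IsClosed U)
    (hU2 : IsClosed ((X ↘ Spec (CommRingCat.of A)).base ⁻¹' PrimeSpectrum.zeroLocus (I : Set A) \ U)) :
    ∃ W : Set X, IsClopen W ∧
      W ∩ (X ↘ Spec (CommRingCat.of A)).base ⁻¹' PrimeSpectrum.zeroLocus (I : Set A) = U := by
  classical
  let c := X ↘ Spec (CommRingCat.of A)
  let X₀ : Set X := c.base ⁻¹' PrimeSpectrum.zeroLocus (I : Set A)
  let F := Coh.structureModule X
  have hF : Coh.IsCoh F := CohClosedPush.isCoh_structure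
  let V : ULift.{u} Bool → X.Opens := fun b =>
    bif b.down then ⟨(X₀ \ U)ᶜ, hU2.isOpen_compl⟩ else ⟨Uᶜ, hU1.isOpen_compl⟩
  have hcov : ∀ x : X, ∃ b, x ∈ V b := fun x => by
    by_cases hx : x ∈ U
    · exact ⟨⟨true⟩, fun h => h.2 hx⟩
    · exact ⟨⟨false⟩, hx⟩
  have hoff : ∀ w, w ∈ V ⟨true⟩ → w ∈ V ⟨false⟩ →
      ¬ I ≤ (show PrimeSpectrum A from c w).asIdeal := fun w h₁ h₂ hle =>
    h₁ ⟨(hle : (↑I : Set A) ⊆ _), h₂⟩
  let val : ∀ b, Γ(F, V b) := fun b => bif b.down then (show Γ(F, V b) from (1 : Γ(X, V b))) else 0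
  have hz0 : ∀ {n : ℕ} {W : X.Opens}, W ≤ V ⟨true⟩ → W ≤ V ⟨false⟩ → ∀ s : Γ(modPow I n F, W), s = 0 :=
    fun {n W} h₁ h₂ s => eq_zero_of_off I hF (fun w hw => hoff w (h₁ hw) (h₂ hw)) s
  have hy : ∀ n : ℕ, ∃ y : Γ(modPow I (n + 1) F, ⊤),
      ∀ b, rs (modPow I (n + 1) F) (le_top : V b ≤ ⊤) y = (modPowπ I (n + 1) F).app (V b) (val b) := fun n =>
    HomSh.exists_glue (modPow I (n + 1) F) V (fun _ => le_top) (fun x _ => Opens.mem_iSup.mpr (hcov x))
      (fun b => (modPowπ I (n + 1) F).app (V b) (val b)) fun b b' => by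
        rcases b with ⟨_ | _⟩ <;> rcases b' with ⟨_ | _⟩
        · rfl
        · exact (hz0 (inf_le_right : V ⟨false⟩ ⊓ V ⟨true⟩ ≤ _) inf_le_left _).trans
            (hz0 inf_le_right inf_le_left _).symm
        · exact (hz0 (inf_le_left : V ⟨true⟩ ⊓ V ⟨false⟩ ≤ _) inf_le_right _).trans
            (hz0 inf_le_left inf_le_right _).symm
        · rfl
  choose y hy using hy
  have hnat : ∀ {M N : X.Modules} (φ : M ⟶ N) {O O' : X.Opens} (h : O' ≤ O) (s : Γ(M, O)),
      rs N h (φ.app O s) = φ.app O' (rs M h s) := fun {M N} φ {O O'} h s =>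
    (ConcreteCategory.congr_hom (φ.mapPresheaf.naturality (homOfLE h).op) s).symm
  have htr : ∀ n, (modPowTrans I (n + 1) F).app ⊤ (y (n + 1)) = y n := fun n =>
    HomSh.ext_cover _ V (fun _ => le_top) (fun x _ => Opens.mem_iSup.mpr (hcov x)) fun b => by
      rw [hnat, hy, hy]
      exact ConcreteCategory.congr_hom (congrArg (fun t => Scheme.Modules.Hom.app t (V b))
        (modPowπ_trans I (n + 1) F)) (val b)
  obtain ⟨z, hz, huniq⟩ := Exist.sect_exists I hF y htr
  let z' : Γ(X, ⊤) := z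
  have hsq : ∀ n, (modPowπ I (n + 1) F).app ⊤ (show Γ(F, ⊤) from z' * z') = y n := fun n => by
    rw [show (show Γ(F, ⊤) from z' * z') = z' • (show Γ(F, ⊤) from z') from rfl, Scheme.Modules.Hom.app_smul]
    refine HomSh.ext_cover _ V (fun _ => le_top) (fun x _ => Opens.mem_iSup.mpr (hcov x)) fun b => ?_
    rw [rs_smul, hz, hy, ← Scheme.Modules.Hom.app_smul]
    rcases b with ⟨_ | _⟩
    · exact congrArg _ (smul_zero _)
    · refine (congrArg _ (mul_one (ro le_top z') : ro le_top z' • (show Γ(F, V ⟨true⟩) from (1 : Γ(X, V ⟨true⟩))) =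
        (show Γ(F, V ⟨true⟩) from ro le_top z'))).trans ?_
      exact ((hnat (modPowπ I (n + 1) F) le_top z).symm.trans ((congrArg _ (hz n)).trans (hy n ⟨true⟩)))
  have hidem : z' * z' = z' := huniq _ hsq
  have hgerm : ∀ b (x : X) (hx : x ∈ V b), c x ∈ PrimeSpectrum.zeroLocus (I : Set A) →
      (x ∈ X.basicOpen z' ↔ b.down = true) := fun b x hx hx0 => by
    obtain ⟨_, ⟨O, hO, rfl⟩, hxO, hOV⟩ := X.isBasis_affineOpens.exists_subset_of_mem_open hx (V b).isOpen
    let d : Γ(X, O) := ro le_top z' - ro hOV (show Γ(X, V b) from val b)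
    have hd : (modPowπ I 1 F).app O (show Γ(F, O) from d) = 0 := by
      show (modPowπ I 1 F).app O (rs F le_top z - rs F hOV (val b)) = 0
      rw [map_sub, ← hnat, ← hnat, hz, ← hy 0 b, rs_rs]
      exact sub_self _
    have hmem := ((HomSh.modPow_spec I hF 1).2 O hO).2 _ |>.mp hd
    rw [pow_one] at hmem
    have hmem' : d ∈ I.map (scal A X O) := by
      refine Submodule.smul_induction_on hmem (fun r hr m _ =>
          Ideal.mul_mem_right (show Γ(X, O) from m) (I.map (scal A X O)) hr)
        (fun a b ha hb => Ideal.add_mem (I.map (scal A X O)) ha hb)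
    have hm : X.presheaf.germ O x hxO d ∈ IsLocalRing.maximalIdeal (X.presheaf.stalk x) := by
      have hle' : I.map (scal A X O) ≤
          (IsLocalRing.maximalIdeal (X.presheaf.stalk x)).comap (X.presheaf.germ O x hxO).hom := by
        rw [Ideal.map_le_iff_le_comap]
        intro a ha hunit
        exact ((mem_basicOpen_scal (U := O) a).mp ((Scheme.mem_basicOpen _ _ _ hxO).2 hunit)).2 (hx0 ha)
      exact hle' hmem'
    have hg : X.presheaf.germ O x hxO d =
        X.presheaf.germ ⊤ x trivial z' - (bif b.down then 1 else 0) := by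
      show X.presheaf.germ O x hxO (ro le_top z' - ro hOV (show Γ(X, V b) from val b)) = _
      rw [map_sub, TopCat.Presheaf.germ_res_apply, TopCat.Presheaf.germ_res_apply]
      congr 1
      rcases b with ⟨_ | _⟩
      · exact map_zero _
      · exact map_one _
    rw [hg] at hm
    rw [Scheme.mem_basicOpen _ _ _ (show x ∈ (⊤ : X.Opens) from trivial)]
    rcases b with ⟨_ | _⟩
    · simp only [cond_false, sub_zero] at hm
      simp only [Bool.false_eq_true, iff_false]
      exact hm
    · simp only [cond_true] at hm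
      simp only [iff_true]
      by_contra hn
      exact (IsLocalRing.maximalIdeal (X.presheaf.stalk x)).ne_top_iff_one.mp
        (IsLocalRing.maximalIdeal.isMaximal _).ne_top (by simpa using Ideal.sub_mem _ hn hm)
  refine ⟨(X.basicOpen z' : Set X), ⟨?_, (X.basicOpen z').isOpen⟩, ?_⟩
  · have e : (X.basicOpen z' : Set X) = (X.basicOpen (1 - z') : Set X)ᶜ := by
      ext x
      rw [Set.mem_compl_iff, SetLike.mem_coe, SetLike.mem_coe,
        Scheme.mem_basicOpen _ _ _ (show x ∈ (⊤ : X.Opens) from trivial),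
        Scheme.mem_basicOpen _ _ _ (show x ∈ (⊤ : X.Opens) from trivial)]
      let e := X.presheaf.germ ⊤ x trivial z'
      have he : e * (1 - e) = 0 := by
        rw [mul_sub, mul_one, show e * e = e from (map_mul _ _ _).symm.trans (congrArg _ hidem), sub_self]
      rw [map_sub, map_one]
      constructor
      · intro h1 h2
        exact not_isUnit_zero (he ▸ h1.mul h2)
      · intro h2
        exact (IsLocalRing.isUnit_or_isUnit_of_add_one (add_sub_cancel e 1)).resolve_right h2
    rw [e]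
    exact (X.basicOpen (1 - z')).isOpen.isClosed_compl
  · ext x
    constructor
    · rintro ⟨hx, hx0⟩
      by_contra hn
      exact Bool.false_ne_true ((hgerm ⟨false⟩ x hn hx0).mp hx)
    · exact fun hx => ⟨(hgerm ⟨true⟩ x (fun h => h.2 hx) (hU hx)).mpr rfl, hU hx⟩

end Groth.L07.ClopenLift
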