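import Groth.Agent.L19.MonoValuative
import Groth.Agent.L26.Misc.ResidueLift
import Groth.Agent.L01.CompletionReg
import Mathlib.RingTheory.AdicCompletion.Completeness
import Mathlib.FieldTheory.IsAlgClosed.AlgebraicClosure

/-!
Specializations in locally noetherian schemes are realized by complete discrete valuation rings with
algebraically closed residue field.
-/

universe u

open CategoryTheory AlgebraicGeometry IsLocalRing

namespace Groth.L07.Count

set_option autoImplicit false
set_option linter.style.haveILetI false
set_option maxSynthPendingDepth 3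
set_option backward.isDefEq.respectTransparency.types false
set_option backward.isDefEq.respectTransparency false

/-- The completion of a discrete valuation ring with algebraically closed residue field. -/
theorem exists_completion (A : Type u) [CommRing A] [IsDomain A] [IsDiscreteValuationRing A]
    [IsAlgClosed (ResidueField A)] :
    ∃ (B : Type u) (_ : CommRing B) (_ : IsDomain B) (_ : IsDiscreteValuationRing B) (ψ : A →+* B),
      Function.Injective ψ ∧ IsLocalHom ψ ∧ IsAdicComplete (maximalIdeal B) B ∧ IsAlgClosed (ResidueField B) := by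
  let B := AdicCompletion (maximalIdeal A) A
  haveI := Groth.L01.AnalUnram.isNoetherianRing_completion A
  have hmap := Groth.L01.AnalUnram.completion_map_maximalIdeal A
  obtain ⟨hB₁, hB₂⟩ : ∃ _ : IsDomain B, IsDiscreteValuationRing B := by
    rw [Groth.L01.CompletionReg.dvr_iff_regular_dim_one, ← Groth.L01.CompletionReg.isRegularLocalRing_iff_completion,
      Groth.L01.CompletionReg.ringKrullDim_completion, ← Groth.L01.CompletionReg.dvr_iff_regular_dim_one]
    exact ⟨inferInstance, inferInstance⟩
  have hloc : IsLocalHom (algebraMap A B) := ⟨fun a ha => by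
    by_contra hn
    have : algebraMap A B a ∈ maximalIdeal B := hmap ▸ Ideal.mem_map_of_mem _ ((mem_maximalIdeal a).mpr hn)
    exact (mem_maximalIdeal _).mp this ha⟩
  have hinj : Function.Injective (algebraMap A B) := AdicCompletion.of_injective (maximalIdeal A) A
  refine ⟨B, inferInstance, hB₁, hB₂, algebraMap A B, hinj, hloc, ?_, ?_⟩
  · have h := AdicCompletion.isAdicComplete (IsNoetherian.noetherian (maximalIdeal A)) (M := A)
    rw [← hmap]
    exact (IsAdicComplete.map_algebraMap_iff _ _).mpr h
  · let e : ResidueField A ≃+* ResidueField B := RingEquiv.ofBijective (ResidueField.map (algebraMap A B))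
      ⟨RingHom.injective _, fun r => by
        obtain ⟨b, rfl⟩ := residue_surjective r
        obtain ⟨a, ha⟩ := Groth.L01.AnalUnram.exists_sub_mem A b
        refine ⟨residue A a, ?_⟩
        rw [ResidueField.map_residue]
        exact ((Ideal.Quotient.mk_eq_mk_iff_sub_mem _ _).mpr ha).symm⟩
    exact IsAlgClosed.of_ringEquiv (ResidueField A) (ResidueField B) e

/-- A complete discrete valuation ring with algebraically closed residue field over a discrete valuation ring. -/
theorem exists_complete_over (A : Type u) [CommRing A] [IsDomain A] [IsDiscreteValuationRing A] :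
    ∃ (B : Type u) (_ : CommRing B) (_ : IsDomain B) (_ : IsDiscreteValuationRing B) (ψ : A →+* B),
      Function.Injective ψ ∧ IsLocalHom ψ ∧ IsAdicComplete (maximalIdeal B) B ∧ IsAlgClosed (ResidueField B) := by
  obtain ⟨A₁, _, _, _, φ, hφ, hφl, -, ⟨e, -⟩, -⟩ :=
    Groth.Agent.L26.ResidueLift.exists_dvr_extension A (AlgebraicClosure (ResidueField A))
  haveI : IsAlgClosed (ResidueField A₁) := IsAlgClosed.of_ringEquiv _ _ e.symm
  obtain ⟨B, _, _, _, ψ, hψ, hψl, hc, hk⟩ := exists_completion A₁
  exact ⟨B, inferInstance, inferInstance, inferInstance, ψ.comp φ, hψ.comp hφ, RingHom.isLocalHom_comp ψ φ, hc, hk⟩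

/-- Specializations are realized by complete discrete valuation rings with algebraically closed residue fields. -/
theorem exists_complete_dvr {Y : Scheme.{u}} [IsLocallyNoetherian Y] {y' y : Y} (h : y' ⤳ y) (hne : y' ≠ y) :
    ∃ (B : Type u) (_ : CommRing B) (_ : IsDomain B) (_ : IsDiscreteValuationRing B)
      (t : Spec (CommRingCat.of B) ⟶ Y),
      IsAdicComplete (maximalIdeal B) B ∧ IsAlgClosed (ResidueField B) ∧ t (closedPoint B) = y ∧
        ∀ η : Spec (CommRingCat.of B), (show PrimeSpectrum B from η).asIdeal = ⊥ → t η = y' := by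
  obtain ⟨W, t, hW, hc, hg⟩ := Groth.L19.exists_dvr_through h hne
  obtain ⟨B, _, _, _, ψ, hψ, hψl, hBc, hBk⟩ := exists_complete_over W
  refine ⟨B, inferInstance, inferInstance, inferInstance, Spec.map (CommRingCat.ofHom ψ) ≫ t, hBc, hBk, ?_, ?_⟩
  · rw [Scheme.Hom.comp_apply, ← hc]
    exact congrArg t.base (comap_closedPoint ψ)
  · intro η hη
    refine Eq.trans ?_ hg
    rw [Scheme.Hom.comp_apply, Scheme.Hom.comp_apply]
    refine congrArg t.base (PrimeSpectrum.ext ?_)
    show (show PrimeSpectrum B from η).asIdeal.comap ψ = (maximalIdeal _).comap W.subtype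
    rw [hη, maximalIdeal_eq_bot, ← RingHom.ker_eq_comap_bot, ← RingHom.ker_eq_comap_bot,
      (RingHom.injective_iff_ker_eq_bot _).mp hψ, (RingHom.injective_iff_ker_eq_bot _).mp Subtype.val_injective]

end Groth.L07.Count
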