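import Groth.Agent.L07.Count.Proper
import Groth.Agent.L07.Count.CompleteDVR
import Groth.Agent.L07.Count.ClopenLift

/-!
Lower semicontinuity of the number of geometric connected components for proper morphisms (EGA IV 15.5.3).
-/

universe u

open CategoryTheory CategoryTheory.Limits AlgebraicGeometry Groth.L07.Spread Topology IsLocalRing

namespace Groth.L07.Count

set_option autoImplicit false
set_option linter.style.haveILetI false
set_option maxSynthPendingDepth 3
set_option backward.isDefEq.respectTransparency.types false
set_option backward.isDefEq.respectTransparency false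

/-- Connected components of noetherian spaces are open. -/
theorem isOpen_connectedComponent_of_noetherian {Z : Type*} [TopologicalSpace Z] [TopologicalSpace.NoetherianSpace Z]
    (z : Z) : IsOpen (connectedComponent z) := by
  have e : (connectedComponent z)ᶜ = ⋃ T ∈ {T | T ∈ irreducibleComponents Z ∧ ¬ T ⊆ connectedComponent z}, T := by
    ext w
    simp only [Set.mem_compl_iff, Set.mem_iUnion, Set.mem_ofPred_eq, exists_prop]
    constructor
    · intro hw
      exact ⟨irreducibleComponent w, ⟨irreducibleComponent_mem_irreducibleComponents w,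
        fun hle => hw (hle mem_irreducibleComponent)⟩, mem_irreducibleComponent⟩
    · rintro ⟨T, ⟨hT, hle⟩, hwT⟩ hw
      exact hle ((connectedComponent_eq hw).symm ▸ hT.1.isConnected.isPreconnected.subset_connectedComponent hwT)
  rw [← isClosed_compl_iff, e]
  exact ((TopologicalSpace.NoetherianSpace.finite_irreducibleComponents (α := Z)).subset fun T hT => hT.1).isClosed_biUnion
    fun T hT => isClosed_of_mem_irreducibleComponents _ hT.1

/-- Over a complete discrete valuation ring, the closed fibre of a proper morphism open at its points has at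
most as many connected components as the generic fibre. -/
theorem nConn_closed_le_generic {B : Type u} [CommRing B] [IsDomain B] [IsDiscreteValuationRing B]
    [IsAdicComplete (maximalIdeal B) B] {T : Scheme.{u}} (h : T ⟶ Spec (CommRingCat.of B)) [IsProper h]
    (hopen : ∀ x, h x = closedPoint B → EGA43.IsOpenAt h.base x) :
    nConn (pullback h (specAlg B (ResidueField B))) ≤ nConn (pullback h (specAlg B (FractionRing B))) := by
  classical
  letI : T.Over (Spec (CommRingCat.of B)) := ⟨h⟩
  haveI : IsProper (T ↘ Spec (CommRingCat.of B)) := ‹IsProper h›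
  haveI : IsLocallyNoetherian T := LocallyOfFiniteType.isLocallyNoetherian h
  haveI : CompactSpace T := QuasiCompact.compactSpace_of_compactSpace h
  haveI : AlgebraicGeometry.IsNoetherian T := {}
  let P₀ := pullback h (specAlg B (ResidueField B))
  let π₀ := pullback.fst h (specAlg B (ResidueField B))
  haveI : IsClosedImmersion (specAlg B (ResidueField B)) :=
    IsClosedImmersion.spec_of_surjective _ IsLocalRing.residue_surjective
  haveI : IsLocallyNoetherian P₀ := LocallyOfFiniteType.isLocallyNoetherian (pullback.snd h (specAlg B (ResidueField B)))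
  haveI : CompactSpace P₀ := QuasiCompact.compactSpace_of_compactSpace (pullback.snd h (specAlg B (ResidueField B)))
  haveI : AlgebraicGeometry.IsNoetherian P₀ := {}
  have hX₀ : Set.range π₀ = h.base ⁻¹' PrimeSpectrum.zeroLocus (maximalIdeal B : Set B) := by
    ext x
    rw [Scheme.Pullback.range_fst]
    constructor
    · rintro ⟨c, hc⟩
      show (maximalIdeal B : Set B) ⊆ _
      rw [← hc, show (specAlg B (ResidueField B) c).asIdeal = RingHom.ker (algebraMap B (ResidueField B)) from
        specAlg_apply (ResidueField B) c]
      exact fun b hb => (residue_eq_zero_iff b).mpr hb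
    · intro hx
      refine ⟨(⟨⊥, Ideal.isPrime_bot⟩ : PrimeSpectrum (ResidueField B)), PrimeSpectrum.ext ?_⟩
      rw [specAlg_apply]
      exact (ker_residue).trans ((maximalIdeal.isMaximal B).eq_of_le (h x).isPrime.ne_top hx)
  have h1 : nConn P₀ ≤ nConn T := by
    refine ENat.card_le_card_of_injective (f := π₀.continuous.connectedComponentsMap) ?_
    intro a b hab
    obtain ⟨z, rfl⟩ := ConnectedComponents.surjective_coe a
    obtain ⟨w, rfl⟩ := ConnectedComponents.surjective_coe b
    by_contra hne
    let U : Set P₀ := connectedComponent z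
    have hw : w ∉ U := fun hw => hne (ConnectedComponents.coe_eq_coe.mpr (connectedComponent_eq hw))
    have hcl : IsClosed (π₀ '' U) := π₀.isClosedEmbedding.isClosedMap _ isClosed_connectedComponent
    have hcl' : IsClosed (h.base ⁻¹' PrimeSpectrum.zeroLocus (maximalIdeal B : Set B) \ π₀ '' U) := by
      rw [← hX₀, ← Set.image_univ, ← Set.image_sdiff π₀.isClosedEmbedding.injective]
      exact π₀.isClosedEmbedding.isClosedMap _ (isClosed_univ.sdiff (isOpen_connectedComponent_of_noetherian z))
    obtain ⟨W, hW, hWU⟩ := ClopenLift.exists_clopen_lift (maximalIdeal B) (π₀ '' U)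
      (hX₀ ▸ Set.image_subset_range π₀ U) hcl hcl'
    have hzW : π₀ z ∈ W := (hWU.ge ⟨z, mem_connectedComponent, rfl⟩).1
    have hwW : π₀ w ∈ W := by
      refine hW.connectedComponent_subset hzW ?_
      rw [ConnectedComponents.coe_eq_coe.mp hab]
      exact mem_connectedComponent
    obtain ⟨w', hw', e⟩ := hWU.le ⟨hwW, hX₀ ▸ ⟨w, rfl⟩⟩
    exact hw (π₀.isClosedEmbedding.injective e ▸ hw')
  refine h1.trans ?_
  let π₁ := pullback.fst h (specAlg B (FractionRing B))
  have hs : Function.Surjective π₁.continuous.connectedComponentsMap := fun c => by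
    obtain ⟨z, rfl⟩ := ConnectedComponents.surjective_coe c
    obtain ⟨b, hb, hbc⟩ : ∃ b ∈ connectedComponent z, h b = closedPoint B :=
      (IsLocalRing.specializes_closedPoint (h z)).mem_closed (h.isClosedMap _ isClosed_connectedComponent)
        ⟨z, mem_connectedComponent, rfl⟩
    obtain ⟨ζ, hζ, hζη⟩ := Groth.L07.ValDim.exists_generization h b (hopen b hbc)
      (⟨⊥, Ideal.isPrime_bot⟩ : PrimeSpectrum B) rfl
    obtain ⟨p, hp⟩ := exists_fst_eq h (FractionRing B) ζ (by
      rw [hζη]
      exact ((RingHom.injective_iff_ker_eq_bot _).mp (IsFractionRing.injective B (FractionRing B))).symm)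
    refine ⟨ConnectedComponents.mk p, ConnectedComponents.coe_eq_coe'.mpr ?_⟩
    show π₁ p ∈ connectedComponent z
    rw [show π₁ p = ζ from hp]
    exact hζ.mem_open (isOpen_connectedComponent_of_noetherian z) hb
  exact ENat.card_le_card_of_injective (Function.injective_surjInv hs)

/-- Along a specialization in a locally noetherian base, the geometric number of connected components of a
proper morphism open over the special point does not increase. -/
theorem nGeomConnComp_le_of_specializes_proper {X Y : Scheme.{u}} [IsLocallyNoetherian Y] (f : X ⟶ Y) [IsProper f]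
    {y' y : Y} (hy : y' ⤳ y) (hopen : ∀ x, f x = y → EGA43.IsUnivOpenAt f x) :
    MoreMor.nGeomConnComp f y ≤ MoreMor.nGeomConnComp f y' := by
  rcases eq_or_ne y' y with rfl | hne
  · exact le_rfl
  obtain ⟨B, _, _, _, t, hBc, hBk, htc, htη⟩ := exists_complete_dvr hy hne
  let h := pullback.snd f t
  have hsq := IsPullback.of_hasPullback f t
  have hc : ∀ c, specAlg B (ResidueField B) c = closedPoint B := fun c => PrimeSpectrum.ext (by
    rw [specAlg_apply]; exact ker_residue)
  have hη : ∀ c, (specAlg B (FractionRing B) c).asIdeal = ⊥ := fun c => by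
    rw [specAlg_apply]
    exact (RingHom.injective_iff_ker_eq_bot _).mp (IsFractionRing.injective B (FractionRing B))
  have h1 : MoreMor.nGeomConnComp f y = nConn (pullback h (specAlg B (ResidueField B))) := by
    rw [← htc, ← nGeomConnComp_of_isPullback f hsq, nGeomConnComp_eq h (ResidueField B) (specAlg B (ResidueField B)) _ hc]
  have hopen' : ∀ x, h x = closedPoint B → EGA43.IsOpenAt h.base x := fun x hx =>
    Groth.L07.UnivOpenAt.of_isPullback hsq (hopen (pullback.fst f t x) (by
      rw [← Scheme.Hom.comp_apply, pullback.condition, Scheme.Hom.comp_apply]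
      exact (congrArg t.base hx).trans htc)) x rfl
  refine h1.trans_le ((nConn_closed_le_generic h hopen').trans ?_)
  let η : Spec (CommRingCat.of B) := (⟨⊥, Ideal.isPrime_bot⟩ : PrimeSpectrum B)
  refine (nConn_le_nGeomConnComp h (FractionRing B) (specAlg B (FractionRing B)) η
    (fun c => PrimeSpectrum.ext (hη c))).trans_eq ?_
  rw [nGeomConnComp_of_isPullback f hsq, htη η rfl]

/-- Lower semicontinuity for proper morphisms. -/
theorem nGeomConnComp_le_nhds_proper {X Y : Scheme.{u}} [IsLocallyNoetherian Y] (f : X ⟶ Y) [IsProper f]
    [LocallyOfFinitePresentation f] (y : Y) (hopen : ∀ x, f x = y → EGA43.IsUnivOpenAt f x) :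
    ∃ V ∈ 𝓝 y, ∀ z ∈ V, MoreMor.nGeomConnComp f y ≤ MoreMor.nGeomConnComp f z :=
  ⟨nPair f ⁻¹' {p | MoreMor.nGeomConnComp f y ≤ p.1},
    mem_nhds_of_isLocallyConstructible (isLocallyConstructible_nPair f _) fun _ hz =>
      nGeomConnComp_le_of_specializes_proper f hz hopen, fun _ hz => hz⟩

end Groth.L07.Count
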