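import Groth.Agent.S0388
import Groth.Agent.L00.ProperNorm
import Groth.Agent.L07.Count.ProperLsc
import Groth.Agent.L07.Count.DVRClosure
import Groth.Agent.L07.QuasiSection
import Mathlib.AlgebraicGeometry.Geometrically.Connected

/-!
The geometric number of connected components over unibranch points (EGA IV 15.5).
-/

universe u

open CategoryTheory CategoryTheory.Limits AlgebraicGeometry Groth.L07.Spread Topology IsLocalRing

namespace Groth.L07.Count

set_option autoImplicit false
set_option linter.style.haveILetI false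
set_option maxSynthPendingDepth 3
set_option backward.isDefEq.respectTransparency.types false
set_option backward.isDefEq.respectTransparency false

/-- A geometrically connected morphism to a quasi-finite scheme keeps the geometric number of connected
components. -/
theorem nGeomConnComp_comp {X Z Y : Scheme.{u}} (g : X ⟶ Z) [GeometricallyConnected g] (h : Z ⟶ Y)
    [LocallyQuasiFinite h] (y : Y) :
    MoreMor.nGeomConnComp (g ≫ h) y = MoreMor.nGeomConnComp h y := by
  let K := AlgebraicClosure (Y.residueField y)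
  let gK : Spec (CommRingCat.of K) ⟶ Y :=
    Spec.map (CommRingCat.ofHom (algebraMap (Y.residueField y) K)) ≫ Y.fromSpecResidueField y
  have hg : ∀ c, gK c = y := fun c => by
    rw [Scheme.Hom.comp_apply]
    exact Scheme.fromSpecResidueField_apply _ _
  rw [nGeomConnComp_eq (g ≫ h) K gK y hg, nGeomConnComp_eq h K gK y hg,
    ← nConn_congr (pullbackRightPullbackFstIso h gK g)]
  haveI := discreteTopology_pullback h gK
  exact ENat.card_congr ((pullback.snd g (pullback.fst h gK)).connectedComponentsHomeomorph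
    fun U _ => isOpen_discrete _).toEquiv

/-- Points of one fibre of a quasi-finite morphism do not specialise to one another. -/
theorem eq_of_specializes_qf {X Y : Scheme.{u}} (f : X ⟶ Y) [LocallyQuasiFinite f] {a b : X} (h : a ⤳ b)
    (he : f a = f b) : a = b := by
  haveI := isDiscrete_iff_discreteTopology.mp (f.isDiscrete_preimage_singleton (f b))
  have h' : (⟨a, he⟩ : f ⁻¹' {f b}) ⤳ ⟨b, rfl⟩ := IsEmbedding.subtypeVal.isInducing.specializes_iff.mp h
  exact congrArg Subtype.val h'.eq

/-- Two maximal points above a unibranch point coincide. -/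
theorem eq_of_maximal_of_unibranch {Y : Scheme.{u}} {y : Y} (hy : CAlg2.IsUnibranch (Y.presheaf.stalk y))
    {η η' : Y} (h : η ⤳ y) (h' : η' ⤳ y) (hm : ∀ q, q ⤳ η → q = η) (hm' : ∀ q, q ⤳ η' → q = η') : η = η' := by
  obtain ⟨p, hp⟩ : η ∈ Set.range (Y.fromSpecStalk y) := by rw [Scheme.range_fromSpecStalk]; exact h
  obtain ⟨p', hp'⟩ : η' ∈ Set.range (Y.fromSpecStalk y) := by rw [Scheme.range_fromSpecStalk]; exact h'
  let R := Y.presheaf.stalk y
  haveI : IsDomain (CAlg2.red R) := hy.1
  let ν : Spec (Y.presheaf.stalk y) := (⟨nilradical R, (Ideal.Quotient.isDomain_iff_prime _).mp hy.1⟩ : PrimeSpectrum R)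
  have hν : ∀ q, ν ⤳ q := fun q => (PrimeSpectrum.le_iff_specializes
    (⟨nilradical R, (Ideal.Quotient.isDomain_iff_prime _).mp hy.1⟩ : PrimeSpectrum R) q).mp
    (nilradical_le_prime _)
  exact (hm _ (hp ▸ (hν p).map (Y.fromSpecStalk y).continuous)).symm.trans
    (hm' _ (hp' ▸ (hν p').map (Y.fromSpecStalk y).continuous))

/-- Lower semicontinuity at a geometrically unibranch point (EGA IV 15.5.3). -/
theorem nGeomConnComp_le_nhds_unibranch {X Y : Scheme.{u}} [IrreducibleSpace Y] [IsLocallyNoetherian Y]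
    (f : X ⟶ Y) [IsProper f]
    (hdom : ∀ Z ∈ irreducibleComponents (X : Type u), closure (f.base '' Z) = Set.univ) (y₀ : Y)
    (hy : CAlg2.IsGeomUnibranch (Y.presheaf.stalk y₀)) :
    ∃ V ∈ 𝓝 y₀, ∀ z ∈ V, MoreMor.nGeomConnComp f y₀ ≤ MoreMor.nGeomConnComp f z := by
  let g := f.toNormalization
  let h := f.fromNormalization
  haveI : GeometricallyConnected g := (Groth.Agent.S0388.result f).1
  haveI : IsFinite h := Groth.L00.ProperNorm.isFinite_fromNormalization f
  haveI : LocallyOfFinitePresentation h := Groth.L23.lfp_of_lft_locallyNoetherian h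
  have hgh : g ≫ h = f := f.toNormalization_fromNormalization
  have he : ∀ z, MoreMor.nGeomConnComp f z = MoreMor.nGeomConnComp h z := fun z =>
    (congrArg (fun k => MoreMor.nGeomConnComp k z) hgh.symm).trans (nGeomConnComp_comp g h z)
  obtain ⟨V, hV, hVz⟩ := nGeomConnComp_le_nhds h y₀ fun t ht => by
    obtain ⟨ζ, hζ, hζmax⟩ := Groth.L07.Equidim.exists_maximal_generization t
    refine Groth.L07.QuasiSection.isUnivOpenAt_of_qf h t (ht ▸ hy) ζ hζ ?_
    obtain ⟨x, hx⟩ := g.surjective ζ
    obtain ⟨μ, hμ, hμmax⟩ := Groth.L07.Equidim.exists_maximal_generization x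
    have hgμ : g μ = ζ := hζmax _ (hx ▸ hμ.map g.continuous)
    have hc := hdom _ ((Groth.L07.EquidimQF.closure_singleton_mem_irreducibleComponents_iff μ).mpr hμmax)
    rw [Groth.L07.Equidim.closure_image_closure' f.continuous μ] at hc
    have hη : f μ = genericPoint Y :=
      IsGenericPoint.eq (S := Set.univ) hc (genericPoint_spec Y)
    rw [← hgh, Scheme.Hom.comp_apply, hgμ] at hη
    rw [hη]
    exact fun η' hη' => (hη'.antisymm ((genericPoint_spec Y).specializes trivial)).eq
  exact ⟨V, hV, fun z hz => by rw [he, he]; exact hVz z hz⟩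

theorem disjoint_irreducibleComponents {X Y : Scheme.{u}} [IsLocallyNoetherian Y]
    (hY : ∀ y : Y, CAlg2.IsGeomUnibranch (Y.presheaf.stalk y)) (f : X ⟶ Y)
    [IsSeparated f] [LocallyQuasiFinite f] [LocallyOfFiniteType f] [QuasiCompact f] [UniversallyOpen f]
    (hn : IsLocallyConstant (fun z : Y => MoreMor.nGeomConnComp f z)) :
    ∀ Z ∈ irreducibleComponents (X : Type u), ∀ Z' ∈ irreducibleComponents (X : Type u), Z ≠ Z' →
      Disjoint Z Z' := by
  intro Z hZ Z' hZ' hne
  obtain ⟨ζ, hζg⟩ := QuasiSober.sober hZ.1 (isClosed_of_mem_irreducibleComponents Z hZ)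
  obtain ⟨ζ', hζg'⟩ := QuasiSober.sober hZ'.1 (isClosed_of_mem_irreducibleComponents Z' hZ')
  obtain rfl := hζg.def
  obtain rfl := hζg'.def
  rw [Set.disjoint_left]
  intro x hx hx'
  have hζx : ζ ⤳ x := specializes_iff_mem_closure.mpr hx
  have hζx' : ζ' ⤳ x := specializes_iff_mem_closure.mpr hx'
  have hopen : ∀ a : X, EGA43.IsUnivOpenAt f a := fun a Y' g x' _ U hU =>
    (pullback.snd f g).isOpenMap.image_mem_nhds hU
  have hmax : ∀ μ : X, (∀ μ', μ' ⤳ μ → μ' = μ) → ∀ q, q ⤳ f μ → q = f μ := fun μ hμ q hq => by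
    obtain ⟨a, ha, hfa, -⟩ := Groth.L07.ValDim.exists_generization_fdim_ge f μ
      (fun a h1 h2 => eq_of_specializes_qf f h2 h1) (hopen μ) hq
    rw [← hfa, hμ a ha]
  have hζmax := (Groth.L07.EquidimQF.closure_singleton_mem_irreducibleComponents_iff ζ).mp hZ
  have hζmax' := (Groth.L07.EquidimQF.closure_singleton_mem_irreducibleComponents_iff ζ').mp hZ'
  let η := f ζ
  have hηy : η ⤳ f x := hζx.map f.continuous
  have hηη' : f ζ' = η := eq_of_maximal_of_unibranch (hY (f x)).1 (hζx'.map f.continuous) hηy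
    (hmax ζ' hζmax') (hmax ζ hζmax)
  let Ω := AlgebraicClosure (Y.residueField η)
  let g : Spec (CommRingCat.of Ω) ⟶ Y :=
    Spec.map (CommRingCat.ofHom (algebraMap (Y.residueField η) Ω)) ≫ Y.fromSpecResidueField η
  have hg : ∀ c, g c = η := fun c => by
    rw [Scheme.Hom.comp_apply]
    exact Scheme.fromSpecResidueField_apply _ _
  obtain ⟨A, t, htc, htg⟩ := exists_valuation g hg hηy
  have hy' : ∀ c, (specAlg A Ω ≫ t) c = η := fun c => by rw [htg]; exact hg c
  haveI : IsAlgClosed (IsLocalRing.ResidueField A) := Groth.Agent.L26.ResidueLift.isAlgClosed_residue A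
  haveI := finite_lifts f (specAlg A Ω ≫ t)
  haveI : Finite (SecLifts f A t) := Finite.of_injective _ (resGen_injective f A t)
  haveI := finite_lifts f (clPt A ≫ t)
  have hcard : Nat.card (SecLifts f A t) ≤ Nat.card (Lifts f (clPt A ≫ t)) := by
    refine (Nat.card_le_card_of_injective _ (resGen_injective f A t)).trans (le_of_eq ?_)
    have e : MoreMor.nGeomConnComp f η = MoreMor.nGeomConnComp f (f x) :=
      hηy.mem_open (hn.isOpen_fiber (MoreMor.nGeomConnComp f (f x))) rfl
    rw [nGeomConnComp_eq_card_lifts f (specAlg A Ω ≫ t) η hy',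
      nGeomConnComp_eq_card_lifts f (clPt A ≫ t) (f x)
        (fun c => by rw [Scheme.Hom.comp_apply, clPt_apply, htc]),
      ENat.card_eq_coe_natCard, ENat.card_eq_coe_natCard] at e
    exact Nat.cast_inj.mp e
  have hbij : Function.Injective (resCl f A t) :=
    ((resCl_surjective f A t fun a _ => hopen a).bijective_of_nat_card_le hcard).1
  let c₀ := IsLocalRing.closedPoint (IsLocalRing.ResidueField A)
  haveI := discreteTopology_pullback f (clPt A ≫ t)
  obtain ⟨p, hp, -⟩ := Scheme.Pullback.exists_preimage_pullback (f := f) (g := clPt A ≫ t) x c₀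
    (by rw [Scheme.Hom.comp_apply, clPt_apply, htc])
  let c : Spec (CommRingCat.of (IsLocalRing.ResidueField A)) ⟶ X :=
    pointOfClosedPoint (pullback.snd f (clPt A ≫ t)) p (isClosed_discrete _) ≫
      pullback.fst f (clPt A ≫ t)
  have hc : c ≫ f = clPt A ≫ t := by
    rw [Category.assoc, pullback.condition, pointOfClosedPoint_comp_assoc]
  have hcx : c c₀ = x := by
    rw [Scheme.Hom.comp_apply, pointOfClosedPoint_apply]; exact hp
  have key : ∀ μ : X, (∀ μ', μ' ⤳ μ → μ' = μ) → μ ⤳ x → f μ = η →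
      ∃ σ : SecLifts f A t, resCl f A t σ = ⟨c, hc⟩ ∧ σ.1 (⟨⊥, Ideal.isPrime_bot⟩ : PrimeSpectrum A) = μ := by
    intro μ hμmax hμx hμη
    let I := Scheme.IdealSheafData.vanishingIdeal
      (⟨closure {μ}, isClosed_closure⟩ : TopologicalSpace.Closeds X)
    let T := I.subscheme
    let i : T ⟶ X := I.subschemeι
    have hi : Set.range i = closure {μ} := by
      show Set.range I.subschemeι = _
      rw [Scheme.IdealSheafData.range_subschemeι, Scheme.IdealSheafData.coe_support_vanishingIdeal]
      rfl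
    obtain ⟨μT, hμT⟩ : μ ∈ Set.range i := by rw [hi]; exact subset_closure rfl
    have hopenT : ∀ a : T, (i ≫ f) a = t (IsLocalRing.closedPoint A) → EGA43.IsUnivOpenAt (i ≫ f) a := by
      intro a _
      refine Groth.L07.QuasiSection.isUnivOpenAt_of_qf (i ≫ f) a (hY _) μT ?_ ?_
      · refine i.isEmbedding.isInducing.specializes_iff.mp ?_
        rw [hμT]
        exact specializes_iff_mem_closure.mpr (hi ▸ ⟨a, rfl⟩)
      · rw [Scheme.Hom.comp_apply, hμT]
        exact hmax μ hμmax
    obtain ⟨cT, hcT⟩ := exists_lift_of_field c i (by rw [hi, hcx]; exact specializes_iff_mem_closure.mp hμx)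
    obtain ⟨σ, hσ⟩ := resCl_surjective (i ≫ f) A t hopenT ⟨cT, by rw [reassoc_of% hcT, hc]⟩
    refine ⟨⟨σ.1 ≫ i, by rw [Category.assoc, σ.2]⟩, Subtype.ext ?_, ?_⟩
    · show clPt A ≫ σ.1 ≫ i = c
      rw [← Category.assoc, show clPt A ≫ σ.1 = cT from congrArg Subtype.val hσ, hcT]
    · let b : Spec (CommRingCat.of A) := (⟨⊥, Ideal.isPrime_bot⟩ : PrimeSpectrum A)
      show (σ.1 ≫ i) b = μ
      refine (eq_of_specializes_qf f (specializes_iff_mem_closure.mpr (hi ▸ ⟨σ.1 b, rfl⟩)) ?_).symm
      rw [hμη, ← Scheme.Hom.comp_apply, Category.assoc, σ.2]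
      refine (hy' (IsLocalRing.closedPoint Ω)).symm.trans ?_
      rw [Scheme.Hom.comp_apply]
      refine congrArg t.base (PrimeSpectrum.ext ?_)
      rw [specAlg_apply]
      exact ((RingHom.injective_iff_ker_eq_bot _).mp (IsFractionRing.injective A Ω))
  obtain ⟨σ, hσ, hσ0⟩ := key ζ hζmax hζx rfl
  obtain ⟨σ', hσ', hσ0'⟩ := key ζ' hζmax' hζx' hηη'
  rw [hbij (hσ.trans hσ'.symm), hσ0'] at hσ0
  exact hne (by rw [hσ0])

end Groth.L07.Count
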