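import Groth.Agent.L07.Count.Proper
import Mathlib.AlgebraicGeometry.Morphisms.Etale
import Mathlib.AlgebraicGeometry.Morphisms.Flat
import Groth.Agent.L23.QFDescent

/-!
The number of geometric points of the fibres of an étale separated morphism (EGA IV 18.2.8).
-/

universe u

open CategoryTheory CategoryTheory.Limits AlgebraicGeometry Groth.L07.Spread Topology

namespace Groth.L07.Count

set_option autoImplicit false
set_option linter.style.haveILetI false
set_option maxSynthPendingDepth 3
set_option backward.isDefEq.respectTransparency.types false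
set_option backward.isDefEq.respectTransparency false

theorem isUnivOpenAt_of_universallyOpen' {X Y : Scheme.{u}} (f : X ⟶ Y) [UniversallyOpen f] (x : X) :
    EGA43.IsUnivOpenAt f x := fun Y' t x' _ => fun U hU => (pullback.snd f t).isOpenMap.image_mem_nhds hU

/-- For a quasi-finite morphism the geometric fibre has as many points as components. -/
theorem card_geomFiber {X Y : Scheme.{u}} (f : X ⟶ Y) [LocallyQuasiFinite f] (y : Y) :
    ENat.card ↥(MoreMor.geomFiber f y) = MoreMor.nGeomConnComp f y := by
  haveI : LocallyQuasiFinite (f.fiberToSpecResidueField y) :=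
    inferInstanceAs (LocallyQuasiFinite (pullback.snd f (Y.fromSpecResidueField y)))
  haveI : DiscreteTopology ↥(MoreMor.geomFiber f y) := discreteTopology_pullback _ _
  refine ENat.card_congr (Equiv.ofBijective ConnectedComponents.mk ⟨fun a b hab => ?_,
    ConnectedComponents.surjective_coe⟩)
  have h := ConnectedComponents.coe_eq_coe'.mp hab
  rwa [connectedComponent_eq_singleton, Set.mem_singleton_iff] at h

theorem lowerSemicontinuous_nGeomConnComp {X Y : Scheme.{u}} (f : X ⟶ Y) [LocallyOfFinitePresentation f]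
    [IsSeparated f] [LocallyQuasiFinite f] [QuasiCompact f] [UniversallyOpen f] :
    LowerSemicontinuous (fun y : Y => MoreMor.nGeomConnComp f y) := fun y c hc => by
  obtain ⟨V, hV, hVn⟩ := nGeomConnComp_le_nhds f y fun x _ => isUnivOpenAt_of_universallyOpen' f x
  exact Filter.mem_of_superset hV fun z hz => lt_of_lt_of_le hc (hVn z hz)

/-- For a finite étale morphism the number of geometric points is locally constant. -/
theorem nGeomConnComp_nhds_eq {X Y : Scheme.{u}} (f : X ⟶ Y) [Etale f] [IsFinite f] (y : Y) :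
    {z | MoreMor.nGeomConnComp f z = MoreMor.nGeomConnComp f y} ∈ 𝓝 y := by
  refine mem_nhds_of_isLocallyConstructible (E := {z | MoreMor.nGeomConnComp f z = MoreMor.nGeomConnComp f y})
    (isLocallyConstructible_nPair f {p | p.1 = MoreMor.nGeomConnComp f y}) fun z hz => ?_
  refine le_antisymm ?_ (nGeomConnComp_le_of_specializes f hz fun x _ => isUnivOpenAt_of_universallyOpen' f x)
  let Ω := AlgebraicClosure (Y.residueField z)
  let g : Spec (CommRingCat.of Ω) ⟶ Y :=
    Spec.map (CommRingCat.ofHom (algebraMap (Y.residueField z) Ω)) ≫ Y.fromSpecResidueField z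
  have hg : ∀ c, g c = z := fun c => by
    rw [Scheme.Hom.comp_apply]
    exact Scheme.fromSpecResidueField_apply _ _
  obtain ⟨A, t, htc, htg⟩ := exists_valuation g hg hz
  haveI : IsAlgClosed (IsLocalRing.ResidueField A) := Groth.Agent.L26.ResidueLift.isAlgClosed_residue A
  rw [nGeomConnComp_eq_card_lifts f (specAlg A Ω ≫ t) z (fun c => by rw [htg]; exact hg c),
    nGeomConnComp_eq_card_lifts f (clPt A ≫ t) y (fun c => by rw [Scheme.Hom.comp_apply, clPt_apply, htc])]
  have hsurj : Function.Surjective (resGen f A t) := fun s => by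
    have hex : ValuativeCriterion.Existence f := by
      have h : UniversallyClosed f := inferInstance
      rw [UniversallyClosed.eq_valuativeCriterion] at h
      exact h.1
    obtain ⟨l, hl₁, hl₂⟩ := (hex { R := A, K := Ω, i₁ := s.1, i₂ := t, commSq := ⟨s.2⟩ }).exists_lift
    exact ⟨⟨l, hl₂⟩, Subtype.ext hl₁⟩
  exact (ENat.card_le_card_of_injective (Function.injective_surjInv hsurj)).trans
    (ENat.card_le_card_of_injective (resCl_injective f A t))

/-- The points of the geometric fibres are constant near a point iff the morphism is finite near it. -/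
theorem const_nhd_iff_finite {X Y : Scheme.{u}} (f : X ⟶ Y) [Etale f] [IsSeparated f] [QuasiCompact f] (y : Y) :
    (∃ U : Y.Opens, y ∈ U ∧ ∀ z ∈ U, MoreMor.nGeomConnComp f z = MoreMor.nGeomConnComp f y) ↔
      ∃ U : Y.Opens, y ∈ U ∧ IsFinite (f ∣_ U) := by
  constructor
  · rintro ⟨U, hy, hU⟩
    obtain ⟨V, hyV, hV⟩ := isProper_nhd_of_const f y (fun x _ => isUnivOpenAt_of_universallyOpen' f x)
      fun z hz => hU z (hz.mem_open U.isOpen hy)
    haveI : LocallyQuasiFinite (f ∣_ V) := inferInstance
    exact ⟨V, hyV, IsFinite.of_isProper_of_locallyQuasiFinite _⟩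
  · rintro ⟨U, hy, hU⟩
    haveI : Etale (f ∣_ U) := IsZariskiLocalAtTarget.restrict (P := @Etale) inferInstance U
    have h := nGeomConnComp_nhds_eq (f ∣_ U) (⟨y, hy⟩ : U)
    obtain ⟨O, hO, hOop, hyO⟩ := mem_nhds_iff.mp h
    refine ⟨U.ι ''ᵁ ⟨O, hOop⟩, ⟨⟨y, hy⟩, hyO, rfl⟩, ?_⟩
    rintro _ ⟨w, hw, rfl⟩
    have hc := isPullback_morphismRestrict f U
    have h2 := hO hw
    rw [Set.mem_ofPred_eq, nGeomConnComp_of_isPullback f hc.flip, nGeomConnComp_of_isPullback f hc.flip] at h2
    exact h2

end Groth.L07.Count
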