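import Groth.Agent.L07.Count.CompleteDVR
import Groth.Agent.L07.DVRProperApps
import Groth.Agent.L07.UnivOpenPointwise
import Groth.Agent.L01.NagataComplete
import Groth.Agent.L05.Hensel.IntegralDomain
import Groth.Agent.L02.Gonflement.Main
import Mathlib.RingTheory.ZariskisMainTheorem

/-!
Universal openness at a point and lifting of points of the special fibre over finite extensions of complete
discrete valuation rings (EGA IV 14.5.9).
-/

universe u

open CategoryTheory CategoryTheory.Limits AlgebraicGeometry Topology IsLocalRing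

namespace Groth.L07.Count

set_option autoImplicit false
set_option linter.style.haveILetI false
set_option maxSynthPendingDepth 3
set_option backward.isDefEq.respectTransparency.types false
set_option backward.isDefEq.respectTransparency false

theorem henselian_of_complete (A : Type u) [CommRing A] [IsLocalRing A] [IsAdicComplete (maximalIdeal A) A] :
    HenselianLocalRing A :=
  { is_henselian := fun f hf a₀ h1 h2 =>
      HenselianRing.is_henselian (I := maximalIdeal A) f hf a₀ h1 (h2.map (Ideal.Quotient.mk _)) }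

/-- An integral domain of finite type over a complete discrete valuation ring, whose given maximal ideal over
the closed point dominates only primes over the closed point, is finite. -/
theorem finite_of_isolated {A S : Type u} [CommRing A] [IsDomain A] [IsDiscreteValuationRing A]
    [IsAdicComplete (maximalIdeal A) A] [CommRing S] [IsDomain S] [Algebra A S] [Algebra.FiniteType A S]
    (hinj : Function.Injective (algebraMap A S)) (q : Ideal S) [q.IsMaximal]
    (hq : q.comap (algebraMap A S) = maximalIdeal A)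
    (hmin : ∀ Q : Ideal S, Q.IsPrime → Q ≤ q → Q ≠ ⊥ → maximalIdeal A ≤ Q.comap (algebraMap A S)) :
    Module.Finite A S := by
  classical
  haveI : IsNoetherianRing S := Algebra.FiniteType.isNoetherianRing A S
  obtain ⟨ϖ, hϖ⟩ := IsDiscreteValuationRing.exists_irreducible A
  let c := algebraMap A S ϖ
  have hc0 : c ≠ 0 := fun e => hϖ.ne_zero (hinj (e.trans (map_zero _).symm))
  have hmem : ∀ Q : Ideal S, maximalIdeal A ≤ Q.comap (algebraMap A S) ↔ c ∈ Q := fun Q => by
    rw [hϖ.maximalIdeal_eq, Ideal.span_le, Set.singleton_subset_iff]; rfl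
  have hcq : c ∈ q := (hmem q).mp hq.ge
  let M := (Ideal.span {c}).minimalPrimes
  have hMfin : M.Finite := Ideal.finite_minimalPrimes_of_isNoetherianRing S _
  have hcM : ∀ Q ∈ M, c ∈ Q := fun Q hQ => hQ.1.2 (Ideal.mem_span_singleton_self c)
  have hqM : q ∈ M := by
    by_contra hqn
    obtain ⟨x, hxq, hx⟩ : ∃ x ∈ q, ∀ Q ∈ M, x ∉ Q := by
      by_contra hcon
      push Not at hcon
      have hsub : (q : Set S) ⊆ ⋃ Q ∈ hMfin.toFinset, (Q : Set S) := fun x hx => by
        obtain ⟨Q, hQ, hxQ⟩ := hcon x hx
        exact Set.mem_biUnion (hMfin.mem_toFinset.mpr hQ) hxQ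
      obtain ⟨Q, hQ, hle⟩ := (Ideal.subset_union_prime (f := fun Q : Ideal S => Q) ⊥ ⊥
        (fun Q hQ _ _ => (hMfin.mem_toFinset.mp hQ).1.1)).mp hsub
      have hQ' := hMfin.mem_toFinset.mp hQ
      exact hqn ((show q = Q from le_antisymm hle (hQ'.2 ⟨inferInstance, by rwa [Ideal.span_le, Set.singleton_subset_iff]⟩ hle)) ▸ hQ')
    obtain ⟨Q, hQ, hQq⟩ := Ideal.exists_minimalPrimes_le (J := q) (I := Ideal.span {x})
      (by rwa [Ideal.span_le, Set.singleton_subset_iff])
    haveI := hQ.1.1
    have hxQ : x ∈ Q := hQ.1.2 (Ideal.mem_span_singleton_self x)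
    have hQ0 : Q ≠ ⊥ := by
      intro e
      obtain ⟨Q₁, hQ₁, -⟩ := Ideal.exists_minimalPrimes_le (J := q) (I := Ideal.span {c})
        (by rwa [Ideal.span_le, Set.singleton_subset_iff])
      exact hx Q₁ hQ₁ (by rw [show x = 0 from (Submodule.mem_bot S).mp (e ▸ hxQ)]; exact zero_mem _)
    obtain ⟨Q₁, hQ₁, hQ₁Q⟩ := Ideal.exists_minimalPrimes_le (J := Q) (I := Ideal.span {c})
      (by rw [Ideal.span_le, Set.singleton_subset_iff]; exact (hmem Q).mp (hmin Q hQ.1.1 hQq hQ0))
    haveI := hQ₁.1.1
    refine hx Q₁ hQ₁ (by_contra fun hxQ₁ => ?_)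
    have hlt : Q₁ < Q := lt_of_le_of_ne hQ₁Q fun e => hxQ₁ (e ▸ hxQ)
    have hlt0 : (⊥ : Ideal S) < Q₁ := bot_lt_iff_ne_bot.mpr fun e => hc0 ((Submodule.mem_bot S).mp (e ▸ hcM Q₁ hQ₁))
    haveI : (⊥ : Ideal S).IsPrime := Ideal.isPrime_bot
    have h1 : Q.height ≤ 1 := by
      haveI : (Ideal.span {x}).IsPrincipal := ⟨⟨x, rfl⟩⟩
      exact Ideal.height_le_one_of_isPrincipal_of_mem_minimalPrimes (Ideal.span {x}) Q hQ
    haveI : Q₁.FiniteHeight := inferInstance
    have h2 : Q₁.height < Q.height := Ideal.height_strict_mono_of_isPrime hlt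
    have h3 : (⊥ : Ideal S).height < Q₁.height := Ideal.height_strict_mono_of_isPrime hlt0
    have h4 : Q₁.height = 0 := ENat.lt_one_iff_eq_zero.mp (h2.trans_le h1)
    exact not_lt_bot (h4 ▸ h3)
  obtain ⟨t, htq, ht⟩ : ∃ t, t ∉ q ∧ ∀ Q ∈ M, Q ≠ q → t ∈ Q := by
    have h : ∀ Q ∈ hMfin.toFinset.erase q, ∃ t ∈ Q, t ∉ q := by
      intro Q hQ
      obtain ⟨hne, hQ⟩ := Finset.mem_erase.mp hQ
      by_contra hcon
      push Not at hcon
      exact hne (le_antisymm hcon (hqM.2 ⟨(hMfin.mem_toFinset.mp hQ).1.1, (hMfin.mem_toFinset.mp hQ).1.2⟩ hcon))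
    choose t ht htq using h
    refine ⟨∏ Q ∈ (hMfin.toFinset.erase q).attach, t Q.1 Q.2, fun hp => ?_, fun Q hQ hne => ?_⟩
    · obtain ⟨Q, -, hQ⟩ := (Ideal.IsPrime.prod_mem_iff (p := q)).mp hp
      exact htq Q.1 Q.2 hQ
    · have hQ' : Q ∈ hMfin.toFinset.erase q := Finset.mem_erase.mpr ⟨hne, hMfin.mem_toFinset.mpr hQ⟩
      exact Ideal.mem_of_dvd _ (Finset.dvd_prod_of_mem _ (Finset.mem_attach _ ⟨Q, hQ'⟩)) (ht Q hQ')
  haveI : Algebra.QuasiFiniteAt A q := by
    let q' : PrimeSpectrum S := ⟨q, inferInstance⟩
    refine Algebra.QuasiFiniteAt.of_isOpen_singleton_fiber q' ?_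
    convert (PrimeSpectrum.basicOpen t).isOpen.preimage continuous_subtype_val
    ext ⟨Q, hQ⟩
    simp only [Set.mem_singleton_iff, Subtype.mk.injEq, Set.mem_preimage, SetLike.mem_coe, PrimeSpectrum.mem_basicOpen]
    refine ⟨fun e => e ▸ htq, fun htQ => ?_⟩
    have hQm : maximalIdeal A ≤ Q.asIdeal.comap (algebraMap A S) := by
      have : (Q.asIdeal.comap (algebraMap A S)) = q.comap (algebraMap A S) := congrArg PrimeSpectrum.asIdeal hQ
      rw [this, hq]
    obtain ⟨Q₁, hQ₁, hQ₁Q⟩ := Ideal.exists_minimalPrimes_le (J := Q.asIdeal) (I := Ideal.span {c})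
      (by rw [Ideal.span_le, Set.singleton_subset_iff]; exact (hmem _).mp hQm)
    have e : Q₁ = q := by_contra fun hne => htQ (hQ₁Q (ht Q₁ hQ₁ hne))
    exact PrimeSpectrum.ext ((Ideal.IsMaximal.eq_of_le ‹q.IsMaximal› Q.isPrime.ne_top (e ▸ hQ₁Q)).symm)
  obtain ⟨S₀, hS₀, r, hr, hbij⟩ := Algebra.QuasiFiniteAt.exists_fg_and_exists_notMem_and_awayMap_bijective (R := A) q
  haveI : Module.Finite A S₀ := ⟨(Submodule.fg_top _).mpr hS₀⟩
  haveI : HenselianLocalRing A := henselian_of_complete A
  haveI : Algebra.IsIntegral A S₀ := Algebra.IsIntegral.of_finite A S₀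
  haveI : IsLocalRing S₀ := Groth.L05.isLocalRing_of_integral_domain (A := A) S₀
  have hru : IsUnit r := by
    by_contra hn
    haveI : (q.comap S₀.val.toRingHom).IsPrime := Ideal.IsPrime.comap _
    haveI : (q.comap S₀.val.toRingHom).IsMaximal := by
      refine Ideal.isMaximal_of_isIntegral_of_isMaximal_comap (R := A) _ ?_
      rw [Ideal.comap_comap, show S₀.val.toRingHom.comp (algebraMap A S₀) = algebraMap A S from S₀.val.comp_algebraMap, hq]
      exact maximalIdeal.isMaximal A
    have h := IsLocalRing.eq_maximalIdeal ‹(q.comap S₀.val.toRingHom).IsMaximal›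
    exact hr (show r ∈ q.comap S₀.val.toRingHom by rw [h]; exact (mem_maximalIdeal r).mpr hn)
  refine Module.Finite.of_surjective (S₀.val.toLinearMap) fun s => ?_
  obtain ⟨y, hy⟩ := hbij.2 (algebraMap S (Localization.Away (r : S)) s)
  obtain ⟨a, d, rfl⟩ := IsLocalization.exists_mk'_eq (Submonoid.powers r) y
  obtain ⟨k, hk⟩ := d.2
  have hru' : IsUnit (r : S) := hru.map S₀.val
  have hspec := congrArg (Localization.awayMap S₀.val.toRingHom r) (IsLocalization.mk'_spec (Localization.Away r) a d)
  rw [map_mul, hy] at hspec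
  have hd : IsUnit (d : S₀) := hk ▸ hru.pow k
  refine ⟨a * ↑hd.unit⁻¹, ?_⟩
  apply IsLocalization.injective (M := Submonoid.powers (r : S)) (Localization.Away (r : S))
    (Submonoid.powers_le.mpr (mem_nonZeroDivisors_of_ne_zero hru'.ne_zero))
  refine (IsUnit.map (algebraMap S (Localization.Away (r : S))) (hd.map S₀.val)).mul_left_injective ?_
  simp only [Localization.awayMap, IsLocalization.Away.map, IsLocalization.map_eq] at hspec
  show algebraMap S _ ((a * ↑hd.unit⁻¹ : S₀) : S) * algebraMap S _ ((d : S₀) : S) = _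
  rw [← map_mul, ← MulMemClass.coe_mul, mul_assoc, IsUnit.val_inv_mul hd, mul_one]
  exact hspec.symm

/-- The normalization of a complete discrete valuation ring in a finite extension. -/
theorem exists_dvr_of_finite {A S : Type u} [CommRing A] [IsDomain A] [IsDiscreteValuationRing A]
    [IsAdicComplete (maximalIdeal A) A] [CommRing S] [IsDomain S] [Algebra A S] [Module.Finite A S]
    (hinj : Function.Injective (algebraMap A S)) :
    ∃ (B : CommRingCat.{u}) (_ : IsDomain B) (_ : IsDiscreteValuationRing B) (φ : A →+* B) (_ : IsLocalHom φ)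
      (χ : S →+* B), φ.Finite ∧ χ.comp (algebraMap A S) = φ := by
  let L := FractionRing S
  haveI : FaithfulSMul A S := (faithfulSMul_iff_algebraMap_injective A S).mpr hinj
  haveI : FaithfulSMul A L := (faithfulSMul_iff_algebraMap_injective A L).mpr (by
    rw [IsScalarTower.algebraMap_eq A S L]
    exact (IsFractionRing.injective S L).comp hinj)
  letI : Algebra (FractionRing A) L := FractionRing.liftAlgebra A L
  haveI : IsScalarTower A (FractionRing A) L := inferInstance
  haveI : Algebra.IsIntegral A S := Algebra.IsIntegral.of_finite A S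
  haveI : FiniteDimensional (FractionRing A) L := Module.Finite.of_isLocalization A S (nonZeroDivisors A)
  haveI : Module.Finite A (integralClosure A L) := Groth.L01.NagataComplete.isN2_cohenRing L inferInstance
  let B := integralClosure A L
  haveI : HenselianLocalRing A := henselian_of_complete A
  haveI : Algebra.IsIntegral A B := Algebra.IsIntegral.of_finite A B
  haveI : IsLocalRing B := Groth.L05.isLocalRing_of_integral_domain (A := A) B
  haveI : IsNoetherianRing B := IsNoetherianRing.of_finite A B
  haveI : IsIntegrallyClosed B := integralClosure.isIntegrallyClosedOfFiniteExtension (FractionRing A)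
  haveI : Ring.DimensionLEOne B := inferInstanceAs (Ring.DimensionLEOne (integralClosure A L))
  haveI : IsDedekindDomain B := { }
  have hBinj : Function.Injective (algebraMap A B) := fun a b h => by
    have := congrArg (Subtype.val) h
    exact FaithfulSMul.algebraMap_injective A L this
  have hnf : ¬ IsField B := fun hf => IsDiscreteValuationRing.not_isField A (isField_of_isIntegral_of_isField hBinj hf)
  haveI : IsDiscreteValuationRing B :=
    ((IsDiscreteValuationRing.TFAE B hnf).out 0 2 : IsDiscreteValuationRing B ↔ IsDedekindDomain B).mpr inferInstance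
  let χ : S →+* B := (algebraMap S L).codRestrict B.toSubring fun s =>
    show IsIntegral A (algebraMap S L s) from (Algebra.IsIntegral.isIntegral (R := A) s).map (IsScalarTower.toAlgHom A S L)
  refine ⟨CommRingCat.of B, inferInstance, inferInstance, algebraMap A B, ?_, χ,
    RingHom.finite_algebraMap.mpr inferInstance, ?_⟩
  · haveI : FaithfulSMul A B := (faithfulSMul_iff_algebraMap_injective A B).mpr hBinj
    infer_instance
  · ext a
    show algebraMap S L (algebraMap A S a) = algebraMap A L a
    rw [← IsScalarTower.algebraMap_apply]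

/-- A rational point of the closed fibre which generalizes to the generic fibre extends over a finite extension
of a complete discrete valuation ring. -/
theorem exists_finite_point {A : Type u} [CommRing A] [IsDomain A] [IsDiscreteValuationRing A]
    [IsAdicComplete (maximalIdeal A) A] {P : Scheme.{u}} (p : P ⟶ Spec (CommRingCat.of A)) [LocallyOfFiniteType p]
    (x' z' : P) (hz : z' ⤳ x') (hz' : (p z').asIdeal = ⊥) (hx : p x' = closedPoint A)
    (hrat : Function.Surjective (p.residueFieldMap x').hom) :
    ∃ (B : CommRingCat.{u}) (_ : IsDomain B) (_ : IsDiscreteValuationRing B) (φ : A →+* B) (_ : IsLocalHom φ)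
      (w : Spec B ⟶ P), φ.Finite ∧ w ≫ p = Spec.map (CommRingCat.ofHom φ) ∧ w (closedPoint B) = x' := by
  classical
  obtain ⟨W, hW, hxW, -⟩ := exists_isAffineOpen_mem_and_subset (X := P) (x := x') (U := ⊤) trivial
  obtain ⟨φ₀, hφ₀⟩ := Spec.map_surjective (hW.fromSpec ≫ p)
  let S := Γ(P, W)
  letI : Algebra A S := φ₀.hom.toAlgebra
  haveI : Algebra.FiniteType A S := by
    haveI : LocallyOfFiniteType (Spec.map φ₀) := by rw [hφ₀]; infer_instance
    exact (HasRingHomProperty.Spec_iff (P := @LocallyOfFiniteType)).mp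
      (inferInstance : LocallyOfFiniteType (Spec.map φ₀))
  haveI : IsNoetherianRing S := Algebra.FiniteType.isNoetherianRing A S
  let a := IsOpenImmersion.lift hW.fromSpec (P.fromSpecResidueField x') (by
    rw [Scheme.range_fromSpecResidueField, hW.range_fromSpec]; exact Set.singleton_subset_iff.mpr hxW)
  obtain ⟨ρ, hρ⟩ := Spec.map_surjective a
  have hρA : φ₀ ≫ ρ = Spec.preimage (P.fromSpecResidueField x' ≫ p) := by
    refine Spec.map_injective ?_
    rw [Spec.map_comp, hρ, Spec.map_preimage, hφ₀, ← Category.assoc, IsOpenImmersion.lift_fac]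
  have hsurj : Function.Surjective (φ₀ ≫ ρ).hom := by
    let r := (Spec (CommRingCat.of A)).fromSpecResidueField (p x')
    haveI : IsClosedImmersion r := IsClosedImmersion.of_isPreimmersion r (by
      rw [Scheme.range_fromSpecResidueField, hx]
      exact (PrimeSpectrum.isClosed_singleton_iff_isMaximal (closedPoint A)).mpr (maximalIdeal.isMaximal A))
    obtain ⟨r', hr'⟩ := Spec.map_surjective r
    have h1 : Function.Surjective r'.hom := by
      haveI : IsClosedImmersion (Spec.map r') := hr' ▸ ‹IsClosedImmersion r›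
      have h := (IsClosedImmersion.isAffine_surjective_of_isAffine (Spec.map r')).2
      intro v
      obtain ⟨b, hb⟩ := h ((Scheme.ΓSpecIso ((Spec (CommRingCat.of A)).residueField (p x'))).inv v)
      refine ⟨(Scheme.ΓSpecIso (CommRingCat.of A)).hom b, ?_⟩
      have h' := congr($(Scheme.ΓSpecIso_naturality r') b)
      refine h'.symm.trans ?_
      rw [CommRingCat.comp_apply, hb, ← CommRingCat.comp_apply, Iso.inv_hom_id, CommRingCat.id_apply]
    have h2 : φ₀ ≫ ρ = r' ≫ p.residueFieldMap x' := by
      rw [hρA]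
      refine Spec.map_injective ?_
      rw [Spec.map_preimage, Spec.map_comp, hr']
      exact (Scheme.Hom.SpecMap_residueFieldMap_fromSpecResidueField p x').symm
    rw [h2]
    exact hrat.comp h1
  have hρs : Function.Surjective ρ.hom := fun v => by
    obtain ⟨b, hb⟩ := hsurj v
    exact ⟨φ₀.hom b, hb⟩
  let q : Ideal S := RingHom.ker ρ.hom
  haveI : q.IsMaximal := RingHom.ker_isMaximal_of_surjective _ hρs
  let qP : PrimeSpectrum S := ⟨q, inferInstance⟩
  have hqx : hW.fromSpec qP = x' := by
    have h1 : a (closedPoint (P.residueField x')) = qP := by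
      rw [← hρ]
      refine PrimeSpectrum.ext ?_
      show (maximalIdeal _).comap ρ.hom = q
      rw [isField_iff_maximalIdeal_eq.mp (Field.toIsField (P.residueField x')), ← RingHom.ker_eq_comap_bot]
    rw [← h1, ← Scheme.Hom.comp_apply, IsOpenImmersion.lift_fac]
    exact Scheme.fromSpecResidueField_apply _ _
  obtain ⟨P₀, hP₀⟩ : z' ∈ Set.range hW.fromSpec := by
    rw [hW.range_fromSpec]; exact hz.mem_open W.2 hxW
  have hbase : ∀ b : Spec Γ(P, W), (p (hW.fromSpec b)).asIdeal = b.asIdeal.comap (algebraMap A S) := fun b => by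
    rw [← Scheme.Hom.comp_apply, ← hφ₀]; rfl
  have hle : P₀.asIdeal ≤ q := (PrimeSpectrum.le_iff_specializes P₀ qP).mpr
    (hW.fromSpec.isOpenEmbedding.isInducing.specializes_iff.mp (by rw [hP₀, hqx]; exact hz))
  let T : Set (Ideal S) := {J | J.IsPrime ∧ J ≤ q ∧ J.comap (algebraMap A S) = ⊥}
  obtain ⟨J, ⟨hJp, hJq, hJ0⟩, hJmax⟩ := set_has_maximal_iff_noetherian.mpr (inferInstanceAs (IsNoetherian S S)) T
    ⟨P₀.asIdeal, P₀.isPrime, hle, by rw [← hbase, hP₀]; exact hz'⟩
  haveI := hJp
  let S' := S ⧸ J
  haveI : Algebra.FiniteType A S' := Algebra.FiniteType.of_surjective (Ideal.Quotient.mkₐ A J) Ideal.Quotient.mk_surjective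
  have hinj : Function.Injective (algebraMap A S') := by
    rw [RingHom.injective_iff_ker_eq_bot, IsScalarTower.algebraMap_eq A S S', RingHom.ker, ← Ideal.comap_comap,
      ← RingHom.ker_eq_comap_bot, Ideal.Quotient.algebraMap_eq, Ideal.mk_ker, hJ0]
  let q' : Ideal S' := q.map (Ideal.Quotient.mk J)
  have hq'c : q'.comap (Ideal.Quotient.mk J) = q := by
    rw [Ideal.comap_map_of_surjective _ Ideal.Quotient.mk_surjective, ← RingHom.ker_eq_comap_bot, Ideal.mk_ker,
      sup_eq_left.mpr hJq]
  haveI : q'.IsMaximal := Ideal.map_eq_top_or_isMaximal_of_surjective _ Ideal.Quotient.mk_surjective ‹q.IsMaximal›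
    |>.resolve_left fun e => ‹q.IsMaximal›.ne_top (by rw [← hq'c, show q' = ⊤ from e, Ideal.comap_top])
  have hqA : q.comap (algebraMap A S) = maximalIdeal A := by
    show qP.asIdeal.comap (algebraMap A S) = _
    rw [← hbase, hqx, hx]; rfl
  haveI : Module.Finite A S' := finite_of_isolated hinj q' (by
      rw [IsScalarTower.algebraMap_eq A S S', ← Ideal.comap_comap, Ideal.Quotient.algebraMap_eq, hq'c, hqA])
    (fun Q hQ hQq hQ0 => by
      rw [IsScalarTower.algebraMap_eq A S S', ← Ideal.comap_comap, Ideal.Quotient.algebraMap_eq]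
      by_contra hcon
      haveI := hQ
      let Q₀ := Q.comap (Ideal.Quotient.mk J)
      have hJQ : J ≤ Q₀ := fun j hj => by
        show Ideal.Quotient.mk J j ∈ Q
        rw [Ideal.Quotient.eq_zero_iff_mem.mpr hj]; exact zero_mem _
      have hQ₀0 : Q₀.comap (algebraMap A S) = ⊥ := by
        by_contra h0
        haveI : (Q₀.comap (algebraMap A S)).IsPrime := Ideal.IsPrime.comap _
        exact hcon ((IsLocalRing.eq_maximalIdeal (IsPrime.to_maximal_ideal h0)).ge)
      refine hJmax Q₀ ⟨Ideal.IsPrime.comap _, (Ideal.comap_mono hQq).trans_eq hq'c, hQ₀0⟩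
        (lt_of_le_of_ne hJQ fun e => hQ0 ?_)
      rw [← Ideal.map_comap_of_surjective _ Ideal.Quotient.mk_surjective Q, show Q.comap (Ideal.Quotient.mk J) = J from e.symm,
        Ideal.map_quotient_self])
  obtain ⟨B, _, _, φ, hφ, χ, hfin, hχ⟩ := exists_dvr_of_finite (A := A) (S := S') hinj
  refine ⟨B, inferInstance, inferInstance, φ, hφ, Spec.map (CommRingCat.ofHom (χ.comp (Ideal.Quotient.mk J))) ≫ hW.fromSpec, hfin, ?_, ?_⟩
  · rw [Category.assoc, ← hφ₀, ← Spec.map_comp]
    refine congrArg Spec.map (CommRingCat.hom_ext ?_)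
    show (χ.comp (Ideal.Quotient.mk J)).comp (algebraMap A S) = φ
    rw [← hχ]; rfl
  · rw [Scheme.Hom.comp_apply, ← hqx]
    refine congrArg hW.fromSpec.base (PrimeSpectrum.ext ?_)
    show (maximalIdeal B).comap (χ.comp (Ideal.Quotient.mk J)) = q
    haveI : HenselianLocalRing A := henselian_of_complete A
    haveI : Algebra.IsIntegral A S' := Algebra.IsIntegral.of_finite A S'
    haveI : IsLocalRing S' := Groth.L05.isLocalRing_of_integral_domain (A := A) S'
    haveI : ((maximalIdeal B).comap χ).IsPrime := Ideal.IsPrime.comap _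
    have h1 : ((maximalIdeal B).comap χ).IsMaximal := by
      refine Ideal.isMaximal_of_isIntegral_of_isMaximal_comap (R := A) _ ?_
      haveI := hφ
      rw [Ideal.comap_comap, hχ, show (maximalIdeal B).comap φ = maximalIdeal A from
        congrArg PrimeSpectrum.asIdeal (comap_closedPoint φ)]
      exact maximalIdeal.isMaximal A
    rw [← Ideal.comap_comap, IsLocalRing.eq_maximalIdeal h1, ← IsLocalRing.eq_maximalIdeal ‹q'.IsMaximal›, hq'c]

/-- A complete discrete valuation ring with algebraically closed residue field containing a given extension of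
the residue field. -/
theorem exists_complete_residue {A : Type u} [CommRing A] [IsDomain A] [IsDiscreteValuationRing A]
    {K : Type u} [Field K] [IsAlgClosed K] (ρ : A →+* K) [IsLocalHom ρ] :
    ∃ (B : Type u) (_ : CommRing B) (_ : IsDomain B) (_ : IsDiscreteValuationRing B) (ψ : A →+* B)
      (σ : K →+* ResidueField B), IsAdicComplete (maximalIdeal B) B ∧ IsAlgClosed (ResidueField B) ∧
        IsLocalHom ψ ∧ Function.Injective ψ ∧ σ.comp ρ = (residue B).comp ψ := by
  obtain ⟨A₁, _, _, j, τ, hτj, hj, hτ, hflat, hmap, hker, hτs, hnoeth⟩ :=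
    Groth.L02.Gonflement.exists_flat_local_extension ρ
  haveI : IsNoetherianRing A₁ := hnoeth inferInstance
  obtain ⟨ϖ, hϖ⟩ := IsDiscreteValuationRing.exists_irreducible A
  let c := j ϖ
  have hm : maximalIdeal A₁ = Ideal.span {c} := by
    rw [← hmap, hϖ.maximalIdeal_eq, Ideal.map_span, Set.image_singleton]
  have hc : ∀ x, c * x = 0 → x = 0 := by
    intro x hx
    letI := j.toAlgebra
    haveI : Module.Flat A A₁ := RingHom.flat_algebraMap_iff.mp hflat
    haveI : Module.IsTorsionFree A A₁ := inferInstance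
    exact (smul_eq_zero.mp (show ϖ • x = 0 from hx)).resolve_left hϖ.ne_zero
  have hcm : c ∈ maximalIdeal A₁ := by rw [hm]; exact Ideal.mem_span_singleton_self c
  have hrep : ∀ x : A₁, x ≠ 0 → ∃ (n : ℕ) (u : A₁), IsUnit u ∧ x = c ^ n * u := by
    intro x hx
    obtain ⟨n, hn⟩ : ∃ n, x ∉ maximalIdeal A₁ ^ n := by
      by_contra hcon
      push Not at hcon
      exact hx ((Submodule.mem_bot A₁).mp (Ideal.iInf_pow_eq_bot_of_isLocalRing (maximalIdeal A₁) (maximalIdeal.isMaximal A₁).ne_top ▸
        Ideal.mem_iInf.mpr hcon))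
    induction n with
    | zero => exact absurd (by simp : x ∈ maximalIdeal A₁ ^ 0) hn
    | succ n ih =>
      by_cases h : x ∈ maximalIdeal A₁ ^ n
      · rw [hm, Ideal.span_singleton_pow, Ideal.mem_span_singleton] at h
        obtain ⟨u, rfl⟩ := h
        refine ⟨n, u, by_contra fun hu => hn ?_, rfl⟩
        rw [pow_succ]
        exact Ideal.mul_mem_mul (Ideal.pow_mem_pow hcm n) ((mem_maximalIdeal u).mpr hu)
      · exact ih h
  haveI : NoZeroDivisors A₁ := ⟨fun {x y} hxy => by
    rw [or_iff_not_imp_left]
    intro hx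
    obtain ⟨n, u, hu, rfl⟩ := hrep x hx
    have h1 : c ^ n * y = 0 := hu.mul_left_eq_zero.mp (by rw [← hxy]; ring)
    clear hxy hx
    induction n with
    | zero => simpa using h1
    | succ n ih => exact ih (hc _ (by rw [← h1]; ring))⟩
  haveI : IsDomain A₁ := NoZeroDivisors.to_isDomain A₁
  have hnf : ¬ IsField A₁ := fun hf => by
    have h0 : c ≠ 0 := fun e => one_ne_zero (hc 1 (by rw [e, zero_mul]))
    exact h0 ((Submodule.mem_bot A₁).mp (isField_iff_maximalIdeal_eq.mp hf ▸ hcm))
  haveI : IsDiscreteValuationRing A₁ :=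
    ((IsDiscreteValuationRing.TFAE A₁ hnf).out 0 4 : IsDiscreteValuationRing A₁ ↔ (maximalIdeal A₁).IsPrincipal).mpr
      ⟨⟨c, hm⟩⟩
  let e : ResidueField A₁ ≃+* K :=
    (Ideal.quotEquivOfEq hker.symm).trans (RingHom.quotientKerEquivOfSurjective hτs)
  have he : ∀ a, e (residue A₁ a) = τ a := fun a => rfl
  haveI : IsAlgClosed (ResidueField A₁) := IsAlgClosed.of_ringEquiv _ _ e.symm
  obtain ⟨B, _, _, _, ψ, hψ, hψl, hc', hk⟩ := exists_completion A₁
  refine ⟨B, inferInstance, inferInstance, inferInstance, ψ.comp j,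
    (ResidueField.map ψ).comp e.symm.toRingHom, hc', hk, RingHom.isLocalHom_comp ψ j, hψ.comp ?_, ?_⟩
  · letI := j.toAlgebra
    haveI : Module.Flat A A₁ := RingHom.flat_algebraMap_iff.mp hflat
    haveI : Module.IsTorsionFree A A₁ := inferInstance
    exact (Module.isTorsionFree_iff_algebraMap_injective (R := A) (A := A₁)).mp inferInstance
  ext a
  have h1 : e.symm (ρ a) = residue A₁ (j a) := by
    rw [e.symm_apply_eq, he, ← hτj]; rfl
  show ResidueField.map ψ (e.symm (ρ a)) = _
  rw [h1, ResidueField.map_residue]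
  rfl

/-- EGA IV 14.5.9. -/
theorem isUnivOpenAt_iff_points_lift {X Y : Scheme.{u}} [IsLocallyNoetherian Y]
    (f : X ⟶ Y) [LocallyOfFiniteType f] (x : X) :
    EGA43.IsUnivOpenAt f x ↔
      ∀ (A : Type u) [CommRing A] [IsDomain A] [IsDiscreteValuationRing A]
        [IsAdicComplete (maximalIdeal A) A] [IsAlgClosed (ResidueField A)]
        (g : Spec (CommRingCat.of A) ⟶ Y), g.base (closedPoint A) = f.base x →
        ∀ u₀ : Spec (CommRingCat.of (ResidueField A)) ⟶ X,
          u₀ ≫ f = Spec.map (CommRingCat.ofHom (residue A)) ≫ g → x ∈ Set.range u₀.base →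
          ∃ (B : CommRingCat.{u}) (_ : IsDomain B) (_ : IsDiscreteValuationRing B) (φ : A →+* B)
            (_ : IsLocalHom φ) (v : Spec B ⟶ X),
            φ.Finite ∧ v ≫ f = Spec.map (CommRingCat.ofHom φ) ≫ g ∧
            Spec.map (CommRingCat.ofHom (ResidueField.map φ)) ≫ u₀ =
              Spec.map (CommRingCat.ofHom (residue B)) ≫ v := by
  rw [Groth.L07.UnivOpenPointwise.isUnivOpenAt_iff_dvr]
  constructor
  · intro h A _ _ _ _ _ g hg u₀ hu₀ hx
    let r : Spec (CommRingCat.of (ResidueField A)) ⟶ Spec (CommRingCat.of A) := Spec.map (CommRingCat.ofHom (residue A))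
    let s := pullback.lift u₀ r hu₀
    let pt : ↥(Spec (CommRingCat.of (ResidueField A))) := closedPoint (ResidueField A)
    have hrpt : r pt = closedPoint A := by
      refine PrimeSpectrum.ext ?_
      show (maximalIdeal (ResidueField A)).comap (residue A) = maximalIdeal A
      rw [isField_iff_maximalIdeal_eq.mp (Field.toIsField (ResidueField A)), ← RingHom.ker_eq_comap_bot, ker_residue]
    have hs1 : pullback.fst f g (s pt) = x := by
      rw [← Scheme.Hom.comp_apply, pullback.lift_fst]
      obtain ⟨w, hw⟩ := hx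
      rwa [Subsingleton.elim (α := PrimeSpectrum (ResidueField A)) w pt] at hw
    have hs2 : pullback.snd f g (s pt) = closedPoint A := by
      rw [← Scheme.Hom.comp_apply, pullback.lift_snd]; exact hrpt
    obtain ⟨z', hz', hz''⟩ := h A g hg (s pt) hs1 hs2
    have hrat : Function.Surjective ((pullback.snd f g).residueFieldMap (s pt)).hom := by
      obtain ⟨e, he⟩ : ∃ e : (pullback f g).residueField (s pt) ⟶ CommRingCat.of (ResidueField A),
          Spec.map e ≫ (pullback f g).fromSpecResidueField (s pt) = s :=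
        ⟨_, Scheme.descResidueField_stalkClosedPointTo_fromSpecResidueField _ _ _⟩
      obtain ⟨r', hr'⟩ := Spec.map_surjective ((Spec (CommRingCat.of A)).fromSpecResidueField (pullback.snd f g (s pt)))
      have h1 : r' ≫ (pullback.snd f g).residueFieldMap (s pt) ≫ e = CommRingCat.ofHom (residue A) := by
        refine Spec.map_injective ?_
        rw [Spec.map_comp, Spec.map_comp, hr', Category.assoc,
          Scheme.Hom.SpecMap_residueFieldMap_fromSpecResidueField, reassoc_of% he, pullback.lift_snd]
      intro v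
      obtain ⟨b, hb⟩ := residue_surjective (R := A) (e.hom v)
      refine ⟨r'.hom b, e.hom.injective ?_⟩
      exact (congr($h1 b)).trans hb
    obtain ⟨B, _, _, φ, hφ, w, hfin, hwp, hwc⟩ := exists_finite_point (pullback.snd f g) (s pt) z' hz'
      (congrArg PrimeSpectrum.asIdeal (Groth.L07.UnivOpenPointwise.closedPoint_or_generic _ hz'')) hs2 hrat
    refine ⟨B, inferInstance, inferInstance, φ, hφ, w ≫ pullback.fst f g, hfin, ?_, ?_⟩
    · rw [Category.assoc, pullback.condition, reassoc_of% hwp]
    · haveI := hφ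
      have key : Spec.map (CommRingCat.ofHom (ResidueField.map φ)) ≫ s =
          Spec.map (CommRingCat.ofHom (residue B)) ≫ w := by
        refine DVRProper.eq_of_residue_bijective (K := ResidueField B) (pullback.snd f g) _ _ (s pt) ?_ ?_ hrat ?_
        · rw [Scheme.Hom.comp_apply]
          exact congrArg s.base (Subsingleton.elim (α := PrimeSpectrum (ResidueField A)) _ _)
        · rw [Scheme.Hom.comp_apply, ← hwc]
          refine congrArg w.base (PrimeSpectrum.ext ?_)
          show (maximalIdeal (ResidueField B)).comap (residue B) = maximalIdeal B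
          rw [isField_iff_maximalIdeal_eq.mp (Field.toIsField (ResidueField B)), ← RingHom.ker_eq_comap_bot, ker_residue]
        · rw [Category.assoc, pullback.lift_snd, Category.assoc, hwp, ← Spec.map_comp, ← Spec.map_comp]
          rfl
      have := congrArg (fun m => m ≫ pullback.fst f g) key
      simpa only [Category.assoc, s, pullback.lift_fst] using this
  · intro h A _ _ _ g hg x' hx1 hx2
    let κ := (pullback f g).residueField x'
    let K := AlgebraicClosure κ
    obtain ⟨ρ₀, hρ₀⟩ := Spec.map_surjective ((pullback f g).fromSpecResidueField x' ≫ pullback.snd f g)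
    let ρ : A →+* K := (algebraMap κ K).comp ρ₀.hom
    have hρ₀c : RingHom.ker ρ₀.hom = maximalIdeal A := by
      have h1 : Spec.map ρ₀ (closedPoint κ) = closedPoint A := by
        rw [hρ₀, Scheme.Hom.comp_apply]
        exact (congrArg (pullback.snd f g).base (Scheme.fromSpecResidueField_apply _ _)).trans hx2
      have h2 : (maximalIdeal κ).comap ρ₀.hom = maximalIdeal A := congrArg PrimeSpectrum.asIdeal h1
      rwa [isField_iff_maximalIdeal_eq.mp (Field.toIsField κ), ← RingHom.ker_eq_comap_bot] at h2
    haveI : IsLocalHom ρ := ⟨fun b hb => by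
      by_contra hn
      have h1 : b ∈ RingHom.ker ρ₀.hom := hρ₀c ▸ (mem_maximalIdeal b).mpr hn
      exact hb.ne_zero (show algebraMap κ K (ρ₀.hom b) = 0 by rw [show ρ₀.hom b = 0 from h1, map_zero])⟩
    obtain ⟨B, _, _, _, ψ, σ, hBc, hBk, hψ, hψinj, hσ⟩ := exists_complete_residue ρ
    haveI := hψ
    let e : Spec (CommRingCat.of (ResidueField B)) ⟶ pullback f g :=
      Spec.map (CommRingCat.ofHom (σ.comp (algebraMap κ K))) ≫ (pullback f g).fromSpecResidueField x'
    let t : Spec (CommRingCat.of B) ⟶ Spec (CommRingCat.of A) := Spec.map (CommRingCat.ofHom ψ)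
    have het : e ≫ pullback.snd f g = Spec.map (CommRingCat.ofHom (residue B)) ≫ t := by
      rw [Category.assoc, ← hρ₀, ← Spec.map_comp, ← Spec.map_comp]
      refine congrArg Spec.map (CommRingCat.hom_ext ?_)
      show (σ.comp (algebraMap κ K)).comp ρ₀.hom = (residue B).comp ψ
      rw [RingHom.comp_assoc]; exact hσ
    have hept : ∀ c, e c = x' := fun c => by
      rw [Scheme.Hom.comp_apply]; exact Scheme.fromSpecResidueField_apply _ _
    have htc : t (closedPoint B) = closedPoint A := comap_closedPoint ψ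
    obtain ⟨C, _, _, φ, hφ, v, hfin, hvf, hv0⟩ := h B (t ≫ g) (by
        rw [Scheme.Hom.comp_apply, htc]; exact hg) (e ≫ pullback.fst f g) (by
        rw [Category.assoc, pullback.condition, reassoc_of% het])
      ⟨closedPoint _, by rw [Scheme.Hom.comp_apply, hept]; exact hx1⟩
    haveI := hφ
    let w : Spec C ⟶ pullback f g := pullback.lift v (Spec.map (CommRingCat.ofHom φ) ≫ t)
      (by rw [Category.assoc]; exact hvf)
    have key : Spec.map (CommRingCat.ofHom (ResidueField.map φ)) ≫ e = Spec.map (CommRingCat.ofHom (residue C)) ≫ w := by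
      apply pullback.hom_ext
      · refine (Category.assoc _ _ _).trans (hv0.trans ?_)
        rw [Category.assoc, pullback.lift_fst]
      · rw [Category.assoc, het, Category.assoc, pullback.lift_snd, ← Category.assoc, ← Category.assoc,
          ← Spec.map_comp, ← Spec.map_comp]
        simp only [t, ← Spec.map_comp]
        rfl
    let η : ↥(Spec C) := (⟨⊥, Ideal.isPrime_bot⟩ : PrimeSpectrum C)
    refine ⟨w η, ?_, ?_⟩
    · have hwc : w (closedPoint C) = x' := by
        let pt : ↥(Spec (CommRingCat.of (ResidueField C))) := closedPoint (ResidueField C)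
        have h1 : Spec.map (CommRingCat.ofHom (residue C)) pt = closedPoint C := by
          refine PrimeSpectrum.ext ?_
          show (maximalIdeal (ResidueField C)).comap (residue C) = maximalIdeal C
          rw [isField_iff_maximalIdeal_eq.mp (Field.toIsField (ResidueField C)), ← RingHom.ker_eq_comap_bot, ker_residue]
        rw [← h1]
        refine ((Scheme.Hom.comp_apply _ w pt).symm.trans ?_)
        exact (congrArg (fun m : Spec (CommRingCat.of (ResidueField C)) ⟶ pullback f g => m pt) key.symm).trans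
          ((Scheme.Hom.comp_apply _ e pt).trans (hept _))
      rw [← hwc]
      exact (IsLocalRing.specializes_closedPoint (η : PrimeSpectrum C)).map w.continuous
    · have hφinj : Function.Injective φ := by
        rw [RingHom.injective_iff_ker_eq_bot]
        by_contra hne
        letI := φ.toAlgebra
        haveI : Module.Finite B C := RingHom.finite_algebraMap.mp hfin
        haveI : (RingHom.ker φ).IsPrime := RingHom.ker_isPrime φ
        have hk : RingHom.ker φ = maximalIdeal B := IsLocalRing.eq_maximalIdeal (IsPrime.to_maximal_ideal hne)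
        obtain ⟨⟨c₀, hc₀⟩, hc₀0⟩ : ∃ m : maximalIdeal C, (m : C) ≠ 0 := by
          obtain ⟨ϖ, hϖ⟩ := IsDiscreteValuationRing.exists_irreducible C
          exact ⟨⟨ϖ, (mem_maximalIdeal ϖ).mpr hϖ.not_isUnit⟩, hϖ.ne_zero⟩
        have hi : IsIntegral B c₀ := Algebra.IsIntegral.isIntegral c₀
        let ι : ResidueField B →+* C := Ideal.Quotient.lift (maximalIdeal B) φ fun a ha => by
          rw [← hk] at ha; exact ha
        have hf : IsField C := by
          letI := ι.toAlgebra
          haveI : IsScalarTower B (ResidueField B) C := IsScalarTower.of_algebraMap_eq fun a => rfl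
          haveI : Module.Finite (ResidueField B) C := Module.Finite.of_restrictScalars_finite B _ _
          haveI : Algebra.IsIntegral (ResidueField B) C := Algebra.IsIntegral.of_finite _ _
          exact isField_of_isIntegral_of_isField' (Field.toIsField (ResidueField B))
        exact IsDiscreteValuationRing.not_isField C hf
      have h0 : pullback.snd f g (w η) = t (Spec.map (CommRingCat.ofHom φ) η) :=
        (Scheme.Hom.comp_apply w _ η).symm.trans ((congrArg (fun m : Spec C ⟶ Spec (CommRingCat.of A) => m η)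
          (pullback.lift_snd _ _ _)).trans (Scheme.Hom.comp_apply _ t η))
      show ¬ pullback.snd f g (w η) = _
      rw [h0]
      intro e'
      have h1 : (Spec.map (CommRingCat.ofHom φ) η).asIdeal = ⊥ := (RingHom.injective_iff_ker_eq_bot φ).mp hφinj
      have h2 : ((Spec.map (CommRingCat.ofHom φ) η).asIdeal).comap ψ = maximalIdeal A := congrArg PrimeSpectrum.asIdeal e'
      rw [h1, ← RingHom.ker_eq_comap_bot] at h2
      obtain ⟨ϖ, hϖ⟩ := IsDiscreteValuationRing.exists_irreducible A
      rw [(RingHom.injective_iff_ker_eq_bot ψ).mp hψinj] at h2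
      exact IsDiscreteValuationRing.not_a_field A h2.symm

end Groth.L07.Count
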