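import Groth.Agent.L07.Count.FlatProper
import Groth.Agent.L07.Count.GeomConn
import Groth.Agent.S7409
import Groth.Agent.L07.DVRProper
import Mathlib.AlgebraicGeometry.Morphisms.FlatDescent
import Mathlib.RingTheory.Flat.TorsionFree

/-!
A flat separated scheme of finite type over a discrete valuation ring with proper nonempty closed fibre and
geometrically connected generic fibre is proper (EGA IV 15.7.11).
-/

universe u

open CategoryTheory CategoryTheory.Limits AlgebraicGeometry Groth.L07.Spread Topology IsLocalRing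

namespace Groth.L07.Count

set_option autoImplicit false
set_option linter.style.haveILetI false
set_option maxSynthPendingDepth 3
set_option backward.isDefEq.respectTransparency.types false
set_option backward.isDefEq.respectTransparency false

theorem specAlg_residue_apply (B : Type u) [CommRing B] [IsLocalRing B] (c : Spec (CommRingCat.of (ResidueField B))) :
    specAlg B (ResidueField B) c = closedPoint B := PrimeSpectrum.ext (by
  rw [specAlg_apply]; exact ker_residue)

theorem specAlg_frac_apply (B : Type u) [CommRing B] [IsDomain B] (c : Spec (CommRingCat.of (FractionRing B))) :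
    specAlg B (FractionRing B) c = (⟨⊥, Ideal.isPrime_bot⟩ : PrimeSpectrum B) := PrimeSpectrum.ext (by
  rw [specAlg_apply]
  exact (RingHom.injective_iff_ker_eq_bot _).mp (IsFractionRing.injective B (FractionRing B)))

/-- A geometric point of the fibre sees a proper scheme if the fibre is proper. -/
theorem isProper_pullback_of_fibre {X Y : Scheme.{u}} (f : X ⟶ Y) (y : Y) [IsProper (f.fiberToSpecResidueField y)]
    {K : Type u} [Field K] (g : Spec (CommRingCat.of K) ⟶ Y) (hg : ∀ c, g c = y) :
    IsProper (pullback.snd f g) := by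
  obtain ⟨ψ, rfl⟩ := exists_residueField_factor K g y hg
  exact MorphismProperty.of_isPullback
    (IsPullback.of_right' (IsPullback.of_hasPullback f (Spec.map ψ ≫ Y.fromSpecResidueField y))
      (IsPullback.of_hasPullback f (Y.fromSpecResidueField y))) ‹IsProper (f.fiberToSpecResidueField y)›

/-- Every open set containing the closed fibre meets the generic fibre. -/
def SpecialMeetsGeneric {B : Type u} [CommRing B] [IsLocalRing B] {T : Scheme.{u}} (h : T ⟶ Spec (CommRingCat.of B)) : Prop :=
  ∀ O : Set T, IsOpen O → (∀ x, h x = closedPoint B → x ∈ O) → ∃ ζ ∈ O, (h ζ).asIdeal = ⊥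

theorem asIdeal_eq_bot_of_ne {B : Type u} [CommRing B] [IsDomain B] [IsDiscreteValuationRing B]
    (p : Spec (CommRingCat.of B)) (hp : p ≠ closedPoint B) : p.asIdeal = ⊥ := by
  by_contra h0
  exact hp (PrimeSpectrum.ext ((p.isPrime.isMaximal h0).eq_of_le (maximalIdeal.isMaximal B).ne_top
    (IsLocalRing.le_maximalIdeal p.isPrime.ne_top)))

theorem specialMeetsGeneric_of_isOpenMap {B : Type u} [CommRing B] [IsDomain B] [IsLocalRing B] {T : Scheme.{u}}
    (h : T ⟶ Spec (CommRingCat.of B)) (ho : IsOpenMap h) (hne : ∃ x, h x = closedPoint B) : SpecialMeetsGeneric h := by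
  obtain ⟨x, hx⟩ := hne
  intro O hO hOs
  obtain ⟨ζ, h1, h2⟩ := Groth.L07.ValDim.exists_generization h x (fun U hU => ho.image_mem_nhds hU)
    (⟨⊥, Ideal.isPrime_bot⟩ : PrimeSpectrum B) rfl
  exact ⟨ζ, h1.mem_open hO (hOs x hx), congrArg PrimeSpectrum.asIdeal h2⟩

/-- The complete case. -/
theorem universallyClosed_of_complete {B : Type u} [CommRing B] [IsDomain B] [IsDiscreteValuationRing B]
    [IsAdicComplete (maximalIdeal B) B] {T : Scheme.{u}} (h : T ⟶ Spec (CommRingCat.of B))
    [IsSeparated h] [LocallyOfFiniteType h] [QuasiCompact h]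
    [IsProper (pullback.snd h (specAlg B (ResidueField B)))]
    (hgen : SpecialMeetsGeneric h)
    (hconn : PreconnectedSpace ↥(pullback h (specAlg B (FractionRing B)))) :
    UniversallyClosed h := by
  classical
  haveI : CompactSpace ↥(Spec (CommRingCat.of B)) := inferInstance
  obtain ⟨n, T', π, j, hj, hjπ, hπ, hπs⟩ := Groth.Agent.S7409.result h
  let P := CohB1.ProjSpaceOver n (Spec (CommRingCat.of B))
  let b : P ⟶ Spec (CommRingCat.of B) := CohB1.ProjSpaceOver.toBase n _
  haveI : IsProper b := inferInstance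
  let P₀ := pullback h (specAlg B (ResidueField B))
  let π₀ := pullback.fst h (specAlg B (ResidueField B))
  haveI : IsClosedImmersion (specAlg B (ResidueField B)) :=
    IsClosedImmersion.spec_of_surjective _ IsLocalRing.residue_surjective
  have hπ₀ : Set.range π₀ = h ⁻¹' {closedPoint B} := by
    ext x
    rw [Scheme.Pullback.range_fst]
    constructor
    · rintro ⟨c, hc⟩
      exact hc.symm.trans (specAlg_residue_apply B c)
    · intro hx
      exact ⟨(⟨⊥, Ideal.isPrime_bot⟩ : PrimeSpectrum (ResidueField B)), (specAlg_residue_apply B _).trans hx.symm⟩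
  -- the special fibre of the quasi-projective cover is closed in projective space
  let S' : Set T' := (π ≫ h) ⁻¹' {closedPoint B}
  have hS' : IsClosed (j '' S') := by
    let T₀ := pullback π π₀
    let q := pullback.fst π π₀
    haveI : IsProper ((q ≫ j) ≫ b) := by
      have : (q ≫ j) ≫ b = pullback.snd π π₀ ≫ pullback.snd h (specAlg B (ResidueField B)) ≫ specAlg B (ResidueField B) := by
        rw [Category.assoc, hjπ, ← Category.assoc, pullback.condition, Category.assoc, pullback.condition]
      rw [this]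
      infer_instance
    haveI : IsProper (q ≫ j) := IsProper.of_comp _ b
    have e : j '' S' = Set.range (q ≫ j) := by
      rw [Scheme.Hom.comp_base, TopCat.coe_comp, Set.range_comp, Scheme.Pullback.range_fst, hπ₀]
      rfl
    rw [e]
    exact (q ≫ j).isClosedMap.isClosed_range
  let Z : TopologicalSpace.Closeds P := ⟨closure (Set.range j), isClosed_closure⟩
  let Q := (Scheme.IdealSheafData.vanishingIdeal Z).subscheme
  let i : Q ⟶ P := (Scheme.IdealSheafData.vanishingIdeal Z).subschemeι
  have hi : Set.range i = closure (Set.range j) := by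
    rw [Scheme.IdealSheafData.range_subschemeι]; simp [Z]
  letI : Q.Over (Spec (CommRingCat.of B)) := ⟨i ≫ b⟩
  haveI : IsProper (Q ↘ Spec (CommRingCat.of B)) := show IsProper (i ≫ b) from inferInstance
  haveI : IsLocallyNoetherian Q := LocallyOfFiniteType.isLocallyNoetherian (i ≫ b)
  let c : Q ⟶ Spec (CommRingCat.of B) := i ≫ b
  have hcl : ∀ z : Q, c z = closedPoint B ↔
      z ∈ (Q ↘ Spec (CommRingCat.of B)).base ⁻¹' PrimeSpectrum.zeroLocus (maximalIdeal B : Set B) := fun z => by
    constructor
    · intro e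
      show (maximalIdeal B : Set B) ⊆ (c z).asIdeal
      rw [e]; rfl
    · intro e
      exact PrimeSpectrum.ext ((maximalIdeal.isMaximal B).eq_of_le (c z).isPrime.ne_top e).symm
  let U : Set Q := i ⁻¹' (j '' S')
  have hUr : ∀ z : Q, z ∈ U ↔ c z = closedPoint B ∧ i z ∈ Set.range j := fun z => by
    constructor
    · rintro ⟨x, hx, e⟩
      refine ⟨?_, x, e⟩
      show (i ≫ b) z = _
      rw [Scheme.Hom.comp_apply, ← e, ← Scheme.Hom.comp_apply, hjπ]
      exact hx
    · rintro ⟨hz, x, e⟩
      refine ⟨x, ?_, e⟩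
      show (π ≫ h) x = _
      rw [← hjπ, Scheme.Hom.comp_apply, e]
      exact hz
  have hopenj : IsOpen (i ⁻¹' Set.range j) := by
    have h1 : i ⁻¹' Set.range j = i ⁻¹' coborder (Set.range j) := by
      ext z
      have hz : i z ∈ closure (Set.range j) := hi.le ⟨z, rfl⟩
      simp only [Set.mem_preimage, coborder, Set.mem_compl_iff, Set.mem_sdiff]
      tauto
    rw [h1]
    exact (IsLocallyClosed.isOpen_coborder j.isLocallyClosed_range).preimage i.continuous
  obtain ⟨W, hW, hWU⟩ := ClopenLift.exists_clopen_lift (X := Q) (maximalIdeal B) U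
    (fun z hz => (hcl z).mp ((hUr z).mp hz).1) (hS'.preimage i.continuous) (by
      have : (Q ↘ Spec (CommRingCat.of B)).base ⁻¹' PrimeSpectrum.zeroLocus (maximalIdeal B : Set B) \ U =
          (Q ↘ Spec (CommRingCat.of B)).base ⁻¹' PrimeSpectrum.zeroLocus (maximalIdeal B : Set B) \ i ⁻¹' Set.range j := by
        ext z
        simp only [Set.mem_sdiff, hUr, ← hcl, Set.mem_preimage]
        tauto
      rw [this]
      exact ((PrimeSpectrum.isClosed_zeroLocus _).preimage (Scheme.Hom.continuous _)).sdiff hopenj)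
  have hWj : W ⊆ i ⁻¹' Set.range j := by
    intro z hzW
    by_contra hz
    obtain ⟨w, ⟨hwW, hwj⟩, hwc⟩ := (IsLocalRing.specializes_closedPoint (c z)).mem_closed
      (c.isClosedMap _ (hW.isClosed.sdiff hopenj)) ⟨z, ⟨hzW, hz⟩, rfl⟩
    exact hwj ((hUr w).mp (hWU.le ⟨hwW, (hcl w).mp hwc⟩)).2
  let A : Set T' := j ⁻¹' (i '' W)
  have hiW : IsClosed (i '' W) := i.isClosedEmbedding.isClosedMap _ hW.isClosed
  have hA : IsClopen A := by
    refine ⟨hiW.preimage j.continuous, ?_⟩
    have : A = (j ⁻¹' (i '' Wᶜ))ᶜ := by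
      ext x
      obtain ⟨z, hz⟩ : j x ∈ Set.range i := hi.ge (subset_closure ⟨x, rfl⟩)
      simp only [A, Set.mem_compl_iff, Set.mem_preimage, ← hz, i.isClosedEmbedding.injective.mem_set_image]
      tauto
    rw [this]
    exact ((i.isClosedEmbedding.isClosedMap _ hW.compl.isClosed).preimage j.continuous).isOpen_compl
  have hjA : ∀ C ⊆ A, IsClosed C → IsClosed (j '' C) := by
    intro C hCA hC
    refine isClosed_of_closure_subset fun p hp => ?_
    have hp' : p ∈ i '' W := closure_minimal (by rintro _ ⟨x, hx, rfl⟩; exact hCA hx) hiW hp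
    obtain ⟨z, hzW, rfl⟩ := hp'
    obtain ⟨x, hx⟩ := hWj hzW
    refine ⟨x, ?_, hx⟩
    have : x ∈ closure C := by
      rw [j.isEmbedding.toIsInducing.closure_eq_preimage_closure_image]
      show j x ∈ closure (j '' C)
      rw [hx]; exact hp
    rwa [hC.closure_eq] at this
  have hSA : S' ⊆ A := by
    intro x hx
    obtain ⟨z, hz⟩ : j x ∈ Set.range i := hi.ge (subset_closure ⟨x, rfl⟩)
    exact ⟨z, (hWU.ge (show z ∈ U from ⟨x, hx, hz.symm⟩)).1, hz⟩
  let P1 : Set T := π '' A
  let P2 : Set T := π '' Aᶜ
  have hP1 : IsClosed P1 := π.isClosedMap _ hA.isClosed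
  have hP2 : IsClosed P2 := π.isClosedMap _ hA.compl.isClosed
  have hP2s : ∀ t ∈ P2, h t ≠ closedPoint B := by
    rintro _ ⟨x, hx, rfl⟩ e
    exact hx (hSA (show (π ≫ h) x = closedPoint B by rw [Scheme.Hom.comp_apply]; exact e))
  have hmeet : ∀ F : Set T, IsClosed F → F ⊆ P1 → F.Nonempty → ∃ t ∈ F, h t = closedPoint B := by
    rintro F hF hFP ⟨t, ht⟩
    obtain ⟨x, hxA, rfl⟩ := hFP ht
    let C := π ⁻¹' F ∩ A
    have hC : IsClosed (j '' C) := hjA C Set.inter_subset_right ((hF.preimage π.continuous).inter hA.isClosed)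
    obtain ⟨_, ⟨w, hw, rfl⟩, hwc⟩ := (IsLocalRing.specializes_closedPoint (b (j x))).mem_closed
      (b.isClosedMap _ hC) ⟨j x, ⟨x, ⟨ht, hxA⟩, rfl⟩, rfl⟩
    refine ⟨π w, hw.1, ?_⟩
    rw [← Scheme.Hom.comp_apply, ← hjπ, Scheme.Hom.comp_apply]
    exact hwc
  have hdisj : Disjoint P1 P2 := by
    rw [Set.disjoint_iff_inter_eq_empty]
    by_contra hne'
    obtain ⟨t, ht, htc⟩ := hmeet (P1 ∩ P2) (hP1.inter hP2) Set.inter_subset_left (Set.nonempty_iff_ne_empty.mpr hne')
    exact hP2s t ht.2 htc
  have hcov : P1 ∪ P2 = Set.univ := by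
    rw [← Set.image_union, Set.union_compl_self, Set.image_univ, Set.range_eq_univ]
    exact π.surjective
  have hP1o : IsOpen P1 := by
    have : P1 = P2ᶜ := by
      ext t
      exact ⟨fun ht => Set.disjoint_left.mp hdisj ht, fun ht => (Set.eq_univ_iff_forall.mp hcov t).resolve_right ht⟩
    rw [this]; exact hP2.isOpen_compl
  have hA' : A = Set.univ := by
    by_contra hne'
    obtain ⟨x, hx⟩ := Set.nonempty_compl.mpr hne'
    obtain ⟨ζ₁, h1, hb₁⟩ := hgen P1 hP1o fun z hz =>
      (Set.eq_univ_iff_forall.mp hcov z).resolve_right fun h' => hP2s _ h' hz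
    let ζ₂ := π x
    have h2 : ζ₂ ∈ P2 := ⟨x, hx, rfl⟩
    have hb₂ : (h ζ₂).asIdeal = ⊥ := asIdeal_eq_bot_of_ne _ (hP2s _ h2)
    let π₁ := pullback.fst h (specAlg B (FractionRing B))
    have hk : RingHom.ker (algebraMap B (FractionRing B)) = ⊥ :=
      (RingHom.injective_iff_ker_eq_bot _).mp (IsFractionRing.injective B (FractionRing B))
    obtain ⟨p₁, hp₁⟩ := exists_fst_eq h (FractionRing B) ζ₁ (hb₁.trans hk.symm)
    obtain ⟨p₂, hp₂⟩ := exists_fst_eq h (FractionRing B) ζ₂ (hb₂.trans hk.symm)
    have hclop : IsClopen (π₁ ⁻¹' P1) :=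
      ⟨hP1.preimage π₁.continuous, hP1o.preimage π₁.continuous⟩
    rcases isClopen_iff.mp hclop with e | e
    · exact (Set.eq_empty_iff_forall_notMem.mp e p₁) (by
        show π₁ p₁ ∈ P1
        rw [show π₁ p₁ = ζ₁ from hp₁]; exact h1)
    · have : π₁ p₂ ∈ P1 := Set.eq_univ_iff_forall.mp e p₂
      rw [show π₁ p₂ = ζ₂ from hp₂] at this
      exact Set.disjoint_left.mp hdisj this h2
  haveI : IsClosedImmersion j := IsClosedImmersion.of_isPreimmersion j (by
    rw [← Set.image_univ]
    exact hjA _ hA'.ge isClosed_univ)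
  haveI : UniversallyClosed (π ≫ h) := by rw [← hjπ]; infer_instance
  exact UniversallyClosed.of_comp_surjective π h

/-- Over a discrete valuation ring, for morphisms whose special fibres meet the generic ones universally. -/
theorem isProper_of_dvr_of_meets {R : Type u} [CommRing R] [IsDomain R] [IsDiscreteValuationRing R] {T : Scheme.{u}}
    (h : T ⟶ Spec (CommRingCat.of R)) [IsSeparated h] [LocallyOfFiniteType h] [QuasiCompact h]
    [IsProper (h.fiberToSpecResidueField (closedPoint R))] (hmeet : ∀ (B : Type u) [CommRing B] [IsDomain B] [IsDiscreteValuationRing B]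
      (t : Spec (CommRingCat.of B) ⟶ Spec (CommRingCat.of R)), t (closedPoint B) = closedPoint R → (t (⟨⊥, Ideal.isPrime_bot⟩ : PrimeSpectrum B)).asIdeal = ⊥ →
      SpecialMeetsGeneric (pullback.snd h t))
    (hconn : ∀ η : Spec (CommRingCat.of R), η.asIdeal = ⊥ → MoreMor.nGeomConnComp h η ≤ 1) : IsProper h := by
  obtain ⟨B, _, _, _, ψ, hψ, hψl, hBc, -⟩ := exists_complete_over R
  letI := ψ.toAlgebra
  haveI : Module.IsTorsionFree R B := (Module.isTorsionFree_iff_algebraMap_injective).mpr hψ
  haveI : Module.Flat R B := inferInstance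
  haveI := hψl
  let t : Spec (CommRingCat.of B) ⟶ Spec (CommRingCat.of R) := Spec.map (CommRingCat.ofHom ψ)
  haveI : Flat t := Flat.SpecMap_iff.mpr (RingHom.flat_algebraMap_iff.mpr ‹Module.Flat R B›)
  have htc : t (closedPoint B) = closedPoint R := comap_closedPoint ψ
  have htη : (t (⟨⊥, Ideal.isPrime_bot⟩ : PrimeSpectrum B)).asIdeal = ⊥ :=
    (RingHom.injective_iff_ker_eq_bot _).mp hψ
  haveI : Surjective t := ⟨fun p => by
    by_cases hp : p.asIdeal = ⊥
    · exact ⟨_, PrimeSpectrum.ext (htη.trans hp.symm)⟩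
    · exact ⟨closedPoint B, htc.trans (PrimeSpectrum.ext
        ((p.isPrime.isMaximal hp).eq_of_le (maximalIdeal.isMaximal R).ne_top
          (IsLocalRing.le_maximalIdeal p.isPrime.ne_top))).symm⟩⟩
  let h' := pullback.snd h t
  have hsq := IsPullback.of_hasPullback h t
  haveI : IsProper (pullback.snd h' (specAlg B (ResidueField B))) := by
    haveI : IsProper (pullback.snd h (specAlg B (ResidueField B) ≫ t)) :=
      isProper_pullback_of_fibre h (closedPoint R) _ fun c => by
        rw [Scheme.Hom.comp_apply, specAlg_residue_apply, htc]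
    rw [← pullbackLeftPullbackSndIso_hom_snd]
    infer_instance
  have hUC : UniversallyClosed h' := by
    refine universallyClosed_of_complete h' (hmeet B t htc htη) ?_
    · have h1 : nConn (pullback h' (specAlg B (FractionRing B))) ≤ 1 := by
        refine (nConn_le_nGeomConnComp h' (FractionRing B) _ _ (specAlg_frac_apply B)).trans ?_
        rw [nGeomConnComp_of_isPullback h hsq]
        exact hconn _ htη
      haveI := (ENat.card_le_one_iff_subsingleton _).mp h1
      rw [preconnectedSpace_iff_connectedComponent]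
      exact fun x => Set.eq_univ_of_forall fun y => ConnectedComponents.coe_eq_coe'.mp (Subsingleton.elim _ _)
  haveI : UniversallyClosed h := MorphismProperty.of_pullback_snd_of_descendsAlong
    (Q := @Surjective ⊓ @Flat ⊓ @QuasiCompact) (g := t) ⟨⟨‹Surjective t›, ‹Flat t›⟩, inferInstance⟩ hUC
  exact {}

/-- Over a discrete valuation ring. -/
theorem isProper_of_dvr {R : Type u} [CommRing R] [IsDomain R] [IsDiscreteValuationRing R] {T : Scheme.{u}}
    (h : T ⟶ Spec (CommRingCat.of R)) [Flat h] [IsSeparated h] [LocallyOfFiniteType h] [QuasiCompact h]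
    [IsProper (h.fiberToSpecResidueField (closedPoint R))] (hne : ∃ x, h x = closedPoint R)
    (hconn : ∀ η : Spec (CommRingCat.of R), η.asIdeal = ⊥ → MoreMor.nGeomConnComp h η ≤ 1) : IsProper h := by
  refine isProper_of_dvr_of_meets h (fun B _ _ _ t htc _ => ?_) hconn
  haveI : LocallyOfFinitePresentation h := inferInstance
  refine specialMeetsGeneric_of_isOpenMap _ (pullback.snd h t).isOpenMap ?_
  obtain ⟨x, hx⟩ := hne
  obtain ⟨z, -, hz⟩ := Scheme.Pullback.exists_preimage_pullback (f := h) (g := t) x (closedPoint B)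
    (hx.trans htc.symm)
  exact ⟨z, hz⟩

/-- The trait argument over a locally noetherian base. -/
theorem exists_isProper_nhd_of_traits {X S : Scheme.{u}} [IsLocallyNoetherian S] (f : X ⟶ S)
    [IsSeparated f] [LocallyOfFiniteType f] [QuasiCompact f]
    (s : S) (hs : IsProper (f.fiberToSpecResidueField s))
    (H : ∀ Z ∈ irreducibleComponents (X : Type u), ∀ ξ, IsGenericPoint ξ Z →
      MoreMor.nGeomConnComp f (f ξ) ≤ 1 ∧
        ∀ (B : Type u) [CommRing B] [IsDomain B] [IsDiscreteValuationRing B] (t : Spec (CommRingCat.of B) ⟶ S),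
          t (closedPoint B) = s → t (⟨⊥, Ideal.isPrime_bot⟩ : PrimeSpectrum B) = f ξ →
            SpecialMeetsGeneric (pullback.snd f t)) :
    ∃ U : S.Opens, s ∈ U ∧ IsProper (f ∣_ U) := by
  refine DVRProper.exists_nhd_of_forall f s fun Z hZ ξ hξ => ?_
  intro W hW g hgc hgη
  haveI := hW
  let h := pullback.snd f g
  have hsq := IsPullback.of_hasPullback f g
  haveI := hs
  haveI : IsProper (h.fiberToSpecResidueField (closedPoint W)) := by
    haveI : IsProper (pullback.snd f ((Spec (CommRingCat.of W)).fromSpecResidueField (closedPoint W) ≫ g)) :=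
      isProper_pullback_of_fibre f s _ fun c => by
        rw [Scheme.Hom.comp_apply]
        exact (congrArg g.base (Scheme.fromSpecResidueField_apply _ _)).trans hgc
    show IsProper (pullback.snd (pullback.snd f g) ((Spec (CommRingCat.of W)).fromSpecResidueField (closedPoint W)))
    rw [← pullbackLeftPullbackSndIso_hom_snd]
    infer_instance
  have hgen' : ∀ η : Spec (CommRingCat.of W), η.asIdeal = ⊥ → g η = f ξ := fun η hη => by
      have h1 : η = Spec.map (CommRingCat.ofHom W.subtype) (closedPoint (X.residueField ξ)) := by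
        refine PrimeSpectrum.ext (hη.trans ?_)
        show ⊥ = (maximalIdeal (X.residueField ξ)).comap W.subtype
        rw [isField_iff_maximalIdeal_eq.mp (Field.toIsField (X.residueField ξ)), ← RingHom.ker_eq_comap_bot]
        exact ((RingHom.injective_iff_ker_eq_bot W.subtype).mp Subtype.val_injective).symm
      rw [h1, ← Scheme.Hom.comp_apply, hgη, Scheme.Hom.comp_apply]
      exact congrArg f.base (Scheme.fromSpecResidueField_apply _ _)
  haveI : IsProper h := by
    refine isProper_of_dvr_of_meets h (fun B _ _ _ t htc htη => ?_) fun η hη => ?_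
    · have hm := (H Z hZ ξ hξ).2 B (t ≫ g) (by rw [Scheme.Hom.comp_apply, htc, hgc])
        (by rw [Scheme.Hom.comp_apply]; exact hgen' _ htη)
      intro O hO hOs
      let e := pullbackLeftPullbackSndIso f g t
      obtain ⟨ζ, hζ, hζη⟩ := hm (e.inv ⁻¹' O) (hO.preimage e.inv.continuous) fun z hz => hOs _ (by
        rw [← Scheme.Hom.comp_apply, pullbackLeftPullbackSndIso_inv_snd_snd]; exact hz)
      refine ⟨e.inv ζ, hζ, ?_⟩
      rw [← Scheme.Hom.comp_apply, pullbackLeftPullbackSndIso_inv_snd_snd]
      exact hζη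
    · rw [nGeomConnComp_of_isPullback f hsq, hgen' η hη]
      exact (H Z hZ ξ hξ).1
  obtain ⟨l, hl, hlf⟩ := DVRProper.exists_lift h W (pullback.lift (X.fromSpecResidueField ξ) (Spec.map (CommRingCat.ofHom W.subtype)) hgη.symm)
    (𝟙 _) (by rw [pullback.lift_snd, Category.comp_id])
  refine ⟨l ≫ pullback.fst f g, ?_, ?_⟩
  · rw [← Category.assoc, hl, pullback.lift_fst]
  · rw [Category.assoc, pullback.condition, ← Category.assoc, hlf, Category.id_comp]

/-- Over a locally noetherian base. -/
theorem exists_isProper_nhd_of_flat {X S : Scheme.{u}} [IsLocallyNoetherian S] (f : X ⟶ S)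
    [Flat f] [IsSeparated f] [LocallyOfFiniteType f] [QuasiCompact f]
    (hgen : ∀ η : S, (∀ η' : S, η' ⤳ η → η' = η) → Nonempty ↥(f.fiber η) →
      GeometricallyConnected (f.fiberToSpecResidueField η))
    (s : S) [Nonempty ↥(f.fiber s)] (hs : IsProper (f.fiberToSpecResidueField s)) :
    ∃ U : S.Opens, s ∈ U ∧ IsProper (f ∣_ U) := by
  haveI : LocallyOfFinitePresentation f := inferInstance
  refine exists_isProper_nhd_of_traits f s hs fun Z hZ ξ hξ => ?_
  have hmax : ∀ η' : S, η' ⤳ f ξ → η' = f ξ := by
    intro η' hη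
    obtain ⟨z, hz, hzη⟩ := Flat.generalizingMap f hη
    have hzZ : z = ξ := by
      have h1 : Z ⊆ closure {z} := by
        rw [← hξ.def]
        exact closure_minimal (Set.singleton_subset_iff.mpr (specializes_iff_mem_closure.mp hz)) isClosed_closure
      have h2 : closure {z} = Z := (hZ.eq_of_le isIrreducible_singleton.closure h1).symm
      exact (IsGenericPoint.eq (show IsGenericPoint z Z from h2) hξ)
    exact hzη.symm.trans (congrArg f.base hzZ)
  obtain ⟨p, -⟩ : ξ ∈ Set.range (f.fiberι (f ξ)) := by rw [f.range_fiberι]; rfl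
  refine ⟨((geometricallyConnected_fiber_iff f _).mp (hgen _ hmax ⟨p⟩)).le, fun B _ _ _ t htc _ => ?_⟩
  refine specialMeetsGeneric_of_isOpenMap _ (pullback.snd f t).isOpenMap ?_
  obtain ⟨x⟩ := ‹Nonempty ↥(f.fiber s)›
  obtain ⟨z, -, hz⟩ := Scheme.Pullback.exists_preimage_pullback (f := f) (g := t) (f.fiberι s x) (closedPoint B)
    ((show f (f.fiberι s x) = s from (f.range_fiberι s).le ⟨x, rfl⟩).trans htc.symm)
  exact ⟨z, hz⟩

/-- The geometric number of connected components drops to at most one over the whole base. -/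
theorem nGeomConnComp_le_one_of_proper {X S : Scheme.{u}} [IsLocallyNoetherian S] (f : X ⟶ S) [IsProper f] [Flat f]
    (hgen : ∀ η : S, (∀ η' : S, η' ⤳ η → η' = η) → MoreMor.nGeomConnComp f η ≤ 1) (s : S) :
    MoreMor.nGeomConnComp f s ≤ 1 := by
  have hZ := irreducibleComponent_mem_irreducibleComponents s
  have hξ := hZ.1.isGenericPoint_genericPoint (isClosed_irreducibleComponent (x := s))
  haveI : LocallyOfFinitePresentation f := inferInstance
  refine (nGeomConnComp_le_of_specializes_proper f (hξ.specializes mem_irreducibleComponent)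
    fun x _ => isUnivOpenAt_of_flat f x).trans (hgen _ fun η' hη => ?_)
  have h1 : irreducibleComponent s ⊆ closure {η'} := by
    rw [← hξ.def]
    exact closure_minimal (Set.singleton_subset_iff.mpr (specializes_iff_mem_closure.mp hη)) isClosed_closure
  exact IsGenericPoint.eq (show IsGenericPoint η' (irreducibleComponent s) from (hZ.eq_of_le isIrreducible_singleton.closure h1).symm) hξ

end Groth.L07.Count
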