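import Groth.Agent.L07.Count.ProperLsc
import Groth.Agent.L19.Limit.Proper
import Groth.Agent.L19.Limit.FlatStage
import Groth.Agent.L05.ModelFG

/-!
Lower semicontinuity of the geometric number of connected components of a flat proper morphism of finite
presentation (EGA IV 15.5.4).
-/

set_option autoImplicit false
set_option linter.style.haveILetI false
set_option maxSynthPendingDepth 3
set_option backward.isDefEq.respectTransparency false

universe u

open CategoryTheory CategoryTheory.Limits AlgebraicGeometry TopologicalSpace Opposite Topology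

noncomputable section

namespace Groth.L07.Count

/-- A flat proper model over a finitely generated subring. -/
theorem exists_flat_proper_model {A : Type u} [CommRing A] {X : Scheme.{u}} (f : X ⟶ Spec (CommRingCat.of A)) [IsProper f]
    [Flat f] [LocallyOfFinitePresentation f] :
    ∃ A₀ : Subalgebra ℤ A, A₀.FG ∧
      ∃ (X₀ : Scheme.{u}) (f₀ : X₀ ⟶ Spec (CommRingCat.of ↥A₀)) (g : X ⟶ X₀),
        IsProper f₀ ∧ Flat f₀ ∧ LocallyOfFinitePresentation f₀ ∧
          IsPullback g f f₀ (Spec.map (CommRingCat.ofHom (algebraMap (↥A₀) A))) := by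
  obtain ⟨A₀, hA₀, X₀, f₀, g, hflat, h1, h2, sq⟩ := Groth.L05.ModelFG.exists_model (A := A)
    (P := @Flat) Groth.L19.Limit.descends_flat f ‹_›
  haveI := hflat
  haveI := h1; haveI := h2
  let D := Groth.L05.ModelFG.specDiagram A
  let c := Groth.L05.ModelFG.specCone A
  let i : (Groth.L05.ModelFG.FG A)ᵒᵖ := op ⟨A₀, hA₀⟩
  haveI : CompactSpace (D.obj i) := inferInstanceAs (CompactSpace (Spec (CommRingCat.of ↥A₀)))
  haveI : QuasiSeparatedSpace (D.obj i) := inferInstanceAs (QuasiSeparatedSpace (Spec (CommRingCat.of ↥A₀)))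
  haveI : CompactSpace X₀ := QuasiCompact.compactSpace_of_compactSpace f₀
  let f₀' : X₀ ⟶ D.obj i := f₀
  haveI : LocallyOfFiniteType f₀' := inferInstanceAs (LocallyOfFiniteType f₀)
  haveI : QuasiCompact f₀' := inferInstanceAs (QuasiCompact f₀)
  have hY : IsPullback (c.π.app i) (𝟙 c.pt) (𝟙 (D.obj i)) (c.π.app i) := IsPullback.of_id_fst.flip
  let f' : X ⟶ c.pt := f
  haveI : IsProper f' := inferInstanceAs (IsProper f)
  have hX : IsPullback g f' f₀' (c.π.app i) := sq
  haveI : Algebra.FiniteType ℤ A₀ := A₀.fg_iff_finiteType.mp hA₀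
  haveI : IsNoetherianRing A₀ := Algebra.FiniteType.isNoetherianRing ℤ A₀
  haveI : IsLocallyNoetherian X₀ := LocallyOfFiniteType.isLocallyNoetherian f₀
  haveI : QuasiSeparatedSpace X₀ := inferInstance
  obtain ⟨j, hj⟩ := Groth.L19.Limit.exists_isProper (D := D) (f₀ := f₀') (g₀ := 𝟙 (D.obj i))
    (g := 𝟙 c.pt) (Groth.L05.ModelFG.isLimitSpecCone A) hY hX
  let X₁ := pullback (D.map j.hom) f₀'
  let f₁ : X₁ ⟶ D.obj j.left := pullback.fst (D.map j.hom) f₀'
  refine ⟨j.left.unop.1, j.left.unop.2, X₁, f₁,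
    pullback.lift (f' ≫ c.π.app j.left) g (by rw [Category.assoc, c.w]; exact hX.w.symm),
    ?_, MorphismProperty.pullback_fst _ _ (inferInstanceAs (Flat f₀)), MorphismProperty.pullback_fst _ _ (inferInstanceAs (LocallyOfFinitePresentation f₀)), ?_⟩
  · let e : X₁ ≅ (Groth.L19.Limit.bcDiagram D (f₀' ≫ 𝟙 (D.obj i))).obj j :=
      pullback.congrHom rfl (Category.comp_id f₀').symm
    have he : f₁ = e.hom ≫ Groth.L19.Limit.stageHom f₀' (𝟙 (D.obj i)) j ≫ pullback.fst (D.map j.hom) (𝟙 (D.obj i)) := by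
      rw [Groth.L19.Limit.stageHom_fst]
      simp [e, f₁, Groth.L19.Limit.bcDiagram]
    haveI := hj
    show IsProper f₁
    rw [he]
    infer_instance
  · exact IsPullback.of_right (by
        show IsPullback _ f' f₀' (c.π.app j.left ≫ D.map j.hom)
        rw [pullback.lift_snd, c.w]
        exact hX)
      (pullback.lift_fst _ _ _) (IsPullback.of_hasPullback (D.map j.hom) f₀').flip

theorem isUnivOpenAt_of_flat {X Y : Scheme.{u}} (f : X ⟶ Y) [UniversallyOpen f] (x : X) :
    EGA43.IsUnivOpenAt f x := fun Y' t x' _ => fun U hU => (pullback.snd f t).isOpenMap.image_mem_nhds hU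

/-- The geometric number of connected components of a flat proper morphism of finite presentation does not
increase under specialization. -/
theorem lowerSemicontinuous_nGeomConnComp_proper {X S : Scheme.{u}} (f : X ⟶ S) [IsProper f] [Flat f]
    [LocallyOfFinitePresentation f] : LowerSemicontinuous (fun s : S => MoreMor.nGeomConnComp f s) := by
  intro s c hc
  obtain ⟨V, hV, hsV, -⟩ := exists_isAffineOpen_mem_and_subset (X := S) (x := s) (U := ⊤) trivial
  obtain ⟨p, hp⟩ : s ∈ Set.range hV.fromSpec := by rw [hV.range_fromSpec]; exact hsV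
  let f' := pullback.snd f hV.fromSpec
  obtain ⟨A₀, hA₀, X₀, f₀, g, h1, h2, h3, sq⟩ := exists_flat_proper_model f'
  haveI : Algebra.FiniteType ℤ A₀ := A₀.fg_iff_finiteType.mp hA₀
  haveI : IsNoetherianRing A₀ := Algebra.FiniteType.isNoetherianRing ℤ A₀
  haveI := h1
  haveI := h2
  haveI := h3
  let q := Spec.map (CommRingCat.ofHom (algebraMap (↥A₀) Γ(S, V)))
  obtain ⟨W, hW, hWn⟩ := nGeomConnComp_le_nhds_proper f₀ (q p) fun x _ => isUnivOpenAt_of_flat f₀ x
  have hn : ∀ r, MoreMor.nGeomConnComp f (hV.fromSpec r) = MoreMor.nGeomConnComp f₀ (q r) := fun r => by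
    rw [← nGeomConnComp_of_isPullback f (IsPullback.of_hasPullback f hV.fromSpec) r]
    exact nGeomConnComp_of_isPullback f₀ sq r
  have h4 : hV.fromSpec '' (q ⁻¹' W) ∈ 𝓝 s := by
    rw [← hp]
    exact hV.fromSpec.isOpenEmbedding.isOpenMap.image_mem_nhds (q.continuous.continuousAt.preimage_mem_nhds hW)
  refine Filter.mem_of_superset h4 ?_
  rintro _ ⟨r, hr, rfl⟩
  show c < MoreMor.nGeomConnComp f (hV.fromSpec r)
  rw [hn r]
  refine lt_of_lt_of_le ?_ (hWn (q r) hr)
  rw [← hn p, hp]
  exact hc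

end Groth.L07.Count
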