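import Groth.Agent.L07.Count.Split
import Groth.Agent.L07.Count.ProperLsc
import Groth.Agent.L07.DVRConnected
import Mathlib.AlgebraicGeometry.Geometrically.Reduced

/-!
Upper semicontinuity of the geometric number of connected components for proper morphisms at a point with
geometrically reduced fibre (EGA IV 15.5.7).
-/

universe u

open CategoryTheory CategoryTheory.Limits AlgebraicGeometry Groth.L07.Spread Topology IsLocalRing

namespace Groth.L07.Count

set_option autoImplicit false
set_option linter.style.haveILetI false
set_option maxSynthPendingDepth 3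
set_option backward.isDefEq.respectTransparency.types false
set_option backward.isDefEq.respectTransparency false

/-- A geometrically reduced fibre gives reduced pullbacks along field points. -/
theorem isReduced_pullback_of_geomReduced {X Y : Scheme.{u}} (f : X ⟶ Y) {y : Y}
    (hred : GeometricallyReduced (f.fiberToSpecResidueField y)) (K : Type u) [Field K]
    (g : Spec (CommRingCat.of K) ⟶ Y) (hg : ∀ c, g c = y) : AlgebraicGeometry.IsReduced (pullback f g) := by
  obtain ⟨ψ, rfl⟩ := exists_residueField_factor K g y hg
  letI : Algebra (Y.residueField y) K := ψ.hom.toAlgebra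
  obtain ⟨e⟩ := nonempty_iso_bc f (y := y) K (Spec.map ψ ≫ Y.fromSpecResidueField y) rfl
  haveI : AlgebraicGeometry.IsReduced (FBase.bc (k := ↑(Y.residueField y)) (f.fiberToSpecResidueField y) K) :=
    hred.geometrically_isReduced _ _ _ (IsPullback.of_hasPullback _ _)
  exact isReduced_of_isOpenImmersion e.hom

/-- Over a discrete valuation ring a proper morphism open at the closed fibre, which is reduced, has at most as
many components in the generic fibre as in the closed fibre. -/
theorem nConn_generic_le_closed {B : Type u} [CommRing B] [IsDomain B] [IsDiscreteValuationRing B]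
    {T : Scheme.{u}} (h : T ⟶ Spec (CommRingCat.of B)) [IsProper h]
    (hopen : ∀ x, h x = closedPoint B → EGA43.IsOpenAt h.base x)
    (hred : AlgebraicGeometry.IsReduced (h.fiber (closedPoint B))) :
    nConn (pullback h (specAlg B (FractionRing B))) ≤ nConn (pullback h (specAlg B (ResidueField B))) := by
  classical
  haveI : IsLocallyNoetherian T := LocallyOfFiniteType.isLocallyNoetherian h
  haveI : CompactSpace T := QuasiCompact.compactSpace_of_compactSpace h
  haveI : AlgebraicGeometry.IsNoetherian T := {}
  let η : Spec (CommRingCat.of B) := (⟨⊥, Ideal.isPrime_bot⟩ : PrimeSpectrum B)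
  have htwo : ∀ p : Spec (CommRingCat.of B), p = η ∨ p = closedPoint B := fun p => by
    by_cases hp : (show PrimeSpectrum B from p).asIdeal = ⊥
    · exact Or.inl (PrimeSpectrum.ext hp)
    · exact Or.inr (PrimeSpectrum.ext (IsLocalRing.eq_maximalIdeal (IsPrime.to_maximal_ideal hp)))
  have hcl : IsClosed ({closedPoint B} : Set (Spec (CommRingCat.of B))) :=
    (PrimeSpectrum.isClosed_singleton_iff_isMaximal (closedPoint B)).mpr (maximalIdeal.isMaximal B)
  have hb : ∀ z : Spec (CommRingCat.of B), η ⤳ z := fun z =>
    (PrimeSpectrum.le_iff_specializes (η : PrimeSpectrum B) z).mp bot_le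
  have hopenMap : IsOpenMap h.base := fun U hU => isOpen_iff_mem_nhds.mpr (by
    rintro _ ⟨x, hx, rfl⟩
    rcases htwo (h x) with hη | hc
    · refine Filter.mem_of_superset (hcl.isOpen_compl.mem_nhds (x := h x) ?_) fun p hp => ?_
      · rw [Set.mem_compl_iff, Set.mem_singleton_iff, hη]
        exact fun e => IsDiscreteValuationRing.not_a_field B (congrArg PrimeSpectrum.asIdeal e).symm
      · exact ⟨x, hx, hη.trans ((htwo p).resolve_right hp).symm⟩
    · exact hopen x hc U (hU.mem_nhds hx))
  let π₀ := pullback.fst h (specAlg B (ResidueField B))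
  let π₁ := pullback.fst h (specAlg B (FractionRing B))
  haveI : IsPreimmersion (specAlg B (FractionRing B)) := IsPreimmersion.of_isLocalization (nonZeroDivisors B)
  have hη₁ : ∀ z, h (π₁ z) = η := fun z => PrimeSpectrum.ext ((asIdeal_fst h _ z).trans
    ((RingHom.injective_iff_ker_eq_bot _).mp (IsFractionRing.injective B (FractionRing B))))
  have h1 : nConn (pullback h (specAlg B (FractionRing B))) ≤ nConn T := by
    refine ENat.card_le_card_of_injective (f := π₁.continuous.connectedComponentsMap) ?_
    intro a b hab
    obtain ⟨z, rfl⟩ := ConnectedComponents.surjective_coe a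
    obtain ⟨w, rfl⟩ := ConnectedComponents.surjective_coe b
    let Q : T.Opens := ⟨connectedComponent (π₁ z), isOpen_connectedComponent_of_noetherian _⟩
    haveI : PreconnectedSpace ↥(Q : Scheme.{u}) :=
      isPreconnected_iff_preconnectedSpace.mp (isPreconnected_connectedComponent (x := π₁ z))
    let j := pullback.map (Q.ι ≫ h) ((Spec (CommRingCat.of B)).fromSpecResidueField (closedPoint B)) h
      ((Spec (CommRingCat.of B)).fromSpecResidueField (closedPoint B)) Q.ι (𝟙 _) (𝟙 _) (by simp) (by simp)
    haveI : IsOpenImmersion j := inferInstance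
    have hredQ : AlgebraicGeometry.IsReduced ((Q.ι ≫ h).fiber (closedPoint B)) :=
      haveI : AlgebraicGeometry.IsReduced (pullback h ((Spec (CommRingCat.of B)).fromSpecResidueField (closedPoint B))) := hred
      isReduced_of_isOpenImmersion j
    have hQ := DVRConnected.preconnectedSpace_generic (Q.ι ≫ h)
      (hopenMap.comp Q.ι.isOpenEmbedding.isOpenMap) (closedPoint B) η hcl hb hredQ
    have hpre : _root_.IsPreconnected (Q.ι '' ((Q.ι ≫ h).base ⁻¹' {η})) := by
      rw [← (Q.ι ≫ h).range_fiberι η]
      exact (isPreconnected_range ((Q.ι ≫ h).fiberι η).continuous).image _ Q.ι.continuous.continuousOn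
    have hset : Q.ι '' ((Q.ι ≫ h).base ⁻¹' {η}) = π₁ '' (π₁ ⁻¹' (Q : Set T)) := by
      ext x
      constructor
      · rintro ⟨v, hv, rfl⟩
        obtain ⟨p, hp⟩ := exists_fst_eq h (FractionRing B) (Q.ι v) (by
          rw [← Scheme.Hom.comp_apply, show (Q.ι ≫ h) v = η from hv]
          exact ((RingHom.injective_iff_ker_eq_bot _).mp (IsFractionRing.injective B (FractionRing B))).symm)
        exact ⟨p, show π₁ p ∈ (Q : Set T) from (show π₁ p = Q.ι v from hp) ▸ v.2, hp⟩
      · rintro ⟨p, hp, rfl⟩
        exact ⟨⟨π₁ p, hp⟩, hη₁ p, rfl⟩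
    rw [hset, π₁.isEmbedding.isInducing.isPreconnected_image] at hpre
    refine ConnectedComponents.coe_eq_coe'.mpr (hpre.subset_connectedComponent ?_ ?_)
    · show π₁ w ∈ connectedComponent (π₁ z)
      exact ConnectedComponents.coe_eq_coe'.mp hab.symm
    · exact mem_connectedComponent
  refine h1.trans ?_
  have hs : Function.Surjective π₀.continuous.connectedComponentsMap := fun c => by
    obtain ⟨z, rfl⟩ := ConnectedComponents.surjective_coe c
    obtain ⟨b, hb', hbc⟩ : ∃ b ∈ connectedComponent z, h b = closedPoint B :=
      (IsLocalRing.specializes_closedPoint (h z)).mem_closed (h.isClosedMap _ isClosed_connectedComponent)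
        ⟨z, mem_connectedComponent, rfl⟩
    obtain ⟨p, hp⟩ := exists_fst_eq h (ResidueField B) b (by rw [hbc]; exact ker_residue.symm)
    refine ⟨ConnectedComponents.mk p, ConnectedComponents.coe_eq_coe'.mpr ?_⟩
    show π₀ p ∈ connectedComponent z
    rw [show π₀ p = b from hp]
    exact hb'
  exact ENat.card_le_card_of_injective (Function.injective_surjInv hs)

/-- Along a specialization onto a point with geometrically reduced fibre the geometric number of connected
components of a proper morphism open over it does not increase. -/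
theorem nGeomConnComp_ge_of_specializes_proper {X Y : Scheme.{u}} [IsLocallyNoetherian Y] (f : X ⟶ Y) [IsProper f]
    {y' y : Y} (hy : y' ⤳ y) (hopen : ∀ x, f x = y → EGA43.IsUnivOpenAt f x)
    (hred : GeometricallyReduced (f.fiberToSpecResidueField y)) :
    MoreMor.nGeomConnComp f y' ≤ MoreMor.nGeomConnComp f y := by
  rcases eq_or_ne y' y with rfl | hne
  · exact le_rfl
  obtain ⟨B, _, _, _, t, hBk, htc, htη, hn⟩ := exists_dvr_split f hy hne
  let h := pullback.snd f t
  have hsq := IsPullback.of_hasPullback f t
  have hc : ∀ c, specAlg B (ResidueField B) c = closedPoint B := fun c => PrimeSpectrum.ext (by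
    rw [specAlg_apply]; exact ker_residue)
  have hopen' : ∀ x, h x = closedPoint B → EGA43.IsOpenAt h.base x := fun x hx =>
    Groth.L07.UnivOpenAt.of_isPullback hsq (hopen (pullback.fst f t x) (by
      rw [← Scheme.Hom.comp_apply, pullback.condition, Scheme.Hom.comp_apply]
      exact (congrArg t.base hx).trans htc)) x rfl
  haveI : AlgebraicGeometry.IsReduced
      (pullback f ((Spec (CommRingCat.of B)).fromSpecResidueField (closedPoint B) ≫ t)) :=
    isReduced_pullback_of_geomReduced f hred ((Spec (CommRingCat.of B)).residueField (closedPoint B)) _ fun c => by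
      rw [Scheme.Hom.comp_apply]
      exact (congrArg t.base (Scheme.fromSpecResidueField_apply _ _)).trans htc
  have hredB : AlgebraicGeometry.IsReduced (h.fiber (closedPoint B)) :=
    isReduced_of_isOpenImmersion (pullbackLeftPullbackSndIso f t _).hom
  rw [hn]
  refine (nConn_generic_le_closed h hopen' hredB).trans_eq ?_
  rw [← htc, ← nGeomConnComp_of_isPullback f hsq,
    nGeomConnComp_eq h (ResidueField B) (specAlg B (ResidueField B)) _ hc]

/-- Local constancy at a point with geometrically reduced fibre. -/
theorem nGeomConnComp_eq_nhds_proper {X Y : Scheme.{u}} [IsLocallyNoetherian Y] (f : X ⟶ Y) [IsProper f]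
    [LocallyOfFinitePresentation f] (y : Y) (hopen : ∀ x, f x = y → EGA43.IsUnivOpenAt f x)
    (hred : GeometricallyReduced (f.fiberToSpecResidueField y)) :
    ∃ V ∈ 𝓝 y, ∀ z ∈ V, MoreMor.nGeomConnComp f z = MoreMor.nGeomConnComp f y :=
  ⟨nPair f ⁻¹' {p | p.1 = MoreMor.nGeomConnComp f y},
    mem_nhds_of_isLocallyConstructible (isLocallyConstructible_nPair f _) fun _ hz =>
      le_antisymm (nGeomConnComp_ge_of_specializes_proper f hz hopen hred)
        (nGeomConnComp_le_of_specializes_proper f hz hopen), fun _ hz => hz⟩

end Groth.L07.Count
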