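import Groth.Agent.L07.Count.FlatProper
import Groth.Agent.L07.Count.ProperUsc
import Groth.Agent.L07.GeomReducedScheme
import Groth.Agent.L20.GeomFibre

/-!
The geometric number of connected components of a flat proper morphism of finite presentation is constant near
the points with geometrically reduced fibre, and these points form an open set (EGA IV 15.5.7, 12.2.4).
-/

universe u

open CategoryTheory CategoryTheory.Limits AlgebraicGeometry Groth.L07.Spread Topology

namespace Groth.L07.Count

set_option autoImplicit false
set_option linter.style.haveILetI false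
set_option maxSynthPendingDepth 3
set_option backward.isDefEq.respectTransparency.types false
set_option backward.isDefEq.respectTransparency false

/-- Geometric reducedness of fibres is invariant under base change. -/
theorem geomReduced_fibre_iff {X Y X' Y' : Scheme.{u}} (f : X ⟶ Y) (g : Y' ⟶ Y) (f' : X' ⟶ Y') (g' : X' ⟶ X)
    (hc : IsPullback g' f' f g) (y' : Y') :
    GeometricallyReduced (f'.fiberToSpecResidueField y') ↔
      GeometricallyReduced (f.fiberToSpecResidueField (g y')) := by
  rw [geometricallyReduced_iff, geometricallyReduced_iff]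
  exact Groth.L20.geometrically_fiber_iff IsReduced
    (fun p _ _ h => @Groth.L20.isReduced_of_surjective_of_flat _ _ p _ _ h) f g f' g' hc y'

/-- The number of geometric connected components is constant near a point with geometrically reduced fibre. -/
theorem nGeomConnComp_eq_nhds_flat_proper {X S : Scheme.{u}} (f : X ⟶ S) [IsProper f] [Flat f]
    [LocallyOfFinitePresentation f] (s : S) (hred : GeometricallyReduced (f.fiberToSpecResidueField s)) :
    ∃ V ∈ 𝓝 s, ∀ z ∈ V, MoreMor.nGeomConnComp f z = MoreMor.nGeomConnComp f s := by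
  obtain ⟨V, hV, hsV, -⟩ := exists_isAffineOpen_mem_and_subset (X := S) (x := s) (U := ⊤) trivial
  obtain ⟨p, hp⟩ : s ∈ Set.range hV.fromSpec := by rw [hV.range_fromSpec]; exact hsV
  subst hp
  let f' := pullback.snd f hV.fromSpec
  have hc := IsPullback.of_hasPullback f hV.fromSpec
  obtain ⟨A₀, hA₀, X₀, f₀, g, h1, h2, h3, sq⟩ := exists_flat_proper_model f'
  haveI : Algebra.FiniteType ℤ A₀ := A₀.fg_iff_finiteType.mp hA₀
  haveI : IsNoetherianRing A₀ := Algebra.FiniteType.isNoetherianRing ℤ A₀
  haveI := h1
  haveI := h2
  haveI := h3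
  let q := Spec.map (CommRingCat.ofHom (algebraMap (↥A₀) Γ(S, V)))
  obtain ⟨W, hW, hWn⟩ := nGeomConnComp_eq_nhds_proper f₀ (q p) (fun x _ => isUnivOpenAt_of_flat f₀ x)
    ((geomReduced_fibre_iff f₀ q f' g sq p).mp ((geomReduced_fibre_iff f hV.fromSpec f' _ hc p).mpr hred))
  have hn : ∀ r, MoreMor.nGeomConnComp f (hV.fromSpec r) = MoreMor.nGeomConnComp f₀ (q r) := fun r => by
    rw [← nGeomConnComp_of_isPullback f hc r]
    exact nGeomConnComp_of_isPullback f₀ sq r
  refine ⟨hV.fromSpec '' (q ⁻¹' W), hV.fromSpec.isOpenEmbedding.isOpenMap.image_mem_nhds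
    (q.continuous.continuousAt.preimage_mem_nhds hW), ?_⟩
  rintro _ ⟨r, hr, rfl⟩
  rw [hn r, hWn (q r) hr, hn p]

/-- For a flat proper morphism of finite presentation the points with geometrically reduced fibre form an open set. -/
theorem isOpen_geomReduced_fibre {X S : Scheme.{u}} (f : X ⟶ S) [IsProper f] [Flat f]
    [LocallyOfFinitePresentation f] : IsOpen {s : S | GeometricallyReduced (f.fiberToSpecResidueField s)} := by
  let O : Set X := {x : X | (f.stalkMap x).hom.Flat ∧
    FBase.IsGeomReducedAt (f.fiberToSpecResidueField (f.base x)) (f.asFiber x)}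
  have hO : IsOpen O := Groth.L07.FlatGeomReduced.isOpen_flat_geomReduced f
  have key : {s : S | GeometricallyReduced (f.fiberToSpecResidueField s)} = (f.base '' Oᶜ)ᶜ := by
    ext s
    constructor
    · rintro hs ⟨x, hx, rfl⟩
      refine hx ⟨Flat.stalkMap f x, fun K _ hK x' _ => ?_⟩
      haveI : AlgebraicGeometry.IsReduced (@FBase.bc _ _ _ (f.fiberToSpecResidueField (f.base x)) K _ hK) :=
        (show GeometricallyReduced (f.fiberToSpecResidueField (f.base x)) from hs).geometrically_isReduced _ _ _
          (IsPullback.of_hasPullback _ _)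
      infer_instance
    · intro hs
      refine ⟨fun K _ t Z fst snd hZ => ?_⟩
      obtain ⟨ψ, rfl⟩ := Spec.map_surjective t
      letI : Algebra (S.residueField s) K := ψ.hom.toAlgebra
      have hat : ∀ z : f.fiber s, FBase.IsGeomReducedAt (f.fiberToSpecResidueField s) z := fun z => by
        obtain ⟨⟨x, hx⟩, rfl⟩ := (f.fiberHomeo s).symm.surjective z
        have hx' : f x = s := hx
        subst hx'
        have hxO : x ∈ O := by
          by_contra hn
          exact hs ⟨x, hn, rfl⟩
        exact hxO.2
      have : ∀ x' : (FBase.bc (k := ↑(S.residueField s)) (f.fiberToSpecResidueField s) K : Scheme.{u}),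
          _root_.IsReduced ((FBase.bc (k := ↑(S.residueField s)) (f.fiberToSpecResidueField s) K).presheaf.stalk x') :=
        fun x' => @hat ((FBase.bcπ (k := ↑(S.residueField s)) (f.fiberToSpecResidueField s) K).base x') K _
          ψ.hom.toAlgebra x' rfl
      haveI : IsReduced (FBase.bc (k := ↑(S.residueField s)) (f.fiberToSpecResidueField s) K) :=
        isReduced_of_isReduced_stalk _
      exact @isReduced_of_isOpenImmersion _ _ hZ.isoPullback.hom _ this
  rw [key]
  exact (f.isClosedMap _ hO.isClosed_compl).isOpen_compl

end Groth.L07.Count
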