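import Groth.Agent.L07.Count.SectionPiece
import Groth.Agent.L07.Count.FlatProper

/-!
Properness over the points with proper geometrically connected fibres, in the presence of sections
(EGA IV 15.7.11).
-/

universe u

open CategoryTheory CategoryTheory.Limits AlgebraicGeometry Topology IsLocalRing

namespace Groth.L07.Count

set_option autoImplicit false
set_option linter.style.haveILetI false
set_option maxSynthPendingDepth 3
set_option backward.isDefEq.respectTransparency.types false
set_option backward.isDefEq.respectTransparency false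

/-- Properness of a fibre is insensitive to base change. -/
theorem proper_fibre_iff {X Y X' Y' : Scheme.{u}} {f : X ⟶ Y} {f' : X' ⟶ Y'} {p : X' ⟶ X} {t : Y' ⟶ Y}
    (sq : IsPullback p f' f t) [IsSeparated f] [LocallyOfFiniteType f] [QuasiCompact f] (w : Y') :
    IsProper (f'.fiberToSpecResidueField w) ↔ IsProper (f.fiberToSpecResidueField (t w)) := by
  let m : f'.fiber w ⟶ f.fiber (t w) :=
    pullback.map _ _ _ _ p (Spec.map (t.residueFieldMap w)) t sq.w.symm (by simp)
  have H : IsPullback m (f'.fiberToSpecResidueField w) (f.fiberToSpecResidueField (t w)) (Spec.map (t.residueFieldMap w)) :=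
    isPullback_fiberToSpecResidueField_of_isPullback sq w
  refine ⟨fun h => ?_, fun h => MorphismProperty.of_isPullback H h⟩
  haveI : LocallyOfFiniteType (f.fiberToSpecResidueField (t w)) := MorphismProperty.pullback_snd _ _ inferInstance
  haveI : IsSeparated (f.fiberToSpecResidueField (t w)) := MorphismProperty.pullback_snd _ _ inferInstance
  haveI : QuasiCompact (f.fiberToSpecResidueField (t w)) := MorphismProperty.pullback_snd _ _ inferInstance
  haveI : Surjective (Spec.map (t.residueFieldMap w)) := inferInstance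
  haveI : Flat (Spec.map (t.residueFieldMap w)) := inferInstance
  haveI : UniversallyClosed (f.fiberToSpecResidueField (t w)) :=
    MorphismProperty.of_isPullback_of_descendsAlong (Q := @Surjective ⊓ @Flat ⊓ @QuasiCompact) H.flip
      ⟨⟨inferInstance, inferInstance⟩, inferInstance⟩ h.toUniversallyClosed
  exact {}

/-- With a section and connected fibres, properness spreads from a fibre. -/
theorem isProper_nhd_of_section {X Y : Scheme.{u}} (f : X ⟶ Y) [IsSeparated f] [LocallyOfFinitePresentation f]
    [QuasiCompact f] (g : Y ⟶ X) (hg : g ≫ f = 𝟙 Y) (hconn : ∀ y : Y, MoreMor.nGeomConnComp f y ≤ 1)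
    (y : Y) (hy : IsProper (f.fiberToSpecResidueField y)) : ∃ U : Y.Opens, y ∈ U ∧ IsProper (f ∣_ U) := by
  have hZ : MoreMor.sectionComponents f g = Set.univ := by
    refine Set.eq_univ_of_forall fun x => ?_
    have h1 : nConn (pullback f (Y.fromSpecResidueField (f x))) ≤ 1 :=
      (nConn_le_nGeomConnComp f (Y.residueField (f x)) (Y.fromSpecResidueField (f x)) (f x) fun c =>
        Scheme.fromSpecResidueField_apply _ _).trans (hconn _)
    haveI := (ENat.card_le_one_iff_subsingleton _).mp h1
    haveI : PreconnectedSpace ↥(pullback f (Y.fromSpecResidueField (f x))) := by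
      rw [preconnectedSpace_iff_connectedComponent]
      exact fun x => Set.eq_univ_of_forall fun y => ConnectedComponents.coe_eq_coe'.mp (Subsingleton.elim _ _)
    have h2 : _root_.IsPreconnected (f.base ⁻¹' {f x}) := by
      rw [← f.range_fiberι, ← Set.image_univ]
      haveI : PreconnectedSpace ↥(f.fiber (f x)) := ‹PreconnectedSpace ↥(pullback f (Y.fromSpecResidueField (f x)))›
      exact isPreconnected_univ.image _ (f.fiberι (f x)).continuous.continuousOn
    exact h2.subset_connectedComponentIn (show f (g (f x)) = f x by rw [← Scheme.Hom.comp_apply, hg]; rfl)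
      le_rfl (show f x = f x from rfl)
  have hop : IsOpen ((f.fiberι y).base ⁻¹' MoreMor.sectionComponents f g) := by
    rw [hZ, Set.preimage_univ]; exact isOpen_univ
  have hprop : IsProper (Scheme.Opens.ι (⟨(f.fiberι y).base ⁻¹' MoreMor.sectionComponents f g, hop⟩ : (f.fiber y).Opens) ≫
      f.fiberToSpecResidueField y) := by
    have e : (⟨(f.fiberι y).base ⁻¹' MoreMor.sectionComponents f g, hop⟩ : (f.fiber y).Opens) = ⊤ :=
      TopologicalSpace.Opens.ext (by simp [hZ])
    rw [e]
    haveI : IsIso (Scheme.Opens.ι (⊤ : (f.fiber y).Opens)) := by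
      rw [← Scheme.topIso_hom]; infer_instance
    haveI := hy
    infer_instance
  obtain ⟨U, hyU, hC, hU⟩ := sectionComponents_proper_nhd f g hg y hop hprop
  refine ⟨U, hyU, ?_⟩
  let I := Scheme.IdealSheafData.vanishingIdeal (X := (f ⁻¹ᵁ U).toScheme)
    (⟨(f ⁻¹ᵁ U).ι.base ⁻¹' MoreMor.sectionComponents f g, hC⟩ : TopologicalSpace.Closeds ↥(f ⁻¹ᵁ U))
  haveI : Surjective I.subschemeι := ⟨fun v => by
    have : v ∈ Set.range I.subschemeι := by
      rw [Scheme.IdealSheafData.range_subschemeι, Scheme.IdealSheafData.coe_support_vanishingIdeal]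
      show (f ⁻¹ᵁ U).ι v ∈ MoreMor.sectionComponents f g
      rw [hZ]; trivial
    exact this⟩
  haveI : IsProper (I.subschemeι ≫ (f ∣_ U)) := hU
  haveI : UniversallyClosed (f ∣_ U) := UniversallyClosed.of_comp_surjective I.subschemeι _
  haveI : IsSeparated (f ∣_ U) := IsZariskiLocalAtTarget.restrict ‹IsSeparated f› U
  haveI : LocallyOfFiniteType (f ∣_ U) := IsZariskiLocalAtTarget.restrict (inferInstance : LocallyOfFiniteType f) U
  haveI : QuasiCompact (f ∣_ U) := IsZariskiLocalAtTarget.restrict ‹QuasiCompact f› U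
  exact {}

/-- The open set of proper fibres. -/
theorem exists_proper_open {X Y Y' : Scheme.{u}} (f : X ⟶ Y) [IsSeparated f] [LocallyOfFinitePresentation f]
    [QuasiCompact f] (g : Y' ⟶ Y) [Surjective g] [LocallyOfFinitePresentation g] [QuasiCompact g]
    (hg : IsProper g ∨ Flat g) (σ : Y' ⟶ X) (hσ : σ ≫ f = g) (hconn : ∀ y : Y, MoreMor.nGeomConnComp f y ≤ 1) :
    ∃ U : Y.Opens, (U : Set Y) = {y : Y | IsProper (f.fiberToSpecResidueField y)} ∧ IsProper (f ∣_ U) := by
  let f' := pullback.snd f g
  have sq : IsPullback (pullback.fst f g) f' f g := IsPullback.of_hasPullback f g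
  let s : Y' ⟶ pullback f g := pullback.lift σ (𝟙 _) (by rw [hσ, Category.id_comp])
  have hconn' : ∀ w, MoreMor.nGeomConnComp f' w ≤ 1 := fun w => by
    rw [nGeomConnComp_of_isPullback f sq w]; exact hconn _
  have key : ∀ w, IsProper (f.fiberToSpecResidueField (g w)) → ∃ U : Y'.Opens, w ∈ U ∧ IsProper (f' ∣_ U) := fun w hw =>
    isProper_nhd_of_section f' s (pullback.lift_snd _ _ _) hconn' w ((proper_fibre_iff sq w).mpr hw)
  have key' : ∀ (U : Y'.Opens), IsProper (f' ∣_ U) → ∀ w ∈ U, IsProper (f.fiberToSpecResidueField (g w)) := by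
    intro U hU w hwU
    have h1 : IsProper ((f' ∣_ U).fiberToSpecResidueField (⟨w, hwU⟩ : U.toScheme)) :=
      MorphismProperty.pullback_snd _ _ hU
    exact (proper_fibre_iff sq w).mp ((proper_fibre_iff (isPullback_morphismRestrict f' U).flip (⟨w, hwU⟩ : U.toScheme)).mp h1)
  let S : Set Y := {y : Y | IsProper (f.fiberToSpecResidueField y)}
  have hS' : IsOpen (g.base ⁻¹' S) := by
    rw [isOpen_iff_forall_mem_open]
    intro w hw
    obtain ⟨U, hwU, hU⟩ := key w hw
    exact ⟨U, key' U hU, U.2, hwU⟩
  have hS : IsOpen S := by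
    rcases hg with hg | hg
    · have e : S = (g.base '' (g.base ⁻¹' S)ᶜ)ᶜ := by
        rw [← Set.preimage_compl, Set.image_preimage_eq _ g.surjective, compl_compl]
      rw [e]
      exact (g.isClosedMap _ hS'.isClosed_compl).isOpen_compl
    · haveI := hg
      have e : S = g.base '' (g.base ⁻¹' S) := (Set.image_preimage_eq _ g.surjective).symm
      rw [e]
      exact g.isOpenMap _ hS'
  let U : Y.Opens := ⟨S, hS⟩
  refine ⟨U, rfl, ?_⟩
  let U' : Y'.Opens := g ⁻¹ᵁ U
  haveI hU' : IsProper (f' ∣_ U') := by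
    choose O hwO hO using fun w : ↥U' => key w.1 w.2
    refine IsZariskiLocalAtTarget.of_iSup_eq_top (P := @IsProper) (fun w => U'.ι ⁻¹ᵁ O w) ?_ fun w => ?_
    · exact TopologicalSpace.Opens.ext (Set.eq_univ_of_forall fun v =>
        TopologicalSpace.Opens.mem_iSup.mpr ⟨v, hwO v⟩)
    · refine (MorphismProperty.arrow_mk_iso_iff @IsProper
        (morphismRestrictRestrict f' U' (U'.ι ⁻¹ᵁ O w))).mpr (DVRProper.isProper_restrict_mono f' ?_ (hO w))
      rw [Scheme.Hom.image_preimage_eq_opensRange_inf, Scheme.Opens.opensRange_ι]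
      exact inf_le_right
  haveI : IsSeparated (f ∣_ U) := IsZariskiLocalAtTarget.restrict ‹IsSeparated f› U
  haveI : LocallyOfFiniteType (f ∣_ U) := IsZariskiLocalAtTarget.restrict (inferInstance : LocallyOfFiniteType f) U
  haveI : QuasiCompact (f ∣_ U) := IsZariskiLocalAtTarget.restrict ‹QuasiCompact f› U
  haveI : Surjective (g ∣_ U) := IsZariskiLocalAtTarget.restrict ‹Surjective g› U
  let q : (f' ⁻¹ᵁ U').toScheme ⟶ (f ⁻¹ᵁ U).toScheme := IsOpenImmersion.lift (f ⁻¹ᵁ U).ι
    ((f' ⁻¹ᵁ U').ι ≫ pullback.fst f g) (by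
      rw [Scheme.Opens.range_ι]
      rintro _ ⟨v, rfl⟩
      show f ((((f' ⁻¹ᵁ U').ι ≫ pullback.fst f g)) v) ∈ U
      rw [← Scheme.Hom.comp_apply, Category.assoc, pullback.condition, Scheme.Hom.comp_apply, Scheme.Hom.comp_apply]
      exact v.2)
  have hq : q ≫ (f ⁻¹ᵁ U).ι = (f' ⁻¹ᵁ U').ι ≫ pullback.fst f g := IsOpenImmersion.lift_fac _ _ _
  have hsq : IsPullback q (f' ∣_ U') (f ∣_ U) (g ∣_ U) := by
    refine IsPullback.of_right ?_ ?_ (isPullback_morphismRestrict f U).flip
    · rw [hq, morphismRestrict_ι]; exact (isPullback_morphismRestrict f' U').flip.paste_horiz sq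
    · rw [← cancel_mono U.ι, Category.assoc, Category.assoc, morphismRestrict_ι, morphismRestrict_ι, reassoc_of% hq,
        pullback.condition, ← Category.assoc, ← morphismRestrict_ι, Category.assoc]
  haveI : UniversallyClosed (f ∣_ U) := by
    rcases hg with hg | hg
    · haveI : IsProper (g ∣_ U) := IsZariskiLocalAtTarget.restrict hg U
      haveI : Surjective q := MorphismProperty.of_isPullback hsq.flip ‹Surjective (g ∣_ U)›
      haveI : UniversallyClosed (q ≫ (f ∣_ U)) := by rw [hsq.w]; infer_instance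
      exact UniversallyClosed.of_comp_surjective q _
    · haveI : Flat (g ∣_ U) := IsZariskiLocalAtTarget.restrict hg U
      haveI : LocallyOfFinitePresentation (g ∣_ U) := IsZariskiLocalAtTarget.restrict ‹LocallyOfFinitePresentation g› U
      exact MorphismProperty.of_isPullback_of_descendsAlong (Q := @Surjective ⊓ @Flat ⊓ @LocallyOfFinitePresentation)
        hsq.flip ⟨⟨inferInstance, inferInstance⟩, inferInstance⟩ hU'.toUniversallyClosed
  exact {}

end Groth.L07.Count
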