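import Groth.Agent.L07.Count.Field
import Groth.Agent.L07.Spread.Stage
import Groth.Agent.L07.Count.CompleteDVR
import Groth.Agent.L07.DVRProper
import Groth.Agent.L18.DominatingDVR
import Mathlib.FieldTheory.IntermediateField.Adjoin.Basic

/-!
The geometric connected components of a fibre appear over a finite extension, and over a discrete valuation ring.
-/

universe u

open CategoryTheory CategoryTheory.Limits AlgebraicGeometry Groth.L07.Spread IsLocalRing

namespace Groth.L07.Count

set_option autoImplicit false
set_option linter.style.haveILetI false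
set_option maxSynthPendingDepth 3
set_option backward.isDefEq.respectTransparency.types false
set_option backward.isDefEq.respectTransparency false

/-- The connected components over the algebraic closure appear over a finite extension. -/
theorem exists_finite_ext {k : Type u} [Field k] {X : Scheme.{u}} (h : X ⟶ Spec (CommRingCat.of k))
    [LocallyOfFiniteType h] [QuasiCompact h] :
    ∃ L : IntermediateField k (AlgebraicClosure k), FiniteDimensional k L ∧
      nConn (pullback h (specAlg k (AlgebraicClosure k))) ≤ nConn (pullback h (specAlg k L)) := by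
  classical
  let Ω := AlgebraicClosure k
  let P : Scheme.{u} := pullback h (specAlg k Ω)
  haveI : IsLocallyNoetherian P := LocallyOfFiniteType.isLocallyNoetherian (pullback.snd h (specAlg k Ω))
  haveI : CompactSpace P := QuasiCompact.compactSpace_of_compactSpace (pullback.snd h (specAlg k Ω))
  haveI : IsNoetherian P := ⟨⟩
  haveI : Finite (irreducibleComponents P) := TopologicalSpace.NoetherianSpace.finite_irreducibleComponents.to_subtype
  have hsurj : Function.Surjective fun T : irreducibleComponents P => ConnectedComponents.mk T.2.1.nonempty.some := by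
    intro c
    obtain ⟨z, rfl⟩ := ConnectedComponents.surjective_coe c
    refine ⟨⟨_, irreducibleComponent_mem_irreducibleComponents z⟩, ConnectedComponents.coe_eq_coe'.mpr ?_⟩
    exact isIrreducible_irreducibleComponent.isConnected.isPreconnected.subset_connectedComponent
      mem_irreducibleComponent (Set.Nonempty.some_mem _)
  haveI : Finite (ConnectedComponents P) := Finite.of_surjective _ hsurj
  let T : ConnectedComponents P → Set P := fun c => ConnectedComponents.mk ⁻¹' {c}
  have hT : ∀ c, IsClosed (T c) := fun c => by
    obtain ⟨z, rfl⟩ := ConnectedComponents.surjective_coe c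
    show IsClosed (ConnectedComponents.mk ⁻¹' {ConnectedComponents.mk z})
    rw [connectedComponents_preimage_singleton]
    exact isClosed_connectedComponent
  obtain ⟨A', ⟨s, hs⟩, hstage⟩ := exists_stage_closed h Ω T hT
  let L : IntermediateField k Ω := IntermediateField.adjoin k (s : Set Ω)
  have hle : A' ≤ L.toSubalgebra := hs ▸ Algebra.adjoin_le (IntermediateField.subset_adjoin k (s : Set Ω))
  let r : pullback h (specAlg k L) ⟶ pullback h (specAlg k A') := bcTo h (Subalgebra.inclusion hle)
  let q : P ⟶ pullback h (specAlg k L) := bcTo h L.val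
  have hrq : q ≫ r = bcTo h A'.val := by
    apply pullback.hom_ext
    · simp [q, r]
    · simp [q, r, bcTo_snd_assoc]
      rw [← Spec.map_comp, ← CommRingCat.ofHom_comp]
      rfl
  haveI : Surjective (Spec.map (CommRingCat.ofHom L.val.toRingHom)) := ⟨fun c =>
    ⟨(⟨⊥, Ideal.isPrime_bot⟩ : PrimeSpectrum Ω), Subsingleton.elim (α := PrimeSpectrum L) _ _⟩⟩
  let C : ConnectedComponents P → Set (pullback h (specAlg k L) : Scheme.{u}) := fun c => closure (q '' T c)
  have hpre : ∀ c z, q z ∈ C c → z ∈ T c := fun c z hz => hstage c (by
    show bcTo h A'.val z ∈ closure (bcTo h A'.val '' T c)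
    rw [← hrq]
    have := image_closure_subset_closure_image r.continuous ⟨_, hz, rfl⟩
    rw [← Set.image_comp] at this
    exact this)
  have hq : Function.Surjective q := by
    intro w
    have hsq : IsPullback q (pullback.snd h (specAlg k Ω)) (pullback.snd h (specAlg k L))
        (Spec.map (CommRingCat.ofHom L.val.toRingHom)) := by
      refine IsPullback.of_right ?_ (bcTo_snd h L.val) (IsPullback.of_hasPullback h (specAlg k L))
      rw [bcTo_fst, ← Spec.map_comp, ← CommRingCat.ofHom_comp,
        show L.val.toRingHom.comp (algebraMap k L) = algebraMap k Ω from L.val.comp_algebraMap]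
      exact IsPullback.of_hasPullback h (specAlg k Ω)
    haveI : Surjective q := MorphismProperty.of_isPullback (P := @Surjective) hsq.flip inferInstance
    exact q.surjective w
  haveI : Fintype (ConnectedComponents P) := Fintype.ofFinite _
  have hcl : ∀ c, IsClopen (C c) := fun c => by
    refine ⟨isClosed_closure, ?_⟩
    have e : (C c)ᶜ = ⋃ d ∈ {d | d ≠ c}, C d := by
      ext w
      obtain ⟨z, rfl⟩ := hq w
      simp only [Set.mem_compl_iff, Set.mem_iUnion, Set.mem_ofPred_eq, exists_prop]
      constructor
      · intro hn
        exact ⟨ConnectedComponents.mk z, fun e => hn (e ▸ subset_closure ⟨z, rfl, rfl⟩), subset_closure ⟨z, rfl, rfl⟩⟩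
      · rintro ⟨d, hd, hzd⟩ hzc
        exact hd ((show ConnectedComponents.mk z = d from hpre d z hzd).symm.trans (hpre c z hzc))
    rw [← isClosed_compl_iff, e]
    exact (Set.toFinite _).isClosed_biUnion fun d _ => isClosed_closure
  refine ⟨L, IntermediateField.finiteDimensional_adjoin fun x _ => (Algebra.IsAlgebraic.isAlgebraic x).isIntegral, ?_⟩
  refine ENat.card_le_card_of_injective (f := q.continuous.connectedComponentsMap) ?_
  intro a b hab
  obtain ⟨z, rfl⟩ := ConnectedComponents.surjective_coe a
  obtain ⟨w, rfl⟩ := ConnectedComponents.surjective_coe b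
  have hw : q w ∈ C (ConnectedComponents.mk z) := by
    refine (hcl _).connectedComponent_subset (subset_closure ⟨z, rfl, rfl⟩) ?_
    rw [ConnectedComponents.coe_eq_coe.mp hab]
    exact mem_connectedComponent
  exact ((show ConnectedComponents.mk w = ConnectedComponents.mk z from hpre _ _ hw)).symm

/-- A discrete valuation ring with algebraically closed residue field realizing a specialization and all the
geometric connected components of the general fibre. -/
theorem exists_dvr_split {X Y : Scheme.{u}} [IsLocallyNoetherian Y] (f : X ⟶ Y) [LocallyOfFiniteType f]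
    [QuasiCompact f] {y' y : Y} (hy : y' ⤳ y) (hne : y' ≠ y) :
    ∃ (B : Type u) (_ : CommRing B) (_ : IsDomain B) (_ : IsDiscreteValuationRing B)
      (t : Spec (CommRingCat.of B) ⟶ Y),
      IsAlgClosed (ResidueField B) ∧ t (closedPoint B) = y ∧
      (∀ η : Spec (CommRingCat.of B), (show PrimeSpectrum B from η).asIdeal = ⊥ → t η = y') ∧
      MoreMor.nGeomConnComp f y' = nConn (pullback (pullback.snd f t) (specAlg B (FractionRing B))) := by
  haveI : LocallyOfFiniteType (f.fiberToSpecResidueField y') :=
    inferInstanceAs (LocallyOfFiniteType (pullback.snd f (Y.fromSpecResidueField y')))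
  haveI : QuasiCompact (f.fiberToSpecResidueField y') :=
    inferInstanceAs (QuasiCompact (pullback.snd f (Y.fromSpecResidueField y')))
  obtain ⟨L, hLfin, hLn⟩ := exists_finite_ext (k := ↑(Y.residueField y')) (f.fiberToSpecResidueField y')
  obtain ⟨W₀, t₀, hW₀, ht₀c, ht₀g⟩ := Groth.L07.DVRProper.exists_dvr_through' hy hne
  let k := ↑(Y.residueField y')
  let φ₀ : W₀ →+* L := (algebraMap k L).comp W₀.subtype
  letI : Algebra W₀ L := φ₀.toAlgebra
  have hsub : ∀ x : k, algebraMap k L x ∈ Subfield.closure (Set.range (algebraMap W₀ L)) := fun x => by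
    rcases W₀.mem_or_inv_mem x with hx | hx
    · exact Subfield.subset_closure ⟨⟨x, hx⟩, rfl⟩
    · have := inv_mem (Subfield.subset_closure (show algebraMap k L x⁻¹ ∈ Set.range (algebraMap W₀ L) from ⟨⟨x⁻¹, hx⟩, rfl⟩))
      rwa [map_inv₀, inv_inv] at this
  let b := Module.Free.chooseBasis k L
  have hgen : Subfield.closure (Set.range (algebraMap W₀ L) ∪ Set.range b) = ⊤ := by
    refine eq_top_iff.mpr fun z _ => ?_
    rw [← b.sum_repr z]
    refine Subfield.sum_mem _ fun i _ => ?_
    rw [Algebra.smul_def]
    exact mul_mem (Subfield.closure_mono Set.subset_union_left (hsub _)) (Subfield.subset_closure (Or.inr ⟨i, rfl⟩))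
  have hinj₀ : Function.Injective (algebraMap W₀ L) := (algebraMap k L).injective.comp Subtype.val_injective
  obtain ⟨W, hW, hmem, hval⟩ := Groth.L18.exists_isDiscreteValuationRing_dominating (A := W₀) (Set.finite_range b) hgen
    (by rw [(RingHom.injective_iff_ker_eq_bot _).mp hinj₀]; exact (IsDiscreteValuationRing.not_a_field W₀).symm)
  let φ : W₀ →+* W := (algebraMap W₀ L).codRestrict W.toSubring hmem
  haveI hφl : IsLocalHom φ := ⟨fun a ha => by
    by_contra hna
    have h1 := hval a ((mem_maximalIdeal a).mpr hna)
    rw [← W.valuation_lt_one_iff ⟨_, hmem a⟩] at h1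
    exact h1 ha⟩
  obtain ⟨B, _, _, _, ψ, hψ, hψl, -, hBk⟩ := exists_complete_over W
  haveI := hψl
  let ι : L →+* FractionRing B := IsFractionRing.lift (A := W) (g := (algebraMap B (FractionRing B)).comp ψ)
    ((IsFractionRing.injective B (FractionRing B)).comp hψ)
  let t : Spec (CommRingCat.of B) ⟶ Y := Spec.map (CommRingCat.ofHom (ψ.comp φ)) ≫ t₀
  letI : Algebra k (FractionRing B) := (ι.comp (algebraMap k L)).toAlgebra
  letI : Algebra L (FractionRing B) := ι.toAlgebra
  haveI : IsScalarTower k L (FractionRing B) := IsScalarTower.of_algebraMap_eq fun _ => rfl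
  have hgen' : Spec.map (CommRingCat.ofHom (algebraMap k (FractionRing B))) ≫ Y.fromSpecResidueField y' =
      specAlg B (FractionRing B) ≫ t := by
    rw [← ht₀g, ← Category.assoc, ← Spec.map_comp, ← Category.assoc, ← Spec.map_comp]
    refine congrArg (fun m => Spec.map m ≫ t₀) (CommRingCat.hom_ext (RingHom.ext fun a => ?_))
    show ι (algebraMap k L (a : k)) = algebraMap B (FractionRing B) (ψ (φ a))
    rw [show algebraMap k L (a : k) = algebraMap W L (φ a) from rfl, IsFractionRing.lift_algebraMap]
    rfl
  refine ⟨B, inferInstance, inferInstance, inferInstance, t, hBk, ?_, ?_, ?_⟩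
  · rw [Scheme.Hom.comp_apply, ← ht₀c]
    haveI : IsLocalHom (ψ.comp φ) := RingHom.isLocalHom_comp ψ φ
    exact congrArg t₀.base (comap_closedPoint (ψ.comp φ))
  · intro η hη
    have e : η = specAlg B (FractionRing B) (⟨⊥, Ideal.isPrime_bot⟩ : PrimeSpectrum (FractionRing B)) :=
      PrimeSpectrum.ext (hη.trans ((specAlg_apply (FractionRing B) _).trans
        ((RingHom.injective_iff_ker_eq_bot _).mp (IsFractionRing.injective B (FractionRing B)))).symm)
    rw [e, ← Scheme.Hom.comp_apply, ← hgen', Scheme.Hom.comp_apply]
    exact Scheme.fromSpecResidueField_apply _ _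
  · have e : nConn (pullback (pullback.snd f t) (specAlg B (FractionRing B))) =
        nConn (pullback f (specAlg B (FractionRing B) ≫ t)) := nConn_congr (pullbackLeftPullbackSndIso f t _)
    obtain ⟨i⟩ := nonempty_iso_bc f (y := y') (FractionRing B) (specAlg B (FractionRing B) ≫ t) hgen'
    rw [e]
    refine le_antisymm ?_ (nConn_le_nGeomConnComp f _ _ y' fun c => ?_)
    · rw [nConn_congr i]
      refine le_trans (le_trans ?_ hLn) (nConn_bc_le (k := k) (f.fiberToSpecResidueField y') L (FractionRing B))
      refine le_of_eq ?_
      let Ω := AlgebraicClosure k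
      obtain ⟨j⟩ := nonempty_iso_bc f (y := y') Ω
        (Spec.map (CommRingCat.ofHom (algebraMap k Ω)) ≫ Y.fromSpecResidueField y') rfl
      rw [nGeomConnComp_eq f Ω (Spec.map (CommRingCat.ofHom (algebraMap k Ω)) ≫ Y.fromSpecResidueField y') y'
        (fun c => by rw [Scheme.Hom.comp_apply]; exact Scheme.fromSpecResidueField_apply _ _), nConn_congr j]
      rfl
    · rw [← hgen', Scheme.Hom.comp_apply]
      exact Scheme.fromSpecResidueField_apply _ _

end Groth.L07.Count
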