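import Mathlib.Topology.Connected.TotallyDisconnected
import Mathlib.Topology.Irreducible
import Mathlib.SetTheory.Cardinal.Finite
import Mathlib.Data.Set.Card
import Mathlib.Logic.Relation

/-!
Counting irreducible and connected components from a finite closed cover.
-/

namespace Groth.L07.Count

open Set

set_option autoImplicit false

variable {P : Type*} [TopologicalSpace P] {ι : Type*}

/-- Two members of a family meet. -/
def Meets (T : ι → Set P) (i j : ι) : Prop := (T i ∩ T j).Nonempty

theorem eq_of_nonempty (T : ι → Set P) (hc : ∀ i, IsPreconnected (T i)) {i j : ι}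
    (h : Relation.EqvGen (Meets T) i j) (hne : ∀ k, (T k).Nonempty) :
    connectedComponent (hne i).some = connectedComponent (hne j).some := by
  induction h with
  | rel a b hab =>
    obtain ⟨z, hza, hzb⟩ := hab
    exact (connectedComponent_eq ((hc a).subset_connectedComponent (hne a).some_mem hza)).trans
      (connectedComponent_eq ((hc b).subset_connectedComponent (hne b).some_mem hzb)).symm
  | refl a => rfl
  | symm a b _ ih => exact ih.symm
  | trans a b c _ _ ih₁ ih₂ => exact ih₁.trans ih₂

/-- The connected components of a space with a finite closed cover by connected sets are the classes of the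
relation generated by meeting. -/
theorem card_connectedComponents [Finite ι] (T : ι → Set P) (hT : ∀ i, IsClosed (T i)) (hc : ∀ i, IsPreconnected (T i))
    (hne : ∀ i, (T i).Nonempty) (hcov : ∀ z, ∃ i, z ∈ T i) :
    ENat.card (ConnectedComponents P) = ENat.card (Quot (Meets T)) := by
  classical
  let φ : Quot (Meets T) → ConnectedComponents P := Quot.lift (fun i => ConnectedComponents.mk (hne i).some)
    fun i j hij => ConnectedComponents.coe_eq_coe.mpr (eq_of_nonempty T hc (.rel i j hij) hne)
  refine ENat.card_congr (Equiv.ofBijective φ ⟨?_, ?_⟩).symm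
  · rintro ⟨i⟩ ⟨j⟩ hij
    refine Quot.eqvGen_sound ?_
    let C : Set P := ⋃ k ∈ {k | Relation.EqvGen (Meets T) i k}, T k
    have hCcl : IsClosed C := (Set.toFinite _).isClosed_biUnion fun k _ => hT k
    have hCc : Cᶜ = ⋃ k ∈ {k | ¬ Relation.EqvGen (Meets T) i k}, T k := by
      ext z
      simp only [C, mem_compl_iff, mem_iUnion, mem_ofPred_eq, exists_prop, not_exists, not_and]
      constructor
      · intro h
        obtain ⟨k, hk⟩ := hcov z
        exact ⟨k, fun hik => h k hik hk, hk⟩
      · rintro ⟨k, hk, hzk⟩ l hl hzl
        exact hk (hl.trans i l k (.rel l k ⟨z, hzl, hzk⟩))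
    have hCop : IsOpen C := by
      rw [← isClosed_compl_iff, hCc]
      exact (Set.toFinite _).isClosed_biUnion fun k _ => hT k
    have hiC : (hne i).some ∈ C := mem_biUnion (Relation.EqvGen.refl i) (hne i).some_mem
    have hjC : (hne j).some ∈ C := by
      refine IsClopen.connectedComponent_subset ⟨hCcl, hCop⟩ hiC ?_
      rw [ConnectedComponents.coe_eq_coe.mp hij]
      exact mem_connectedComponent
    obtain ⟨k, hk, hjk⟩ := mem_iUnion₂.mp hjC
    exact hk.trans i k j (.rel k j ⟨_, hjk, (hne j).some_mem⟩)
  · intro c
    obtain ⟨z, rfl⟩ := ConnectedComponents.surjective_coe c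
    obtain ⟨i, hi⟩ := hcov z
    exact ⟨Quot.mk _ i, ConnectedComponents.coe_eq_coe.mpr
      (connectedComponent_eq ((hc i).subset_connectedComponent (hne i).some_mem hi))⟩

/-- The irreducible components of a space with an irredundant finite closed cover by irreducible sets. -/
theorem encard_irreducibleComponents [Finite ι] (T : ι → Set P) (hT : ∀ i, IsClosed (T i))
    (hi : ∀ i, IsIrreducible (T i)) (hcov : ∀ z, ∃ i, z ∈ T i) (hown : ∀ i, ∃ z ∈ T i, ∀ k ≠ i, z ∉ T k) :
    (irreducibleComponents P).encard = ENat.card ι := by
  classical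
  have hinj : Function.Injective T := fun i j hij => by
    by_contra hne
    obtain ⟨z, hz, hzk⟩ := hown i
    exact hzk j (Ne.symm hne) (hij ▸ hz)
  have key : ∀ S : Set P, IsIrreducible S → ∃ i, S ⊆ T i := fun S hS => by
    cases nonempty_fintype ι
    obtain ⟨t, ht, hSt⟩ := isIrreducible_iff_sUnion_isClosed.mp hS (Finset.univ.image T)
      (fun z hz => by obtain ⟨i, -, rfl⟩ := Finset.mem_image.mp hz; exact hT i)
      (fun z _ => by
        obtain ⟨i, hzi⟩ := hcov z
        exact mem_sUnion.mpr ⟨T i, Finset.mem_coe.mpr (Finset.mem_image.mpr ⟨i, Finset.mem_univ i, rfl⟩), hzi⟩)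
    obtain ⟨i, -, rfl⟩ := Finset.mem_image.mp ht
    exact ⟨i, hSt⟩
  have e : irreducibleComponents P = range T := by
    ext S
    constructor
    · intro hS
      obtain ⟨i, hSi⟩ := key S hS.1
      exact ⟨i, (hS.2 (hi i) hSi).antisymm hSi⟩
    · rintro ⟨i, rfl⟩
      refine ⟨hi i, fun S hS hle => ?_⟩
      obtain ⟨j, hSj⟩ := key S hS
      obtain ⟨z, hz, hzk⟩ := hown i
      have hij : j = i := by_contra fun hne => hzk j hne (hSj (hle hz))
      exact hij ▸ hSj
  rw [e, ← image_univ, hinj.injOn.encard_image, encard_univ]

/-- Connected components are insensitive to homeomorphism. -/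
theorem card_connectedComponents_congr {Q : Type*} [TopologicalSpace Q] (e : P ≃ₜ Q) :
    ENat.card (ConnectedComponents P) = ENat.card (ConnectedComponents Q) := by
  refine ENat.card_congr
    { toFun := e.continuous.connectedComponentsMap
      invFun := e.symm.continuous.connectedComponentsMap
      left_inv := fun c => ?_
      right_inv := fun c => ?_ }
  · obtain ⟨z, rfl⟩ := ConnectedComponents.surjective_coe c
    show ConnectedComponents.mk (e.symm (e z)) = _
    rw [e.symm_apply_apply]
  · obtain ⟨z, rfl⟩ := ConnectedComponents.surjective_coe c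
    show ConnectedComponents.mk (e (e.symm z)) = _
    rw [e.apply_symm_apply]

end Groth.L07.Count
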