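import Groth.Agent.L07.Count.Field
import Groth.Agent.L07.Spread.SchemeIrred
import Groth.Agent.L07.ValDim
import Groth.Agent.L07.UnivOpenAt
import Groth.Agent.L26.Misc.ResidueLift
import Mathlib.AlgebraicGeometry.AlgClosed.Basic
import Mathlib.AlgebraicGeometry.Morphisms.QuasiFinite
import Mathlib.AlgebraicGeometry.Morphisms.Separated
import Mathlib.FieldTheory.IsAlgClosed.AlgebraicClosure

/-!
The points of the geometric fibres of a separated quasi-finite morphism over a valuation ring with
algebraically closed fraction field (EGA IV 15.5.1).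
-/

universe u

open CategoryTheory CategoryTheory.Limits AlgebraicGeometry Groth.L07.Spread

namespace Groth.L07.Count

set_option autoImplicit false
set_option linter.style.haveILetI false
set_option maxSynthPendingDepth 3
set_option backward.isDefEq.respectTransparency.types false
set_option backward.isDefEq.respectTransparency false

variable {X Y : Scheme.{u}} (f : X ⟶ Y)

/-- The lifts of a field valued point. -/
abbrev Lifts {K : Type u} [Field K] (g : Spec (CommRingCat.of K) ⟶ Y) : Type u :=
  {s : Spec (CommRingCat.of K) ⟶ X // s ≫ f = g}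

/-- Lifts are the sections of the fibre. -/
noncomputable def liftsEquiv {K : Type u} [Field K] (g : Spec (CommRingCat.of K) ⟶ Y) :
    Lifts f g ≃ {p : Spec (CommRingCat.of K) ⟶ pullback f g // p ≫ pullback.snd f g = 𝟙 _} where
  toFun s := ⟨pullback.lift s.1 (𝟙 _) (by rw [s.2, Category.id_comp]), pullback.lift_snd _ _ _⟩
  invFun p := ⟨p.1 ≫ pullback.fst f g, by rw [Category.assoc, pullback.condition, reassoc_of% p.2]⟩
  left_inv s := Subtype.ext (pullback.lift_fst _ _ _)
  right_inv p := by
    refine Subtype.ext (pullback.hom_ext ?_ ?_)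
    · rw [pullback.lift_fst]
    · rw [pullback.lift_snd, p.2]

theorem discreteTopology_pullback [LocallyQuasiFinite f] {K : Type u} [Field K]
    (g : Spec (CommRingCat.of K) ⟶ Y) : DiscreteTopology (pullback f g : Scheme.{u}) := by
  have h := (pullback.snd f g).isDiscrete_preimage_singleton (IsLocalRing.closedPoint K)
  rw [show (pullback.snd f g) ⁻¹' {IsLocalRing.closedPoint K} = Set.univ from
    Set.eq_univ_of_forall fun _ => Subsingleton.elim (α := PrimeSpectrum K) _ _] at h
  exact isDiscrete_univ_iff.mp h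

theorem finite_pullback [LocallyQuasiFinite f] [QuasiCompact f] {K : Type u} [Field K]
    (g : Spec (CommRingCat.of K) ⟶ Y) : Finite (pullback f g : Scheme.{u}) := by
  haveI := discreteTopology_pullback f g
  haveI : CompactSpace (pullback f g : Scheme.{u}) := QuasiCompact.compactSpace_of_compactSpace (pullback.snd f g)
  exact finite_of_compact_of_discrete

/-- Over an algebraically closed field the lifts are the points of the fibre. -/
noncomputable def liftsEquivPoints [LocallyQuasiFinite f] [LocallyOfFiniteType f] {K : Type u} [Field K]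
    [IsAlgClosed K] (g : Spec (CommRingCat.of K) ⟶ Y) : Lifts f g ≃ (pullback f g : Scheme.{u}) :=
  (liftsEquiv f g).trans ((pointEquivClosedPoint (pullback.snd f g)).trans
    ((Equiv.setCongr (Set.eq_univ_of_forall fun x => by
      haveI := discreteTopology_pullback f g
      exact isClosed_discrete _)).trans (Equiv.Set.univ _)))

theorem finite_lifts [LocallyQuasiFinite f] [LocallyOfFiniteType f] [QuasiCompact f] {K : Type u} [Field K]
    [IsAlgClosed K] (g : Spec (CommRingCat.of K) ⟶ Y) : Finite (Lifts f g) :=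
  haveI := finite_pullback f g
  Finite.of_equiv _ (liftsEquivPoints f g).symm

/-- For a quasi-finite morphism the geometric number of connected components is the number of lifts of a
geometric point. -/
theorem nGeomConnComp_eq_card_lifts [LocallyQuasiFinite f] [LocallyOfFiniteType f] {K : Type u} [Field K]
    [IsAlgClosed K] (g : Spec (CommRingCat.of K) ⟶ Y) (y : Y) (hg : ∀ c, g c = y) :
    MoreMor.nGeomConnComp f y = ENat.card (Lifts f g) := by
  haveI := discreteTopology_pullback f g
  rw [nGeomConnComp_eq f K g y hg, nConn, ENat.card_congr (liftsEquivPoints f g)]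
  refine ENat.card_congr (Equiv.ofBijective ConnectedComponents.mk ⟨fun a b hab => ?_,
    ConnectedComponents.surjective_coe⟩).symm
  have h := ConnectedComponents.coe_eq_coe'.mp hab
  rwa [connectedComponent_eq_singleton, Set.mem_singleton_iff] at h

/-- A point over a closed point of the base has at most one lift. -/
theorem lifts_ext [LocallyOfFiniteType f] {K : Type u} [Field K] [IsAlgClosed K]
    (g : Spec (CommRingCat.of K) ⟶ Y) [IsPreimmersion g] (s s' : Lifts f g)
    (h : s.1 (IsLocalRing.closedPoint K) = s'.1 (IsLocalRing.closedPoint K)) : s = s' := by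
  refine (liftsEquiv f g).injective (Subtype.ext (ext_of_apply_closedPoint_eq (pullback.snd f g)
    ((liftsEquiv f g) s).2 ((liftsEquiv f g) s').2 ?_))
  refine (pullback.fst f g).isEmbedding.injective ?_
  rw [← Scheme.Hom.comp_apply, ← Scheme.Hom.comp_apply]
  show (pullback.lift _ _ _ ≫ pullback.fst f g) _ = (pullback.lift _ _ _ ≫ pullback.fst f g) _
  rw [pullback.lift_fst, pullback.lift_fst]
  exact h

/-- Over a valuation ring a point of the fraction field and a specialization of it over the closed point come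
from a section. -/
theorem exists_section_of_specializes {V K : Type u} [CommRing V] [IsDomain V] [ValuationRing V] [Field K]
    [Algebra V K] [IsFractionRing V K] {T : Scheme.{u}} (h : T ⟶ Spec (CommRingCat.of V))
    (z : Spec (CommRingCat.of K) ⟶ T) (hz : z ≫ h = specAlg V K) (x : T)
    (hx : z (IsLocalRing.closedPoint K) ⤳ x) (hxc : h x = IsLocalRing.closedPoint V) :
    ∃ σ : Spec (CommRingCat.of V) ⟶ T, σ ≫ h = 𝟙 _ ∧ σ (IsLocalRing.closedPoint V) = x := by
  classical
  obtain ⟨W, hW, hxW, -⟩ := exists_isAffineOpen_mem_and_subset (X := T) (x := x) (U := ⊤) trivial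
  have hrange : Set.range z ⊆ Set.range hW.fromSpec := by
    rintro _ ⟨c, rfl⟩
    rw [hW.range_fromSpec, Subsingleton.elim (α := PrimeSpectrum K) c (IsLocalRing.closedPoint K)]
    exact hx.mem_open W.isOpen hxW
  obtain ⟨ψ, hψ⟩ := Spec.map_surjective (IsOpenImmersion.lift hW.fromSpec z hrange)
  have hψz : Spec.map ψ ≫ hW.fromSpec = z := by rw [hψ, IsOpenImmersion.lift_fac]
  obtain ⟨φ, hφ⟩ := Spec.map_surjective (hW.fromSpec ≫ h)
  have hφψ : φ ≫ ψ = CommRingCat.ofHom (algebraMap V K) := Spec.map_injective (by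
    rw [Spec.map_comp, hφ, reassoc_of% hψz, hz])
  have hψφ : ∀ v : V, ψ.hom (φ.hom v) = algebraMap V K v := fun v => congr(($hφψ).hom v)
  obtain ⟨P, hP⟩ : x ∈ Set.range hW.fromSpec := by rw [hW.range_fromSpec]; exact hxW
  have hPm : Spec.map φ P = IsLocalRing.closedPoint V := by
    rw [← hxc, ← hP, ← Scheme.Hom.comp_apply, hφ]
  have hmem : ∀ v : V, φ.hom v ∈ P.asIdeal ↔ v ∈ IsLocalRing.maximalIdeal V := fun v =>
    SetLike.ext_iff.mp (congrArg PrimeSpectrum.asIdeal hPm) v
  have hker : ∀ s, ψ.hom s = 0 → s ∈ P.asIdeal := fun s hs => by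
    have hsp : Spec.map ψ (IsLocalRing.closedPoint K) ⤳ P := by
      rw [← hW.fromSpec.isOpenEmbedding.isInducing.specializes_iff, hP, ← Scheme.Hom.comp_apply, hψz]
      exact hx
    refine (PrimeSpectrum.le_iff_specializes _ _).mpr hsp (show ψ.hom s ∈ IsLocalRing.maximalIdeal K from ?_)
    rw [hs]
    exact zero_mem _
  have key : ∀ s, ∃ v : V, algebraMap V K v = ψ.hom s := fun s => by
    by_cases h0 : ψ.hom s = 0
    · exact ⟨0, by rw [h0, map_zero]⟩
    rcases ValuationRing.isInteger_or_isInteger V (ψ.hom s) with ⟨v, hv⟩ | ⟨v, hv⟩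
    · exact ⟨v, hv⟩
    · by_cases hu : IsUnit v
      · obtain ⟨w, rfl⟩ := hu
        refine ⟨↑w⁻¹, ?_⟩
        rw [map_units_inv, show algebraMap V K ↑w = (ψ.hom s)⁻¹ from hv, inv_inv]
      · exfalso
        have h1 : φ.hom v * s - 1 ∈ P.asIdeal := hker _ (by
          rw [map_sub, map_mul, hψφ, map_one, show algebraMap V K v = (ψ.hom s)⁻¹ from hv, inv_mul_cancel₀ h0, sub_self])
        have h2 : φ.hom v * s ∈ P.asIdeal :=
          Ideal.mul_mem_right _ _ ((hmem v).mpr ((IsLocalRing.mem_maximalIdeal v).mpr hu))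
        exact P.isPrime.ne_top ((Ideal.eq_top_iff_one _).mpr (by simpa using Ideal.sub_mem _ h2 h1))
  choose χ hχ using key
  have hinj : Function.Injective (algebraMap V K) := IsFractionRing.injective V K
  let χ' : Γ(T, W) →+* V :=
    { toFun := χ
      map_one' := hinj (by rw [hχ, map_one, map_one])
      map_mul' := fun a b => hinj (by rw [hχ, map_mul, map_mul, hχ, hχ])
      map_zero' := hinj (by rw [hχ, map_zero, map_zero])
      map_add' := fun a b => hinj (by rw [hχ, map_add, map_add, hχ, hχ]) }
  refine ⟨Spec.map (CommRingCat.ofHom χ') ≫ hW.fromSpec, ?_, ?_⟩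
  · rw [Category.assoc, ← hφ, ← Spec.map_comp, ← Spec.map_id]
    exact congrArg Spec.map (CommRingCat.hom_ext (RingHom.ext fun v => hinj (by
      show algebraMap V K (χ (φ.hom v)) = algebraMap V K v
      rw [hχ, hψφ])))
  · rw [Scheme.Hom.comp_apply, ← hP]
    refine congrArg hW.fromSpec.base (PrimeSpectrum.ext (SetLike.ext fun s => ?_))
    show χ s ∈ IsLocalRing.maximalIdeal V ↔ s ∈ P.asIdeal
    have h1 : s - φ.hom (χ s) ∈ P.asIdeal := hker _ (by rw [map_sub, hψφ, hχ, sub_self])
    rw [← hmem]
    exact ⟨fun h2 => by simpa using P.asIdeal.add_mem h1 h2, fun h2 => by simpa using P.asIdeal.sub_mem h2 h1⟩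

/-- A generization of a point is realized by a valuation ring with algebraically closed fraction field. -/
theorem exists_valuation {Ω : Type u} [Field Ω] (g : Spec (CommRingCat.of Ω) ⟶ Y) {y' y : Y}
    (hg : ∀ c, g c = y') (hy : y' ⤳ y) :
    ∃ (A : ValuationSubring Ω) (t : Spec (CommRingCat.of A) ⟶ Y),
      t (IsLocalRing.closedPoint A) = y ∧ specAlg A Ω ≫ t = g := by
  obtain ⟨ψ, rfl⟩ := exists_residueField_factor Ω g y' hg
  obtain ⟨A, hA, hAloc⟩ := IsLocalRing.exists_factor_valuationRing
    (Y.presheaf.stalkSpecializes hy ≫ Y.residue y' ≫ ψ).hom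
  let sA : Y.presheaf.stalk y ⟶ CommRingCat.of A :=
    CommRingCat.ofHom ((Y.presheaf.stalkSpecializes hy ≫ Y.residue y' ≫ ψ).hom.codRestrict _ hA)
  refine ⟨A, Spec.map sA ≫ Y.fromSpecStalk y, ?_, ?_⟩
  · rw [Scheme.Hom.comp_apply]
    haveI : IsLocalHom sA.hom := hAloc
    rw [show Spec.map sA (IsLocalRing.closedPoint A) = IsLocalRing.closedPoint (Y.presheaf.stalk y) from
      IsLocalRing.comap_closedPoint sA.hom]
    exact Y.fromSpecStalk_closedPoint
  · rw [← Spec.map_comp_assoc, Scheme.fromSpecResidueField,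
      ← Scheme.SpecMap_stalkSpecializes_fromSpecStalk hy, ← Spec.map_comp_assoc, ← Spec.map_comp_assoc]
    rfl

section Sec

variable {Ω : Type u} [Field Ω] (A : ValuationSubring Ω) (t : Spec (CommRingCat.of A) ⟶ Y)

/-- The lifts of a point with values in a valuation ring. -/
abbrev SecLifts : Type u := {σ : Spec (CommRingCat.of A) ⟶ X // σ ≫ f = t}

/-- The restriction of a lift to the generic point. -/
noncomputable def resGen (σ : SecLifts f A t) : Lifts f (specAlg A Ω ≫ t) :=
  ⟨specAlg A Ω ≫ σ.1, by rw [Category.assoc, σ.2]⟩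

/-- The closed point of a valuation ring. -/
noncomputable abbrev clPt : Spec (CommRingCat.of (IsLocalRing.ResidueField A)) ⟶ Spec (CommRingCat.of A) :=
  Spec.map (CommRingCat.ofHom (IsLocalRing.residue A))

theorem clPt_apply (c : Spec (CommRingCat.of (IsLocalRing.ResidueField A))) :
    clPt A c = IsLocalRing.closedPoint A := by
  rw [Subsingleton.elim (α := PrimeSpectrum (IsLocalRing.ResidueField A)) c (IsLocalRing.closedPoint _)]
  exact IsLocalRing.comap_closedPoint (IsLocalRing.residue A)

/-- The restriction of a lift to the closed point. -/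
noncomputable def resCl (σ : SecLifts f A t) : Lifts f (clPt A ≫ t) :=
  ⟨clPt A ≫ σ.1, by rw [Category.assoc, σ.2]⟩

theorem isDominant_specAlg : IsDominant (specAlg A Ω) := by
  refine ⟨?_⟩
  show DenseRange (PrimeSpectrum.comap (algebraMap A Ω))
  rw [PrimeSpectrum.denseRange_comap_iff_ker_le_nilRadical,
    (RingHom.injective_iff_ker_eq_bot _).mp (IsFractionRing.injective A Ω)]
  exact bot_le

theorem resGen_injective [IsSeparated f] : Function.Injective (resGen f A t) := fun σ τ h => by
  haveI := isDominant_specAlg A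
  haveI : IsReduced (Spec (CommRingCat.of A)) := inferInstance
  exact Subtype.ext (ext_of_isDominant_of_isSeparated f (σ.2.trans τ.2.symm) (specAlg A Ω) (congrArg Subtype.val h))

theorem resCl_surjective [LocallyQuasiFinite f] [LocallyOfFiniteType f] [IsAlgClosed Ω]
    (hopen : ∀ x, f x = t (IsLocalRing.closedPoint A) → EGA43.IsUnivOpenAt f x) :
    Function.Surjective (resCl f A t) := by
  intro s
  haveI : IsAlgClosed (IsLocalRing.ResidueField A) := Groth.Agent.L26.ResidueLift.isAlgClosed_residue A
  let k := IsLocalRing.ResidueField A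
  let T := pullback f t
  let h : T ⟶ Spec (CommRingCat.of A) := pullback.snd f t
  let s' : Spec (CommRingCat.of k) ⟶ T := pullback.lift s.1 (clPt A) (by rw [s.2])
  let xT : T := s' (IsLocalRing.closedPoint k)
  have hxT : h xT = IsLocalRing.closedPoint A := by
    rw [← Scheme.Hom.comp_apply, pullback.lift_snd]
    exact clPt_apply A _
  have hfx : f (pullback.fst f t xT) = t (IsLocalRing.closedPoint A) := by
    rw [← Scheme.Hom.comp_apply, pullback.condition, Scheme.Hom.comp_apply]
    exact congrArg t.base hxT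
  obtain ⟨ζ, hζ, hζη⟩ := Groth.L07.ValDim.exists_generization h xT
    (Groth.L07.UnivOpenAt.of_isPullback (IsPullback.of_hasPullback f t) (hopen _ hfx) xT rfl)
    (⟨⊥, Ideal.isPrime_bot⟩ : PrimeSpectrum A) rfl
  obtain ⟨p, hp⟩ := exists_fst_eq h Ω ζ (by
    rw [hζη]
    exact ((RingHom.injective_iff_ker_eq_bot _).mp (IsFractionRing.injective A Ω)).symm)
  haveI := discreteTopology_pullback h (specAlg A Ω)
  let z : Spec (CommRingCat.of Ω) ⟶ T :=
    pointOfClosedPoint (pullback.snd h (specAlg A Ω)) p (isClosed_discrete _) ≫ pullback.fst h (specAlg A Ω)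
  obtain ⟨σ, hσ, hσx⟩ := exists_section_of_specializes h z
    (by rw [Category.assoc, pullback.condition, pointOfClosedPoint_comp_assoc]) xT
    (by rw [Scheme.Hom.comp_apply, pointOfClosedPoint_apply, hp]; exact hζ) hxT
  refine ⟨⟨σ ≫ pullback.fst f t, by rw [Category.assoc, pullback.condition, reassoc_of% hσ]⟩, ?_⟩
  haveI : IsClosedImmersion (clPt A) := IsClosedImmersion.spec_of_surjective _ IsLocalRing.residue_surjective
  have hτ : (⟨clPt A ≫ σ, by rw [Category.assoc, hσ, Category.comp_id]⟩ : Lifts h (clPt A)) =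
      ⟨s', pullback.lift_snd _ _ _⟩ := lifts_ext h (clPt A) _ _ (by
    show (clPt A ≫ σ) _ = xT
    rw [Scheme.Hom.comp_apply, clPt_apply, hσx])
  refine Subtype.ext ?_
  show clPt A ≫ σ ≫ pullback.fst f t = s.1
  rw [← Category.assoc, show clPt A ≫ σ = s' from congrArg Subtype.val hτ, pullback.lift_fst]

end Sec

/-- The geometric number of points does not drop along a generization, and if it is the same then all
geometric points extend. -/
theorem nGeomConnComp_le_and [IsSeparated f] [LocallyQuasiFinite f] [LocallyOfFiniteType f] [QuasiCompact f]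
    {Ω : Type u} [Field Ω] [IsAlgClosed Ω] (A : ValuationSubring Ω) (t : Spec (CommRingCat.of A) ⟶ Y) (y' : Y)
    (hy' : ∀ c, (specAlg A Ω ≫ t) c = y')
    (hopen : ∀ x, f x = t (IsLocalRing.closedPoint A) → EGA43.IsUnivOpenAt f x) :
    MoreMor.nGeomConnComp f (t (IsLocalRing.closedPoint A)) ≤ MoreMor.nGeomConnComp f y' ∧
      (MoreMor.nGeomConnComp f (t (IsLocalRing.closedPoint A)) = MoreMor.nGeomConnComp f y' →
        Function.Surjective (resGen f A t)) := by
  haveI : IsAlgClosed (IsLocalRing.ResidueField A) := Groth.Agent.L26.ResidueLift.isAlgClosed_residue A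
  rw [nGeomConnComp_eq_card_lifts f (clPt A ≫ t) _ (fun c => by rw [Scheme.Hom.comp_apply, clPt_apply]),
    nGeomConnComp_eq_card_lifts f (specAlg A Ω ≫ t) y' hy']
  haveI := finite_lifts f (specAlg A Ω ≫ t)
  haveI : Finite (SecLifts f A t) := Finite.of_injective _ (resGen_injective f A t)
  haveI := finite_lifts f (clPt A ≫ t)
  have h1 : Nat.card (SecLifts f A t) ≤ Nat.card (Lifts f (specAlg A Ω ≫ t)) :=
    Nat.card_le_card_of_injective _ (resGen_injective f A t)
  have h2 : Nat.card (Lifts f (clPt A ≫ t)) ≤ Nat.card (SecLifts f A t) :=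
    Nat.card_le_card_of_surjective _ (resCl_surjective f A t hopen)
  rw [ENat.card_eq_coe_natCard, ENat.card_eq_coe_natCard]
  refine ⟨Nat.cast_le.mpr (h2.trans h1), fun he => ?_⟩
  exact ((resGen_injective f A t).bijective_of_nat_card_le ((Nat.cast_inj.mp he) ▸ h2)).2

/-- Lower semicontinuity along generizations. -/
theorem nGeomConnComp_le_of_specializes [IsSeparated f] [LocallyQuasiFinite f] [LocallyOfFiniteType f] [QuasiCompact f]
    {y' y : Y} (hy : y' ⤳ y) (hopen : ∀ x, f x = y → EGA43.IsUnivOpenAt f x) :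
    MoreMor.nGeomConnComp f y ≤ MoreMor.nGeomConnComp f y' := by
  let Ω := AlgebraicClosure (Y.residueField y')
  let g : Spec (CommRingCat.of Ω) ⟶ Y :=
    Spec.map (CommRingCat.ofHom (algebraMap (Y.residueField y') Ω)) ≫ Y.fromSpecResidueField y'
  have hg : ∀ c, g c = y' := fun c => by
    rw [Scheme.Hom.comp_apply]
    exact Scheme.fromSpecResidueField_apply _ _
  obtain ⟨A, t, htc, htg⟩ := exists_valuation g hg hy
  subst htc
  exact (nGeomConnComp_le_and f A t y' (fun c => by rw [htg]; exact hg c) hopen).1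

end Groth.L07.Count
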